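import Cfsg.Agent.Lib.Perm.Asch.Tensor

/-!
# Absolutely irreducible normal subgroups: invariant forms and subfields
-/

set_option autoImplicit false
set_option linter.all false

namespace CfsgLib.Perm.Asch

open scoped Classical Matrix Kronecker
open Matrix Cfsg.Geo

variable {ι : Type} [Fintype ι] [DecidableEq ι] {F : Type*} [Field F]

/-- `H` normalises the subgroup `N` of `GL` -/
def NormG (H N : Subgroup (GL ι F)) : Prop := ∀ g ∈ H, ∀ x ∈ N, g * x * g⁻¹ ∈ N

theorem cj_coe (g x : GL ι F) :
    cj g (x : Matrix ι ι F) = ((g * x * g⁻¹ : GL ι F) : Matrix ι ι F) := by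
  simp [cj]

theorem NormG.set {H N : Subgroup (GL ι F)} (h : NormG H N) : NormalisesSet H (matrixSet N) := by
  rintro g hg _ ⟨x, hx, rfl⟩
  exact ⟨g * x * g⁻¹, h g hg x hx, (cj_coe g x).symm⟩

/-- absolute irreducibility -/
def AbsIrr (N : Subgroup (GL ι F)) : Prop := ActsAbsolutelyIrreducibly (matrixSet N)

theorem AbsIrr.irred {N : Subgroup (GL ι F)} (h : AbsIrr N) : Irred N := h.1

theorem AbsIrr.scalar_of_commute {N : Subgroup (GL ι F)} (h : AbsIrr N) {M : Matrix ι ι F}
    (hc : ∀ x ∈ N, M * (x : Matrix ι ι F) = (x : Matrix ι ι F) * M) :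
    ∃ c : F, M = c • (1 : Matrix ι ι F) :=
  h.2 M (by rintro _ ⟨x, hx, rfl⟩; exact hc x hx)

theorem AbsIrr.mem_scalars_of_commute [Nonempty ι] {N : Subgroup (GL ι F)} (h : AbsIrr N) {g : GL ι F}
    (hc : ∀ x ∈ N, g * x = x * g) : g ∈ scalars ι F := by
  obtain ⟨c, hc'⟩ := h.scalar_of_commute (M := (g : Matrix ι ι F)) fun x hx => by
    rw [← Units.val_mul, hc x hx, Units.val_mul]
  exact mem_scalars_of_eq hc'

theorem AbsIrr.mono {N N' : Subgroup (GL ι F)} (h : AbsIrr N) (hle : N ≤ N') : AbsIrr N' := by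
  have hs : matrixSet N ⊆ matrixSet N' := Set.image_mono hle
  exact ⟨fun W hW => h.1 W fun s hs' => hW s (hs hs'),
    fun M hM => h.2 M fun s hs' => hM s (hs hs')⟩

/-- the right tensor factor as what commutes with the matrix units -/
theorem right_of_commute {κ : Type} [Fintype κ] [DecidableEq κ] [Nonempty κ] {m : ℕ}
    {u : κ → κ → Matrix ι ι F} {e : ι ≃ κ × Fin m} {P : GL ι F}
    (hP : ∀ a b, u a b = cj P (rx e (lu m a b))) {X : Matrix ι ι F}
    (hX : ∀ a b, u a b * X = X * u a b) :
    ∃ B, X = cj P (rx e ((1 : Matrix κ κ F) ⊗ₖ B)) := by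
  obtain ⟨B, hB⟩ := exists_right ((rx e).symm (cj P⁻¹ X)) (fun a b => by
    apply (rx e).injective
    rw [map_mul, map_mul, AlgEquiv.apply_symm_apply]
    apply cj_injective P
    rw [cj_mul, cj_mul, cj_cj_inv, ← hP]
    exact hX a b)
  exact ⟨B, by rw [← hB, AlgEquiv.apply_symm_apply, cj_cj_inv]⟩

theorem cj_rx_right_commute {κ : Type} [Fintype κ] [DecidableEq κ] {m : ℕ} (e : ι ≃ κ × Fin m) (P : GL ι F)
    (A : Matrix κ κ F) (B : Matrix (Fin m) (Fin m) F) :
    cj P (rx e (A ⊗ₖ (1 : Matrix (Fin m) (Fin m) F))) * cj P (rx e ((1 : Matrix κ κ F) ⊗ₖ B)) =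
      cj P (rx e ((1 : Matrix κ κ F) ⊗ₖ B)) * cj P (rx e (A ⊗ₖ (1 : Matrix (Fin m) (Fin m) F))) := by
  rw [← cj_mul, ← cj_mul, ← map_mul, ← map_mul, ← Matrix.mul_kronecker_mul, ← Matrix.mul_kronecker_mul]
  simp

section Finite
variable [Fintype F]

/-- Burnside: an absolutely irreducible group spans the whole matrix algebra. -/
theorem AbsIrr.adjoin_eq_top [Nonempty ι] {N : Subgroup (GL ι F)} (h : AbsIrr N) :
    Algebra.adjoin F (matrixSet N) = ⊤ := by
  set A := Algebra.adjoin F (matrixSet N)
  have hn : Normalises N A := by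
    intro g hg a ha
    have hg' : (g : Matrix ι ι F) ∈ A := Algebra.subset_adjoin ⟨g, hg, rfl⟩
    have hgi : ((g⁻¹ : GL ι F) : Matrix ι ι F) ∈ A := Algebra.subset_adjoin ⟨g⁻¹, N.inv_mem hg, rfl⟩
    exact A.mul_mem (A.mul_mem hg' ha) hgi
  obtain ⟨d, u, hd, hu, huA, hspan⟩ := exists_matUnits h.irred hn (fun z _ hzc =>
    h.scalar_of_commute fun x hx => hzc _ (Algebra.subset_adjoin ⟨x, hx, rfl⟩))
  haveI : Nonempty (Fin d) := ⟨⟨0, hd⟩⟩
  obtain ⟨m, ⟨e⟩, he⟩ := hu.exists_basis
  obtain ⟨P, hP⟩ := he e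
  have hcomm : ∀ (B : Matrix (Fin m) (Fin m) F), ∀ a ∈ A,
      cj P (rx e ((1 : Matrix (Fin d) (Fin d) F) ⊗ₖ B)) * a =
        a * cj P (rx e ((1 : Matrix (Fin d) (Fin d) F) ⊗ₖ B)) := by
    intro B a ha
    obtain ⟨X, hX⟩ := hspan a ha
    rw [hX, Finset.mul_sum, Finset.sum_mul]
    refine Finset.sum_congr rfl fun i _ => ?_
    rw [Finset.mul_sum, Finset.sum_mul]
    refine Finset.sum_congr rfl fun j _ => ?_
    rw [mul_smul_comm, smul_mul_assoc, hP, lu, cj_rx_right_commute]
  -- the right factor is trivial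
  have hm : m = 1 := by
    have hm0 : 0 < m := by
      rcases Nat.eq_zero_or_pos m with h0 | h0
      · subst h0; exact (IsEmpty.false (e (Classical.arbitrary ι))).elim
      · exact h0
    by_contra hm1
    let j0 : Fin m := ⟨0, hm0⟩
    let j1 : Fin m := ⟨1, by omega⟩
    obtain ⟨c, hc⟩ := h.scalar_of_commute (M := cj P (rx e ((1 : Matrix (Fin d) (Fin d) F) ⊗ₖ
        (Matrix.single j0 j0 (1 : F))))) fun x hx => hcomm _ _ (Algebra.subset_adjoin ⟨x, hx, rfl⟩)
    have hc' : ((1 : Matrix (Fin d) (Fin d) F) ⊗ₖ (Matrix.single j0 j0 (1 : F))) = c • 1 := by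
      apply (rx e).injective
      apply cj_injective P
      rw [hc, map_smul, map_one, cj_smul, cj_one]
    let a : Fin d := Classical.arbitrary _
    have h0 := congrFun (congrFun hc' (a, j0)) (a, j0)
    have h1 := congrFun (congrFun hc' (a, j1)) (a, j1)
    simp [j0, j1, Matrix.single_apply, Fin.ext_iff] at h0 h1
    subst h1
    simp at h0
  subst hm
  rw [eq_top_iff]
  intro X _
  set Y := (rx e).symm (cj P⁻¹ X)
  have hY : Y = ∑ a, ∑ b, Y (a, 0) (b, 0) • lu 1 a b := by
    ext ⟨r, i⟩ ⟨s, j⟩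
    obtain rfl := Fin.fin_one_eq_zero i
    obtain rfl := Fin.fin_one_eq_zero j
    simp only [Matrix.sum_apply, Matrix.smul_apply, lu_apply, smul_eq_mul]
    rw [Finset.sum_eq_single r, Finset.sum_eq_single s]
    · simp
    · intro b _ hb; simp [hb]
    · simp
    · intro b _ hb; simp [hb]
    · simp
  have hX : X = ∑ a, ∑ b, Y (a, 0) (b, 0) • u a b := by
    rw [← cj_cj_inv P X, show cj P⁻¹ X = rx e Y from ((rx e).apply_symm_apply _).symm]
    conv_lhs => rw [hY]
    simp only [← cjAlg_apply, map_sum, map_smul]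
    refine Finset.sum_congr rfl fun a _ => Finset.sum_congr rfl fun b _ => ?_
    rw [cjAlg_apply, ← hP]
  rw [hX]
  exact A.sum_mem fun a _ => A.sum_mem fun b _ => A.smul_mem (huA a b) _

end Finite

/-! ### forms -/

/-- the form with Gram matrix `G`, semilinear in the second variable -/
def gform (σ : F →+* F) (G : Matrix ι ι F) (u v : ι → F) : F :=
  u ⬝ᵥ (G *ᵥ (σ ∘ v))

omit [DecidableEq ι] in
theorem gform_add_left (σ : F →+* F) (G : Matrix ι ι F) (x y v : ι → F) :
    gform σ G (x + y) v = gform σ G x v + gform σ G y v := add_dotProduct _ _ _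

omit [DecidableEq ι] in
theorem gform_smul_left (σ : F →+* F) (G : Matrix ι ι F) (c : F) (x v : ι → F) :
    gform σ G (c • x) v = c * gform σ G x v := by simp [gform]

omit [DecidableEq ι] in
theorem gform_add_right (σ : F →+* F) (G : Matrix ι ι F) (v x y : ι → F) :
    gform σ G v (x + y) = gform σ G v x + gform σ G v y := by
  have : (σ : F → F) ∘ (x + y) = σ ∘ x + σ ∘ y := by funext i; simp
  simp [gform, this, mulVec_add, dotProduct_add]

omit [DecidableEq ι] in
theorem gform_smul_right (σ : F →+* F) (G : Matrix ι ι F) (c : F) (v x : ι → F) :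
    gform σ G v (c • x) = σ c * gform σ G v x := by
  have : (σ : F → F) ∘ (c • x) = σ c • (σ ∘ x) := by funext i; simp
  simp [gform, this, mulVec_smul]

theorem gform_mulVec (σ : F →+* F) (G A B : Matrix ι ι F) (u v : ι → F) :
    gform σ G (A *ᵥ u) (B *ᵥ v) = gform σ (Aᵀ * G * B.map σ) u v := by
  have : (σ : F → F) ∘ (B *ᵥ v) = B.map σ *ᵥ (σ ∘ v) := funext fun i => RingHom.map_mulVec σ B v i
  rw [gform, this, gform, ← mulVec_mulVec, ← mulVec_mulVec, Matrix.dotProduct_mulVec,
    Matrix.dotProduct_mulVec u Aᵀ, Matrix.vecMul_transpose, ← Matrix.dotProduct_mulVec]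

theorem gform_single (σ : F →+* F) (G : Matrix ι ι F) (i j : ι) :
    gform σ G (Pi.single i 1) (Pi.single j 1) = G i j := by
  have : (σ : F → F) ∘ (Pi.single j (1 : F)) = Pi.single j 1 := by
    funext k
    by_cases h : k = j
    · subst h; simp
    · simp [Pi.single_eq_of_ne h]
  simp [gform, this, Matrix.mulVec_single_one]

theorem gform_ext {σ : F →+* F} {G G' : Matrix ι ι F} (h : ∀ u v, gform σ G u v = gform σ G' u v) :
    G = G' := by
  ext i j
  rw [← gform_single σ G, h, gform_single]

/-- a sesquilinear function is given by its Gram matrix -/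
theorem exists_gform (σ : F →+* F) (f : (ι → F) → (ι → F) → F)
    (h1 : ∀ x y v, f (x + y) v = f x v + f y v) (h2 : ∀ (c : F) x v, f (c • x) v = c * f x v)
    (h3 : ∀ v x y, f v (x + y) = f v x + f v y) (h4 : ∀ (c : F) v x, f v (c • x) = σ c * f v x) :
    ∃ G, f = gform σ G := by
  refine ⟨Matrix.of fun i j => f (Pi.single i 1) (Pi.single j 1), ?_⟩
  funext u v
  have hu : u = ∑ i, u i • (Pi.single i 1 : ι → F) := pi_eq_sum_univ' u
  have hv : v = ∑ j, v j • (Pi.single j 1 : ι → F) := pi_eq_sum_univ' v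
  have hsum1 : ∀ (s : Finset ι) (a : ι → ι → F) w, f (∑ i ∈ s, a i) w = ∑ i ∈ s, f (a i) w := by
    intro s a w
    induction s using Finset.induction_on with
    | empty => simpa using h2 0 0 w
    | insert x s hx ih => rw [Finset.sum_insert hx, Finset.sum_insert hx, h1, ih]
  have hsum2 : ∀ (s : Finset ι) (a : ι → ι → F) w, f w (∑ i ∈ s, a i) = ∑ i ∈ s, f w (a i) := by
    intro s a w
    induction s using Finset.induction_on with
    | empty => simpa using h4 0 w 0
    | insert x s hx ih => rw [Finset.sum_insert hx, Finset.sum_insert hx, h3, ih]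
  conv_lhs => rw [hu, hv]
  rw [hsum1]
  simp only [h2, hsum2, h4, gform, dotProduct, Matrix.mulVec, Matrix.of_apply, Function.comp_apply,
    Finset.mul_sum]
  refine Finset.sum_congr rfl fun i _ => Finset.sum_congr rfl fun j _ => ?_
  ring

/-- `G` is the Gram matrix of a form fixed by `P` -/
def InvForm (P : Subgroup (GL ι F)) (σ : F →+* F) (G : Matrix ι ι F) : Prop :=
  ∀ p ∈ P, (p : Matrix ι ι F)ᵀ * G * (p : Matrix ι ι F).map σ = G

theorem invForm_iff {P : Subgroup (GL ι F)} {σ : F →+* F} {G : Matrix ι ι F} :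
    InvForm P σ G ↔ FixesForm (matrixSet P) (gform σ G) := by
  constructor
  · rintro h _ ⟨p, hp, rfl⟩ u v
    rw [gform_mulVec, h p hp]
  · intro h p hp
    exact gform_ext fun u v => by rw [← gform_mulVec]; exact h _ ⟨p, hp, rfl⟩ u v

theorem inv_map_mul (σ : F →+* F) (g : GL ι F) :
    ((g⁻¹ : GL ι F) : Matrix ι ι F).map σ * (g : Matrix ι ι F).map σ = 1 := by
  rw [← Matrix.map_mul, gl_inv_mul]; simp

section Finite
variable [Fintype F]

theorem sigma_bij (σ : F →+* F) : Function.Bijective σ :=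
  Finite.injective_iff_bijective.1 σ.injective

theorem InvForm.det_ne_zero {P : Subgroup (GL ι F)} (hP : Irred P) {σ : F →+* F} {G : Matrix ι ι F}
    (hG : InvForm P σ G) (h0 : G ≠ 0) : G.det ≠ 0 := by
  intro hdet
  obtain ⟨u, hu, hGu⟩ := Matrix.exists_mulVec_eq_zero_iff.2 hdet
  let W : Submodule F (ι → F) :=
    { carrier := {w | G *ᵥ (σ ∘ w) = 0}
      add_mem' := fun {a b} ha hb => by
        show G *ᵥ ((σ : F → F) ∘ (a + b)) = 0
        have : (σ : F → F) ∘ (a + b) = σ ∘ a + σ ∘ b := by funext i; simp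
        rw [this, mulVec_add, ha, hb, add_zero]
      zero_mem' := by
        show G *ᵥ ((σ : F → F) ∘ (0 : ι → F)) = 0
        have : (σ : F → F) ∘ (0 : ι → F) = 0 := by funext i; simp
        rw [this, mulVec_zero]
      smul_mem' := fun c a ha => by
        show G *ᵥ ((σ : F → F) ∘ (c • a)) = 0
        have : (σ : F → F) ∘ (c • a) = σ c • (σ ∘ a) := by funext i; simp
        rw [this, mulVec_smul, ha, smul_zero] }
  rcases hP.eq_bot_or_top W (fun p hp w hw => by
    show G *ᵥ ((σ : F → F) ∘ ((p : Matrix ι ι F) *ᵥ w)) = 0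
    have : (σ : F → F) ∘ ((p : Matrix ι ι F) *ᵥ w) = (p : Matrix ι ι F).map σ *ᵥ (σ ∘ w) :=
      funext fun i => RingHom.map_mulVec σ _ w i
    rw [this, mulVec_mulVec]
    have h1 : ((p⁻¹ : GL ι F) : Matrix ι ι F)ᵀ * ((p : Matrix ι ι F)ᵀ * G * (p : Matrix ι ι F).map σ)
        = G * (p : Matrix ι ι F).map σ := by
      rw [← mul_assoc, ← mul_assoc, ← Matrix.transpose_mul, gl_mul_inv, Matrix.transpose_one, one_mul]
    rw [hG p hp] at h1
    rw [← h1, ← mulVec_mulVec, show G *ᵥ ((σ : F → F) ∘ w) = 0 from hw, mulVec_zero]) with h | h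
  · obtain ⟨w, hw⟩ : ∃ w : ι → F, (σ : F → F) ∘ w = u :=
      ⟨fun i => Function.surjInv (sigma_bij σ).2 (u i), funext fun i => Function.surjInv_eq _ _⟩
    have hwW : w ∈ W := by show G *ᵥ ((σ : F → F) ∘ w) = 0; rw [hw]; exact hGu
    rw [h, Submodule.mem_bot] at hwW
    subst hwW
    exact hu (by rw [← hw]; funext i; simp)
  · refine h0 (gform_ext (σ := σ) fun a b => ?_)
    have hb : G *ᵥ ((σ : F → F) ∘ b) = 0 := (h ▸ Submodule.mem_top : b ∈ W)
    simp [gform, hb]

/-- uniqueness of the invariant form -/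
theorem InvForm.unique [Nonempty ι] {P : Subgroup (GL ι F)} (hP : AbsIrr P) {σ : F →+* F}
    {G G' : Matrix ι ι F} (hG : InvForm P σ G) (h0 : G ≠ 0) (hG' : InvForm P σ G') :
    ∃ c : F, G' = c • G := by
  have hdet := hG.det_ne_zero hP.irred h0
  obtain ⟨U, hU⟩ := (Matrix.isUnit_iff_isUnit_det G).2 (Ne.isUnit hdet)
  set M := ((U⁻¹ : GL ι F) : Matrix ι ι F) * G'
  let τ : F →+* F := (RingEquiv.ofBijective σ (sigma_bij σ)).symm.toRingHom
  have hτ : ∀ x, τ (σ x) = x := fun x => (RingEquiv.ofBijective σ (sigma_bij σ)).symm_apply_apply x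
  have hστ : ∀ x, σ (τ x) = x := fun x => (RingEquiv.ofBijective σ (sigma_bij σ)).apply_symm_apply x
  have hM : ∀ p ∈ P, M * (p : Matrix ι ι F).map σ = (p : Matrix ι ι F).map σ * M := by
    intro p hp
    set pt := (p : Matrix ι ι F)ᵀ
    set pit := ((p⁻¹ : GL ι F) : Matrix ι ι F)ᵀ
    have hcan : pit * pt = 1 := by rw [← Matrix.transpose_mul, gl_mul_inv, Matrix.transpose_one]
    have e : ∀ X : Matrix ι ι F, pt * X * (p : Matrix ι ι F).map σ = X →
        X * (p : Matrix ι ι F).map σ = pit * X := by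
      intro X hX
      calc X * (p : Matrix ι ι F).map σ = pit * pt * X * (p : Matrix ι ι F).map σ := by rw [hcan, one_mul]
        _ = pit * (pt * X * (p : Matrix ι ι F).map σ) := by simp [mul_assoc]
        _ = pit * X := by rw [hX]
    have e1 := e G (hG p hp)
    have e2 := e G' (hG' p hp)
    have e3 : (p : Matrix ι ι F).map σ * ((U⁻¹ : GL ι F) : Matrix ι ι F) =
        ((U⁻¹ : GL ι F) : Matrix ι ι F) * pit := by
      calc (p : Matrix ι ι F).map σ * ((U⁻¹ : GL ι F) : Matrix ι ι F)
          = ((U⁻¹ : GL ι F) : Matrix ι ι F) * (G * (p : Matrix ι ι F).map σ) * ((U⁻¹ : GL ι F) : Matrix ι ι F) := by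
            rw [← mul_assoc (((U⁻¹ : GL ι F)) : Matrix ι ι F), ← hU, gl_inv_mul, one_mul]
        _ = _ := by
            rw [e1, mul_assoc, mul_assoc pit, ← hU, gl_mul_inv, mul_one]
    show ((U⁻¹ : GL ι F) : Matrix ι ι F) * G' * _ = _ * (((U⁻¹ : GL ι F) : Matrix ι ι F) * G')
    rw [mul_assoc, e2, ← mul_assoc, ← mul_assoc, e3]
  obtain ⟨c, hc⟩ := hP.scalar_of_commute (M := M.map τ) (fun p hp => by
    have h := congrArg (fun X : Matrix ι ι F => X.map τ) (hM p hp)
    simp only [Matrix.map_mul, Matrix.map_map] at h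
    have e : ((p : Matrix ι ι F)).map ((τ : F → F) ∘ σ) = (p : Matrix ι ι F) := by
      ext i j; simp [hτ]
    rw [e] at h
    exact h)
  refine ⟨σ c, ?_⟩
  have hMσ : M = σ c • (1 : Matrix ι ι F) := by
    ext i j
    have := congrArg (fun X : Matrix ι ι F => σ (X i j)) hc
    simp only [Matrix.map_apply, hστ, Matrix.smul_apply, smul_eq_mul, map_mul] at this
    rw [this, Matrix.smul_apply, smul_eq_mul, Matrix.one_apply]
    split_ifs <;> simp
  calc G' = (U : Matrix ι ι F) * M := by rw [← mul_assoc, gl_mul_inv, one_mul]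
    _ = σ c • G := by rw [hMσ, mul_smul_comm, mul_one, hU]

/-- everything normalising `P` is a similarity of the invariant form -/
theorem InvForm.le_similarity [Nonempty ι] {H P : Subgroup (GL ι F)} (hn : NormG H P) (hP : AbsIrr P)
    {σ : F →+* F} {G : Matrix ι ι F} (hG : InvForm P σ G) (h0 : G ≠ 0) :
    H ≤ similarityGroup (gform σ G) := by
  intro h hh
  set G' := (h : Matrix ι ι F)ᵀ * G * (h : Matrix ι ι F).map σ
  have hG' : InvForm P σ G' := by
    intro p hp
    have hq := hG _ (hn h hh p hp)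
    rw [Units.val_mul, Units.val_mul, Matrix.map_mul, Matrix.map_mul, Matrix.transpose_mul,
      Matrix.transpose_mul] at hq
    show (p : Matrix ι ι F)ᵀ * ((h : Matrix ι ι F)ᵀ * G * (h : Matrix ι ι F).map σ) * _ = _
    have hi : (h : Matrix ι ι F)ᵀ * ((h⁻¹ : GL ι F) : Matrix ι ι F)ᵀ = 1 := by
      rw [← Matrix.transpose_mul, gl_inv_mul, Matrix.transpose_one]
    conv_rhs => rw [show G' = (h : Matrix ι ι F)ᵀ * G * (h : Matrix ι ι F).map σ from rfl, ← hq]
    simp only [mul_assoc]
    rw [inv_map_mul, mul_one, ← mul_assoc ((h : Matrix ι ι F)ᵀ) (((h⁻¹ : GL ι F) : Matrix ι ι F)ᵀ), hi,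
      one_mul]
  obtain ⟨c, hc⟩ := hG.unique hP h0 hG'
  have hc0 : c ≠ 0 := by
    rintro rfl
    rw [zero_smul] at hc
    have := congrArg Matrix.det hc
    rw [Matrix.det_mul, Matrix.det_mul, Matrix.det_transpose, Matrix.det_zero] at this
    rcases mul_eq_zero.1 this with h1 | h1
    · rcases mul_eq_zero.1 h1 with h2 | h2
      · exact ((Matrix.isUnit_iff_isUnit_det _).1 h.isUnit).ne_zero h2
      · exact hG.det_ne_zero hP.irred h0 h2
    · rw [← RingHom.mapMatrix_apply, ← RingHom.map_det, map_eq_zero] at h1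
      exact ((Matrix.isUnit_iff_isUnit_det _).1 h.isUnit).ne_zero h1
  refine ⟨Units.mk0 c hc0, fun u v => ?_⟩
  rw [gform_mulVec]
  show gform σ G' u v = _
  rw [hc]
  simp [gform, Matrix.smul_mulVec, dotProduct_smul]

theorem gform_nondegenerate {σ : F →+* F} {G : Matrix ι ι F} (hdet : G.det ≠ 0) :
    IsNondegenerateForm (gform σ G) := by
  intro v hv
  obtain ⟨U, hU⟩ := (Matrix.isUnit_iff_isUnit_det G).2 (Ne.isUnit hdet)
  constructor
  · by_contra h
    push Not at h
    have h1 : G *ᵥ ((σ : F → F) ∘ v) = 0 := by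
      funext i
      have := h (Pi.single i 1)
      simpa [gform] using this
    have h2 : (σ : F → F) ∘ v = 0 := by
      have := congrArg (((U⁻¹ : GL ι F) : Matrix ι ι F) *ᵥ ·) h1
      simpa [mulVec_mulVec, ← hU, gl_inv_mul] using this
    exact hv (funext fun i => σ.injective (by rw [Pi.zero_apply, map_zero]; exact congrFun h2 i))
  · by_contra h
    push Not at h
    have h1 : v ᵥ* G = 0 := by
      funext i
      obtain ⟨c, hc⟩ := (sigma_bij σ).2 1
      have := h (Pi.single i c)
      have e : (σ : F → F) ∘ (Pi.single i c) = Pi.single i 1 := by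
        funext k
        by_cases hk : k = i
        · subst hk; simp [hc]
        · simp [Pi.single_eq_of_ne hk]
      rw [gform, e, Matrix.dotProduct_mulVec] at this
      simpa using this
    have := congrArg (· ᵥ* ((U⁻¹ : GL ι F) : Matrix ι ι F)) h1
    exact hv (by simpa [Matrix.vecMul_vecMul, ← hU, gl_mul_inv] using this)

theorem gform_bilinear (G : Matrix ι ι F) : IsBilinearForm (gform (RingHom.id F) G) :=
  ⟨gform_add_left _ G, gform_smul_left _ G, gform_add_right _ G, gform_smul_right _ G⟩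

omit [Fintype F] in
theorem gform_swap (G : Matrix ι ι F) (u v : ι → F) :
    gform (RingHom.id F) G v u = gform (RingHom.id F) Gᵀ u v := by
  simp only [gform, RingHom.coe_id, Function.id_comp]
  rw [Matrix.dotProduct_mulVec, ← Matrix.mulVec_transpose, dotProduct_comm]

theorem two_ne_zero_of_odd (hodd : Odd (Fintype.card F)) : (2 : F) ≠ 0 := by
  intro h
  have : ringChar F = 2 := by
    have hd : ringChar F ∣ 2 := ringChar.dvd (by exact_mod_cast h)
    rcases (Nat.dvd_prime Nat.prime_two).1 hd with h1 | h1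
    · exact absurd h1 (CharP.ringChar_ne_one)
    · exact h1
  have := (FiniteField.even_card_iff_char_two (F := F)).1 this
  rw [Nat.odd_iff] at hodd
  omega

/-- An invariant bilinear form puts `H` into the similarity group of a symplectic or quadratic form. -/
theorem class8_of_invForm [Nonempty ι] (hι : 2 ≤ Fintype.card ι) {H P : Subgroup (GL ι F)} (hn : NormG H P)
    (hP : AbsIrr P) {G : Matrix ι ι F} (hG : InvForm P (RingHom.id F) G) (h0 : G ≠ 0) :
    (∃ f, IsSymplecticForm f ∧ Even (Fintype.card ι) ∧ H ≤ similarityGroup f) ∨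
    (∃ Q, IsNondegenerateQuadraticForm Q ∧ Odd (Fintype.card F) ∧ H ≤ quadSimilarityGroup (F := F) (ι := ι) Q) := by
  have hdet := hG.det_ne_zero hP.irred h0
  have hsim := hG.le_similarity hn hP h0
  have hGt : InvForm P (RingHom.id F) Gᵀ := by
    intro p hp
    have := congrArg Matrix.transpose (hG p hp)
    simp only [RingHom.coe_id, Matrix.map_id, Matrix.transpose_mul, Matrix.transpose_transpose] at this ⊢
    rw [mul_assoc]; exact this
  obtain ⟨c, hc⟩ := hG.unique hP h0 hGt
  have hcc : c * c = 1 := by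
    have h2 : (c * c) • G = G := by
      rw [← smul_smul, ← hc, ← Matrix.transpose_smul, ← hc, Matrix.transpose_transpose]
    by_contra hne
    refine h0 ?_
    have h3 : (c * c - 1) • G = 0 := by rw [sub_smul, h2, one_smul, sub_self]
    ext i j
    have := congrFun (congrFun h3 i) j
    simp only [Matrix.smul_apply, smul_eq_mul, Matrix.zero_apply, mul_eq_zero] at this
    exact this.resolve_left (sub_ne_zero.2 hne)
  set f := gform (RingHom.id F) G
  have hfc : ∀ u v, f v u = c * f u v := by
    intro u v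
    show gform _ G v u = _
    rw [gform_swap, hc]
    simp [f, gform, Matrix.smul_mulVec, dotProduct_smul]
  by_cases hodd : Odd (Fintype.card F)
  · have h2 := two_ne_zero_of_odd hodd
    rcases mul_self_eq_one_iff.1 hcc with hc1 | hc1
    · right
      subst hc1
      refine ⟨fun v => f v v, ?_, hodd, ?_⟩
      · have hpol : QuadraticMap.polar (fun v => f v v) = fun u v => 2 * f u v := by
          funext u v
          simp only [QuadraticMap.polar, f, gform_add_left, gform_add_right]
          have := hfc u v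
          simp only [f, one_mul] at this
          rw [this]; ring
        refine ⟨fun a v => ?_, ?_, ?_⟩
        · show f (a • v) (a • v) = a ^ 2 * f v v
          simp only [f, gform_smul_left, gform_smul_right, RingHom.id_apply]; ring
        · rw [hpol]
          exact ⟨fun x y v => by simp only [f, gform_add_left]; ring,
            fun a x v => by simp only [f, gform_smul_left]; ring,
            fun v x y => by simp only [f, gform_add_right]; ring,
            fun a v x => by simp only [f, gform_smul_right, RingHom.id_apply]; ring⟩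
        · rw [hpol]
          intro v hv
          obtain ⟨⟨x, hx⟩, ⟨y, hy⟩⟩ := gform_nondegenerate (σ := RingHom.id F) hdet v hv
          exact ⟨⟨x, mul_ne_zero h2 hx⟩, ⟨y, mul_ne_zero h2 hy⟩⟩
      · intro h hh
        obtain ⟨a, ha⟩ := hsim hh
        exact ⟨a, fun v => ha v v⟩
    · left
      subst hc1
      refine ⟨f, ⟨gform_bilinear G, fun v w => by rw [hfc w v]; ring, fun v => ?_,
        gform_nondegenerate hdet⟩, ?_, hsim⟩
      · have := hfc v v
        have h3 : 2 * f v v = 0 := by linear_combination this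
        exact (mul_eq_zero.1 h3).resolve_left h2
      · have h1 : Gᵀ.det = G.det := Matrix.det_transpose G
        rw [hc, Matrix.det_smul] at h1
        have h4 : ((-1 : F)) ^ Fintype.card ι = 1 := by
          have := h1.trans (one_mul G.det).symm
          exact mul_right_cancel₀ hdet this
        by_contra he
        rw [Nat.not_even_iff_odd] at he
        rw [he.neg_one_pow] at h4
        exact h2 (by linear_combination -h4)
  · left
    obtain ⟨p, hp⟩ := CharP.exists F
    have hchar : ringChar F = 2 := by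
      rw [FiniteField.even_card_iff_char_two]
      rcases Nat.even_or_odd (Fintype.card F) with h | h
      · exact Nat.even_iff.1 h
      · exact absurd h hodd
    haveI : CharP F 2 := hchar ▸ ringChar.charP F
    have hc1 : c = 1 := by
      rcases mul_self_eq_one_iff.1 hcc with h | h
      · exact h
      · rw [h, CharTwo.neg_eq]
    subst hc1
    have hsymm : ∀ u v, f v u = f u v := fun u v => by rw [hfc]; ring
    have hdadd : ∀ a b, f (a + b) (a + b) = f a a + f b b := by
      intro a b
      simp only [f, gform_add_left, gform_add_right]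
      have := hsymm a b
      simp only [f] at this
      rw [this]
      linear_combination (gform (RingHom.id F) G a b) * (CharTwo.two_eq_zero (R := F))
    let W : Submodule F (ι → F) :=
      { carrier := {v | f v v = 0}
        add_mem' := fun {a b} ha hb => by
          show f (a + b) (a + b) = 0
          rw [hdadd, ha, hb, add_zero]
        zero_mem' := by show f 0 0 = 0; simp [f, gform]
        smul_mem' := fun a v hv => by
          show f (a • v) (a • v) = 0
          simp only [f, gform_smul_left, gform_smul_right]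
          rw [show gform (RingHom.id F) G v v = 0 from hv]; ring }
    have halt : ∀ v, f v v = 0 := by
      rcases hP.irred.eq_bot_or_top W (fun p hp w hw => by
        show f _ _ = 0
        exact (invForm_iff.1 hG _ ⟨p, hp, rfl⟩ w w).trans hw) with h | h
      · exfalso
        obtain ⟨i, j, hij⟩ := Fintype.exists_pair_of_one_lt_card (α := ι) (by omega)
        set a := f (Pi.single i 1) (Pi.single i 1)
        set b := f (Pi.single j 1) (Pi.single j 1)
        have hsq : ∀ x : F, ∃ y, y * y = x := fun x => by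
          obtain ⟨y, hy⟩ := FiniteField.isSquare_of_char_two hchar x
          exact ⟨y, hy.symm⟩
        obtain ⟨s, hs⟩ := hsq a
        obtain ⟨t, ht⟩ := hsq b
        have hw : t • (Pi.single i 1 : ι → F) + s • (Pi.single j 1 : ι → F) ∈ W := by
          show f _ _ = 0
          rw [hdadd]
          simp only [f, gform_smul_left, gform_smul_right, RingHom.id_apply]
          show t * (t * a) + s * (s * b) = 0
          rw [← hs, ← ht]
          linear_combination (s * s * t * t) * (CharTwo.two_eq_zero (R := F))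
        rw [h, Submodule.mem_bot] at hw
        have h1 := congrFun hw i
        have h2 := congrFun hw j
        simp [hij, Ne.symm hij] at h1 h2
        have ha : (Pi.single i 1 : ι → F) ∈ W := by
          show a = 0
          rw [← hs, h2]; ring
        rw [h, Submodule.mem_bot, Pi.single_eq_zero_iff] at ha
        exact one_ne_zero ha
      · exact fun v => (h ▸ Submodule.mem_top : v ∈ W)
    refine ⟨f, ⟨gform_bilinear G, fun v w => by rw [hsymm w v, CharTwo.neg_eq], halt,
      gform_nondegenerate hdet⟩, ?_, hsim⟩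
    by_contra he
    rw [Nat.not_even_iff_odd] at he
    refine hdet ?_
    have hGs : ∀ i j, G i j = G j i := fun i j => by
      rw [← gform_single (RingHom.id F) G, ← gform_single (RingHom.id F) G j i]; exact hsymm _ _
    have hG0 : ∀ i, G i i = 0 := fun i => by
      rw [← gform_single (RingHom.id F) G]; exact halt _
    rw [Matrix.det_apply]
    refine Finset.sum_involution (fun π _ => π⁻¹) ?_ ?_ (fun π _ => Finset.mem_univ _) (fun π _ => inv_inv π)
    · intro π _
      have : ∏ i, G (π⁻¹ i) i = ∏ i, G (π i) i := by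
        rw [← Equiv.prod_comp π (fun i => G (π⁻¹ i) i)]
        exact Finset.prod_congr rfl fun i _ => by simp [hGs i (π i)]
      rw [Equiv.Perm.sign_inv, this, ← smul_add, CharTwo.add_self_eq_zero, smul_zero]
    · intro π _ hne hinv
      obtain ⟨i, hi⟩ : ∃ i, π i = i := by
        by_contra hfix
        push Not at hfix
        have h2π : π ^ 2 = 1 := by rw [pow_two]; nth_rw 1 [← hinv]; exact inv_mul_cancel π
        have hsupp : π.support = Finset.univ := Finset.eq_univ_iff_forall.2 fun i => Equiv.Perm.mem_support.2 (hfix i)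
        have := Equiv.Perm.two_dvd_card_support h2π
        rw [hsupp, Finset.card_univ] at this
        exact (Nat.not_even_iff_odd.2 he) (even_iff_two_dvd.2 this)
      exact hne (by rw [Finset.prod_eq_zero (Finset.mem_univ i) (by rw [hi]; exact hG0 i), smul_zero])

/-- A sesquilinear invariant form gives an invariant hermitian form. -/
theorem class8_of_invHerm [Nonempty ι] {H P : Subgroup (GL ι F)} (hn : NormG H P) (hP : AbsIrr P)
    (σ : F ≃+* F) (hσ2 : ∀ a, σ (σ a) = a) (hσ : σ ≠ RingEquiv.refl F) {G : Matrix ι ι F}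
    (hG : InvForm P σ.toRingHom G) (h0 : G ≠ 0) :
    ∃ f, IsUnitaryForm σ f ∧ H ≤ similarityGroup (F := F) (ι := ι) f := by
  set s := σ.toRingHom
  have hs2 : ∀ a, s (s a) = a := hσ2
  have hmm : ∀ X : Matrix ι ι F, (X.map s).map s = X := fun X => by ext i j; simp [hs2]
  have hG' : InvForm P s (Gᵀ.map s) := by
    intro p hp
    have h := congrArg (fun X : Matrix ι ι F => Xᵀ.map s) (hG p hp)
    simp only [Matrix.transpose_mul, Matrix.transpose_transpose, Matrix.map_mul, Matrix.transpose_map, hmm] at h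
    simp only [Matrix.transpose_map, mul_assoc] at h ⊢
    exact h
  obtain ⟨c, hc⟩ := hG.unique hP h0 hG'
  have hcs : s c * c = 1 := by
    have h2 := congrArg (fun X : Matrix ι ι F => Xᵀ.map s) hc
    simp only [Matrix.transpose_map, Matrix.transpose_transpose, Matrix.transpose_smul, hmm] at h2
    obtain ⟨i, j, hij⟩ : ∃ i j, G i j ≠ 0 := by
      by_contra h
      push Not at h
      exact h0 (by ext i j; exact h i j)
    have e2 := congrFun (congrFun h2 i) j
    simp only [Matrix.map_apply, Matrix.transpose_apply, Matrix.smul_apply, smul_eq_mul, map_mul] at e2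
    have e1 := congrFun (congrFun hc i) j
    simp only [Matrix.map_apply, Matrix.transpose_apply, Matrix.smul_apply, smul_eq_mul] at e1
    rw [e1, ← mul_assoc] at e2
    exact mul_right_cancel₀ hij (e2.symm.trans (one_mul _).symm)
  -- Hilbert 90
  obtain ⟨t, ht⟩ : ∃ t, t + c * s t ≠ 0 := by
    by_contra h
    push Not at h
    have h1 : c = -1 := by
      have := h 1
      rw [map_one, mul_one] at this
      linear_combination this
    refine hσ (RingEquiv.ext fun a => ?_)
    have := h a
    rw [h1] at this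
    show s a = a
    linear_combination -this
  set l := t + c * s t
  have hl : s l * c = l := by
    simp only [l, map_add, map_mul, hs2]
    linear_combination t * hcs
  set G2 := l • G
  have hG2 : InvForm P s G2 := fun p hp => by
    simp only [G2, mul_smul_comm, smul_mul_assoc, hG p hp]
  have h20 : G2 ≠ 0 := fun h => by
    obtain ⟨i, j, hij⟩ : ∃ i j, G i j ≠ 0 := by
      by_contra h'
      push Not at h'
      exact h0 (by ext i j; exact h' i j)
    have := congrFun (congrFun h i) j
    simp [G2, ht, hij] at this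
  have hherm : ∀ i j, s (G2 j i) = G2 i j := by
    intro i j
    have := congrFun (congrFun hc i) j
    simp only [Matrix.map_apply, Matrix.transpose_apply, Matrix.smul_apply, smul_eq_mul] at this
    simp only [G2, Matrix.smul_apply, smul_eq_mul, map_mul, this, ← mul_assoc, hl]
  refine ⟨gform s G2, ⟨hσ, hσ2, gform_add_left _ _, gform_smul_left _ _, ?_,
    gform_nondegenerate (hG2.det_ne_zero hP.irred h20)⟩, hG2.le_similarity hn hP h20⟩
  intro v w
  show gform s G2 v w = s (gform s G2 w v)
  simp only [gform, dotProduct, Matrix.mulVec, Function.comp_apply, Finset.mul_sum, map_sum, map_mul, hs2, hherm]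
  rw [Finset.sum_comm]
  refine Finset.sum_congr rfl fun i _ => Finset.sum_congr rfl fun j _ => ?_
  ring

/-! ### subfields -/

/-- a proper subfield lies in a subfield of prime index -/
theorem exists_prime_index_subfield (F₀ : Subfield F) (h : F₀ ≠ ⊤) :
    ∃ (F₁ : Subfield F) (r : ℕ), F₀ ≤ F₁ ∧ r.Prime ∧ Fintype.card F = Nat.card F₁ ^ r := by
  obtain ⟨F₁, ⟨hle, hne⟩, hmax⟩ := Set.Finite.exists_maximal (s := {K : Subfield F | F₀ ≤ K ∧ K ≠ ⊤})
    (Set.toFinite _) ⟨F₀, le_rfl, h⟩
  haveI : Fintype F₁ := Fintype.ofFinite _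
  set q := Fintype.card F₁
  set d := Module.finrank F₁ F
  have hd : Fintype.card F = Nat.card F₁ ^ d := by
    rw [← Nat.card_eq_fintype_card, Module.natCard_eq_pow_finrank (K := F₁)]
  have hd1 : d ≠ 1 := by
    intro h1
    apply hne
    rw [h1, pow_one] at hd
    refine SetLike.coe_injective (Set.eq_of_subset_of_ncard_le (Set.subset_univ _) ?_ (Set.toFinite _))
    rw [Subfield.coe_top, Set.ncard_univ, Nat.card_eq_fintype_card, hd, ← Nat.card_coe_set_eq]
    exact le_rfl
  obtain ⟨r, hr, hrd⟩ := Nat.exists_prime_and_dvd hd1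
  refine ⟨F₁, d, hle, ?_, hd⟩
  -- otherwise there is an intermediate field
  by_contra hdp
  obtain ⟨p, hcharp⟩ := CharP.exists F
  obtain ⟨a, hp, ha⟩ := FiniteField.card F₁ p
  haveI : Fact p.Prime := ⟨hp⟩
  have hQ : q ^ r = p ^ ((a : ℕ) * r) := by rw [pow_mul, show q = p ^ (a : ℕ) from ha]
  let K : Subfield F :=
    { carrier := {x | x ^ (q ^ r) = x}
      mul_mem' := fun {x y} hx hy => by
        show (x * y) ^ _ = _; rw [mul_pow, hx, hy]
      one_mem' := one_pow _
      add_mem' := fun {x y} hx hy => by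
        show (x + y) ^ _ = _
        rw [hQ, add_pow_char_pow, ← hQ, hx, hy]
      zero_mem' := zero_pow (pow_ne_zero _ (Fintype.card_pos).ne')
      neg_mem' := fun {x} hx => by
        show (-x) ^ _ = _
        rw [neg_pow, hx, hQ]
        rw [neg_one_pow_char_pow, neg_one_mul]
      inv_mem' := fun x hx => by show x⁻¹ ^ _ = _; rw [inv_pow, hx] }
  have hF1K : F₁ ≤ K := fun x hx => by
    show x ^ (q ^ r) = x
    have := congrArg Subtype.val (FiniteField.pow_card_pow r (⟨x, hx⟩ : F₁))
    simpa using this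
  -- there are elements of degree more than `r`
  have hKne : K ≠ ⊤ := by
    intro htop
    have hall : ∀ x : F, x ^ (q ^ r) = x := fun x => (htop ▸ Subfield.mem_top x : x ∈ K)
    have hq1 : 1 < q := Fintype.one_lt_card
    have hp0 : (Polynomial.X ^ (q ^ r) - Polynomial.X : Polynomial F) ≠ 0 :=
      FiniteField.X_pow_card_sub_X_ne_zero F (Nat.one_lt_pow hr.ne_zero hq1)
    have : Fintype.card F ≤ q ^ r := by
      rw [← FiniteField.X_pow_card_sub_X_natDegree_eq F (Nat.one_lt_pow hr.ne_zero hq1)]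
      refine le_trans ?_ (Polynomial.card_roots' _)
      refine le_trans ?_ (Multiset.toFinset_card_le _)
      refine Finset.card_le_card fun x _ => ?_
      rw [Multiset.mem_toFinset, Polynomial.mem_roots hp0, Polynomial.IsRoot]
      simp [hall x]
    rw [hd, Nat.card_eq_fintype_card] at this
    have := (Nat.pow_le_pow_iff_right hq1).1 this
    have hd0 : d ≠ 0 := Module.finrank_pos.ne'
    exact hdp ((le_antisymm this (Nat.le_of_dvd (Nat.pos_of_ne_zero hd0) hrd)).symm ▸ hr)
  have hKF : F₁ ≠ K := by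
    intro e
    have hq1 : 1 < q := Fintype.one_lt_card
    -- an element of multiplicative order `q ^ r - 1`
    obtain ⟨g, hg⟩ := IsCyclic.exists_ofOrder_eq_natCard (α := Fˣ)
    rw [Nat.card_units, Nat.card_eq_fintype_card (α := F), hd, Nat.card_eq_fintype_card] at hg
    have hdvd : q ^ r - 1 ∣ q ^ d - 1 := by
      obtain ⟨k, hk⟩ := hrd
      rw [hk, pow_mul]
      exact Nat.sub_one_dvd_pow_sub_one _ _
    obtain ⟨k, hk⟩ := hdvd
    have hQ1 : 1 < q ^ r := Nat.one_lt_pow hr.ne_zero hq1
    have hxK : ((g ^ k : Fˣ) : F) ∈ K := by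
      show ((g ^ k : Fˣ) : F) ^ (q ^ r) = _
      rw [← Units.val_pow_eq_pow_val]
      congr 1
      rw [show q ^ r = (q ^ r - 1) + 1 by omega, pow_succ, ← pow_mul, mul_comm k, ← hk, ← hg,
        pow_orderOf_eq_one, one_mul]
    rw [← e] at hxK
    have h2 := congrArg Subtype.val (FiniteField.pow_card (⟨_, hxK⟩ : F₁))
    simp only [SubmonoidClass.coe_pow] at h2
    have h3 : (g ^ k) ^ (q - 1) = 1 := by
      refine mul_right_cancel (b := g ^ k) ?_
      rw [← pow_succ, one_mul, show q - 1 + 1 = q by omega]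
      exact Units.ext (by rw [Units.val_pow_eq_pow_val]; exact h2)
    rw [← pow_mul] at h3
    have h4 := orderOf_dvd_of_pow_eq_one h3
    rw [hg, hk, mul_comm (q ^ r - 1)] at h4
    have hk0 : 0 < k := by
      rcases Nat.eq_zero_or_pos k with h0 | h0
      · rw [h0, mul_zero] at hk
        have := Nat.one_lt_pow (show d ≠ 0 from Module.finrank_pos.ne') hq1
        omega
      · exact h0
    have h5 : q < q ^ r := lt_self_pow₀ hq1 hr.one_lt
    have := Nat.le_of_dvd (Nat.mul_pos hk0 (by omega)) h4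
    have := Nat.le_of_mul_le_mul_left this hk0
    omega
  exact hKF (le_antisymm hF1K (hmax ⟨hle.trans hF1K, hKne⟩ hF1K))

/-- a normaliser of an absolutely irreducible group realised over `F₁` is in the subfield group -/
theorem le_subfield_of_realised [Nonempty ι] {H P : Subgroup (GL ι F)} (hn : NormG H P) (hP : AbsIrr P)
    {F₁ : Subfield F} {B : GL ι F}
    (hB : ∀ s ∈ matrixSet P, ∀ i j, ((B : Matrix ι ι F) * s * ((B⁻¹ : GL ι F) : Matrix ι ι F)) i j ∈ F₁) :
    H ≤ subfieldSubgroup F₁ B⁻¹ := by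
  intro h hh
  -- a projection `F → F₁`
  obtain ⟨π, hπ⟩ : ∃ π : F →ₗ[F₁] F₁, π 1 = 1 := by
    obtain ⟨g, hg⟩ := LinearMap.exists_leftInverse_of_injective (Algebra.linearMap F₁ F)
      (LinearMap.ker_eq_bot.2 (algebraMap F₁ F).injective)
    exact ⟨g, by simpa using LinearMap.congr_fun hg 1⟩
  set k := cj B (h : Matrix ι ι F) with hk
  obtain ⟨i0, j0, hc⟩ : ∃ i j, k i j ≠ 0 := by
    by_contra hcon
    push Not at hcon
    have : k = 0 := by ext i j; exact hcon i j
    apply h.ne_zero
    rw [← cj_inv_cj B (h : Matrix ι ι F), ← hk, this]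
    simp [cj]
  set c := k i0 j0
  let L : Matrix ι ι F := Matrix.of fun i j => ((π (c⁻¹ * k i j) : F₁) : F)
  have hL1 : L i0 j0 = 1 := by simp [L, c, inv_mul_cancel₀ hc, hπ]
  have hLF : ∀ i j, L i j ∈ F₁ := fun i j => SetLike.coe_mem _
  have hcomm : ∀ x ∈ P, L * cj B (x : Matrix ι ι F) = cj B ((h * x * h⁻¹ : GL ι F) : Matrix ι ι F) * L := by
    intro x hx
    set X := cj B (x : Matrix ι ι F)
    set Y := cj B ((h * x * h⁻¹ : GL ι F) : Matrix ι ι F)
    have hX : ∀ i j, X i j ∈ F₁ := fun i j => hB _ ⟨x, hx, rfl⟩ i j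
    have hY : ∀ i j, Y i j ∈ F₁ := fun i j => hB _ ⟨_, hn h hh x hx, rfl⟩ i j
    have hkX : (c⁻¹ • k) * X = Y * (c⁻¹ • k) := by
      rw [smul_mul_assoc, mul_smul_comm, hk, ← cj_mul, ← cj_mul, ← Units.val_mul, ← Units.val_mul]
      congr 2; group
    ext i j
    simp only [Matrix.mul_apply]
    have h1 : ∀ l, L i l * X l j = ((π (c⁻¹ * k i l * X l j) : F₁) : F) := by
      intro l
      have : c⁻¹ * k i l * X l j = (⟨X l j, hX l j⟩ : F₁) • (c⁻¹ * k i l) := by
        rw [Subfield.smul_def]; show _ = X l j * _; ring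
      rw [this, map_smul]
      show L i l * X l j = X l j * _
      simp [L]; ring
    have h2 : ∀ l, Y i l * L l j = ((π (Y i l * (c⁻¹ * k l j)) : F₁) : F) := by
      intro l
      have : Y i l * (c⁻¹ * k l j) = (⟨Y i l, hY i l⟩ : F₁) • (c⁻¹ * k l j) := rfl
      rw [this, map_smul]
      rfl
    simp only [h1, h2, ← AddSubmonoidClass.coe_finset_sum, ← map_sum]
    have e := congrFun (congrFun hkX i) j
    simp only [Matrix.mul_apply, Matrix.smul_apply, smul_eq_mul] at e
    rw [e]
  -- `cj B h⁻¹ * L` is scalar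
  obtain ⟨a, ha⟩ := hP.scalar_of_commute (M := ((h⁻¹ : GL ι F) : Matrix ι ι F) * cj B⁻¹ L) (fun x hx => by
    have := congrArg (cj B⁻¹) (hcomm x hx)
    rw [cj_mul, cj_mul, cj_inv_cj, cj_inv_cj] at this
    rw [mul_assoc, this, ← mul_assoc, ← mul_assoc, ← Units.val_mul, ← Units.val_mul]
    congr 2; group)
  have hL : L = a • k := by
    have : cj B⁻¹ L = a • (h : Matrix ι ι F) := by
      calc cj B⁻¹ L = (h : Matrix ι ι F) * (((h⁻¹ : GL ι F) : Matrix ι ι F) * cj B⁻¹ L) := by
            rw [← mul_assoc, gl_mul_inv, one_mul]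
        _ = _ := by rw [ha, mul_smul_comm, mul_one]
    rw [← cj_cj_inv B L, this, cj_smul]
  have ha0 : a ≠ 0 := by
    rintro rfl
    rw [zero_smul] at hL
    exact one_ne_zero (by rw [← hL1, hL]; rfl : (1 : F) = 0)
  let L₁ : Matrix ι ι F₁ := Matrix.of fun i j => ⟨L i j, hLF i j⟩
  have hLmap : L₁.map F₁.subtype = L := rfl
  have hdet : IsUnit L₁ := by
    rw [Matrix.isUnit_iff_isUnit_det]
    refine Ne.isUnit fun h0 => ?_
    have : L.det = 0 := by rw [← hLmap, ← RingHom.mapMatrix_apply, ← RingHom.map_det, h0, map_zero]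
    rw [hL, Matrix.det_smul, hk] at this
    rcases mul_eq_zero.1 this with h1 | h1
    · exact pow_ne_zero _ ha0 h1
    · have hu : IsUnit (cj B (h : Matrix ι ι F)).det := by
        rw [cj_coe]; exact (Matrix.isUnit_iff_isUnit_det _).1 (Units.isUnit _)
      exact hu.ne_zero h1
  obtain ⟨U, hU⟩ := hdet
  have hsc : (Units.map (Matrix.scalar ι : F →+* Matrix ι ι F).toMonoidHom (Units.mk0 a ha0)⁻¹) ∈ scalars ι F :=
    ⟨_, rfl⟩
  refine Subgroup.mem_map.2 ⟨Matrix.GeneralLinearGroup.map (F₁.subtype : F₁ →+* F) U *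
    Units.map (Matrix.scalar ι : F →+* Matrix ι ι F).toMonoidHom (Units.mk0 a ha0)⁻¹,
    Subgroup.mul_mem _ (Subgroup.mem_sup_left ⟨U, rfl⟩) (Subgroup.mem_sup_right hsc), ?_⟩
  apply Units.ext
  have hval : ((Matrix.GeneralLinearGroup.map (F₁.subtype : F₁ →+* F) U : GL ι F) : Matrix ι ι F) = L := by
    rw [← hLmap, ← hU]; rfl
  show ((B⁻¹ * _ * B⁻¹⁻¹ : GL ι F) : Matrix ι ι F) = h
  rw [← cj_coe, Units.val_mul, hval]
  have hs : ((Units.map (Matrix.scalar ι : F →+* Matrix ι ι F).toMonoidHom (Units.mk0 a ha0)⁻¹ : GL ι F) : Matrix ι ι F)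
      = a⁻¹ • 1 := by
    simp [Matrix.smul_one_eq_diagonal]
  rw [hs, mul_smul_comm, mul_one, hL, smul_smul, inv_mul_cancel₀ ha0, one_smul, hk, cj_inv_cj]

/-- a normaliser of an absolutely irreducible group realised over a subfield is in a subfield group -/
theorem class5_of_realisable [Nonempty ι] {H P : Subgroup (GL ι F)} (hn : NormG H P) (hP : AbsIrr P)
    {F₀ : Subfield F} (hF₀ : F₀ ≠ ⊤) (hreal : RealisableOver F₀ (matrixSet P)) :
    ∃ (F₁ : Subfield F) (r : ℕ) (P' : GL ι F), r.Prime ∧ Fintype.card F = Nat.card F₁ ^ r ∧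
      H ≤ subfieldSubgroup F₁ P' := by
  obtain ⟨F₁, r, hle, hr, hcard⟩ := exists_prime_index_subfield F₀ hF₀
  obtain ⟨B, hB⟩ := hreal
  exact ⟨F₁, r, B⁻¹, hr, hcard, le_subfield_of_realised hn hP fun s hs i j => hle (hB s hs i j)⟩

end Finite

end CfsgLib.Perm.Asch
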