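import Cfsg.Agent.Lib.Perm.Asch.Perfect

/-!
# No member of a geometric class contains the special linear group
-/

set_option autoImplicit false
set_option linter.all false

namespace CfsgLib.Perm.Asch

open scoped Classical Matrix Kronecker
open Matrix Cfsg.Geo

variable {ι : Type} [Fintype ι] [DecidableEq ι] {F : Type*} [Field F]

theorem exists_dual (W : Submodule F (ι → F)) {x : ι → F} (hx : x ∉ W) :
    ∃ φ : ι → F, φ ⬝ᵥ x = 1 ∧ ∀ w ∈ W, φ ⬝ᵥ w = 0 := by
  obtain ⟨f, hf, hW⟩ := Submodule.exists_dual_map_eq_bot_of_notMem hx inferInstance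
  have hdot : ∀ w, (fun i => f (Pi.single i 1)) ⬝ᵥ w = f w := by
    intro w
    conv_rhs => rw [pi_eq_sum_univ' w]
    simp [dotProduct, map_sum, mul_comm]
  refine ⟨(f x)⁻¹ • fun i => f (Pi.single i 1), by rw [smul_dotProduct, hdot, smul_eq_mul, inv_mul_cancel₀ hf], ?_⟩
  intro w hw
  rw [smul_dotProduct, hdot, show f w = 0 from (Submodule.mem_bot F).1 (hW ▸ Submodule.mem_map_of_mem hw), smul_zero]

/-- the transvection `x ↦ x + φ(x) u` -/
def tv (u φ : ι → F) (h : φ ⬝ᵥ u = 0) : GL ι F where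
  val := 1 + vecMulVec u φ
  inv := 1 - vecMulVec u φ
  val_inv := by
    rw [mul_sub, mul_one, add_mul, one_mul, vecMulVec_mul_vecMulVec, h, zero_smul,
      show vecMulVec u (0 : ι → F) = 0 by ext i j; simp [vecMulVec_apply]]
    abel
  inv_val := by
    rw [mul_add, mul_one, sub_mul, one_mul, vecMulVec_mul_vecMulVec, h, zero_smul,
      show vecMulVec u (0 : ι → F) = 0 by ext i j; simp [vecMulVec_apply]]
    abel

theorem tv_coe (u φ : ι → F) (h : φ ⬝ᵥ u = 0) :
    (tv u φ h : Matrix ι ι F) = 1 + vecMulVec u φ := rfl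

theorem tv_mulVec (u φ : ι → F) (h : φ ⬝ᵥ u = 0) (x : ι → F) :
    (tv u φ h : Matrix ι ι F) *ᵥ x = x + (φ ⬝ᵥ x) • u := by
  rw [tv_coe, add_mulVec, one_mulVec, vecMulVec_mulVec, op_smul_eq_smul]

theorem tv_mem_SL (u φ : ι → F) (h : φ ⬝ᵥ u = 0) : tv u φ h ∈ specialLinear ι F := by
  refine Units.ext ?_
  show (1 + vecMulVec u φ).det = 1
  rw [vecMulVec_eq Unit, det_one_add_replicateCol_mul_replicateRow, h, add_zero]

/-- moving a vector by a transvection -/
theorem exists_move {v w : ι → F} (hv : v ∉ Submodule.span F {w - v}) :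
    ∃ g ∈ specialLinear ι F, (g : Matrix ι ι F) *ᵥ v = w := by
  obtain ⟨φ, h1, h2⟩ := exists_dual _ hv
  refine ⟨tv (w - v) φ (h2 _ (Submodule.mem_span_singleton_self _)), tv_mem_SL _ _ _, ?_⟩
  rw [tv_mulVec, h1, one_smul, add_sub_cancel]

/-- a set stable under `SL` and scalars with a non-zero element is everything -/
theorem mem_of_setInvariant {S : Set (ι → F)} (hs : ∀ c : F, ∀ v ∈ S, c • v ∈ S)
    (hS : ∀ g ∈ specialLinear ι F, ∀ v ∈ S, (g : Matrix ι ι F) *ᵥ v ∈ S)
    {v : ι → F} (hv : v ∈ S) (hv0 : v ≠ 0) (w : ι → F) : w ∈ S := by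
  by_cases hw : w ∈ Submodule.span F {v}
  · obtain ⟨c, rfl⟩ := Submodule.mem_span_singleton.1 hw
    exact hs c v hv
  · obtain ⟨g, hg, hgv⟩ := exists_move (v := v) (w := w) (fun h => by
      obtain ⟨c, hc⟩ := Submodule.mem_span_singleton.1 h
      rcases eq_or_ne c 0 with rfl | hc0
      · exact hv0 (by rw [← hc, zero_smul])
      · refine hw (Submodule.mem_span_singleton.2 ⟨c⁻¹ + 1, ?_⟩)
        have : w - v = c⁻¹ • v := by rw [← inv_smul_smul₀ hc0 (w - v), hc]
        rw [add_smul, one_smul, ← this, sub_add_cancel])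
    exact hgv ▸ hS g hg v hv

theorem not_le_subspaceStabilizer {W : Submodule F (ι → F)} (h0 : W ≠ ⊥) (h1 : W ≠ ⊤) :
    ¬ specialLinear ι F ≤ subspaceStabilizer W := by
  intro hle
  obtain ⟨v, hv, hv0⟩ := Submodule.exists_mem_ne_zero_of_ne_bot h0
  exact h1 (eq_top_iff.2 fun w _ => mem_of_setInvariant (S := (W : Set (ι → F))) (fun c x hx => W.smul_mem c hx)
    (fun g hg x hx => (hle hg x).1 hx) hv hv0 w)

theorem not_le_decompositionStabilizer {t m : ℕ} {D : Fin t → Submodule F (ι → F)} (hD : IsMDecomposition m D) :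
    ¬ specialLinear ι F ≤ decompositionStabilizer D := by
  intro hle
  let i0 : Fin t := ⟨0, by have := hD.two_le; omega⟩
  let i1 : Fin t := ⟨1, by have := hD.two_le; omega⟩
  have h01 : i0 ≠ i1 := by simp [i0, i1]
  have hne : ∀ i, D i ≠ ⊥ := fun i h => by
    have := hD.finrank_eq i
    rw [h, finrank_bot] at this
    exact (hD.pos).ne this
  obtain ⟨a, ha, ha0⟩ := Submodule.exists_mem_ne_zero_of_ne_bot (hne i0)
  obtain ⟨b, hb, hb0⟩ := Submodule.exists_mem_ne_zero_of_ne_bot (hne i1)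
  have := mem_of_setInvariant (S := {v | ∃ i, v ∈ D i}) (fun c v ⟨i, hi⟩ => ⟨i, (D i).smul_mem c hi⟩)
    (fun g hg v ⟨i, hi⟩ => by
      obtain ⟨σ, hσ⟩ := hle hg
      exact ⟨σ i, (hσ i).le ⟨v, hi, rfl⟩⟩) ⟨i0, ha⟩ ha0 (a + b)
  obtain ⟨k, hk⟩ := this
  have hdis : ∀ i j, i ≠ j → ∀ x, x ∈ D i → x ∈ D j → x = 0 := fun i j hij x hi hj =>
    (Submodule.mem_bot F).1 ((hD.indep.pairwiseDisjoint hij).le_bot ⟨hi, hj⟩)
  have hsub : ∀ i x, x ∈ D i → ∀ j, j ≠ i → x ∈ ⨆ (l) (_ : l ≠ j), D l := fun i x hx j hj =>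
    Submodule.mem_iSup_of_mem i (Submodule.mem_iSup_of_mem hj.symm hx)
  rcases eq_or_ne k i0 with rfl | hk0
  · exact hb0 (hdis _ _ h01 b (by simpa using (D i0).sub_mem hk ha) hb)
  · have hmem : a ∈ ⨆ (l) (_ : l ≠ i0), D l := by
      rw [show a = (a + b) - b by abel]
      exact Submodule.sub_mem _ (hsub k _ hk i0 hk0.symm) (hsub i1 b hb i0 h01)
    exact ha0 ((Submodule.mem_bot F).1 ((hD.indep i0).le_bot ⟨ha, hmem⟩))

/-- the range of a commutator with a transvection is small -/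
theorem not_le_subalgebraNormalizer {n : ℕ} (hn : 3 ≤ n) {r : ℕ} (hr : r.Prime)
    {K : Subalgebra F (Matrix (Fin n) (Fin n) F)} (hK : IsFieldSubalgebra r K) :
    ¬ specialLinear (Fin n) F ≤ subalgebraNormalizer K := by
  intro hle
  haveI : Nonempty (Fin n) := ⟨⟨0, by omega⟩⟩
  have hscal : ∀ k ∈ K, ∀ u : Fin n → F, ∃ c : F, k *ᵥ u = c • u := by
    intro k hk u
    rcases eq_or_ne u 0 with rfl | hu
    · exact ⟨0, by simp⟩
    have hspan : Submodule.span F {u} ≠ ⊤ := by
      intro h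
      have := finrank_span_singleton (K := F) hu
      rw [h, finrank_top, Module.finrank_fin_fun] at this
      omega
    obtain ⟨y, -, hy⟩ := SetLike.exists_of_lt (lt_top_iff_ne_top.2 hspan)
    obtain ⟨φ, hφy, hφ⟩ := exists_dual _ hy
    have hu0 := hφ u (Submodule.mem_span_singleton_self _)
    set g := tv u φ hu0
    set D := cj g k - k with hD
    have hDK : D ∈ K := K.sub_mem ((hle (tv_mem_SL u φ hu0) k).1 hk) hk
    have hgk : ∀ x, cj g k *ᵥ x = k *ᵥ ((((g⁻¹ : GL (Fin n) F)) : Matrix (Fin n) (Fin n) F) *ᵥ x) +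
        (φ ⬝ᵥ (k *ᵥ ((((g⁻¹ : GL (Fin n) F)) : Matrix (Fin n) (Fin n) F) *ᵥ x))) • u := by
      intro x
      rw [cj, ← mulVec_mulVec, ← mulVec_mulVec, tv_mulVec]
    have hginv : ∀ x, (((g⁻¹ : GL (Fin n) F)) : Matrix (Fin n) (Fin n) F) *ᵥ x = x - (φ ⬝ᵥ x) • u := by
      intro x
      show (1 - vecMulVec u φ) *ᵥ x = _
      rw [sub_mulVec, one_mulVec, vecMulVec_mulVec, op_smul_eq_smul]
    have hrange : ∀ x, D *ᵥ x ∈ Submodule.span F {u, k *ᵥ u} := by
      intro x
      rw [hD, sub_mulVec, hgk, hginv, mulVec_sub, mulVec_smul]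
      refine Submodule.mem_span_pair.2 ⟨φ ⬝ᵥ (k *ᵥ x - (φ ⬝ᵥ x) • k *ᵥ u), -(φ ⬝ᵥ x), ?_⟩
      module
    have hD0 : D = 0 := by
      by_contra hne
      obtain ⟨E, -, hE⟩ := hK.inv D hDK hne
      have htop : (⊤ : Submodule F (Fin n → F)) ≤ Submodule.span F {u, k *ᵥ u} := fun x _ => by
        have := hrange (E *ᵥ x)
        rwa [mulVec_mulVec, hE, one_mulVec] at this
      have h1 := Submodule.finrank_mono htop
      rw [finrank_top, Module.finrank_fin_fun] at h1
      have h2 := finrank_span_finset_le_card (R := F) ({u, k *ᵥ u} : Finset (Fin n → F))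
      rw [Finset.coe_pair] at h2
      have h3 : ({u, k *ᵥ u} : Finset (Fin n → F)).card ≤ 2 := Finset.card_le_two
      unfold Set.finrank at h2
      omega
    have e := congrArg (· *ᵥ y) hD0
    simp only [hD, sub_mulVec, zero_mulVec, hgk, hginv, mulVec_sub, mulVec_smul, hφy, one_smul] at e
    refine ⟨φ ⬝ᵥ (k *ᵥ y - k *ᵥ u), sub_eq_zero.1 ?_⟩
    rw [← neg_eq_zero, neg_sub]
    rw [← e]
    module
  -- every element of `K` is scalar
  have hall : ∀ k ∈ K, ∃ c : F, k = c • (1 : Matrix (Fin n) (Fin n) F) := by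
    intro k hk
    choose c hc using hscal k hk
    let i0 : Fin n := ⟨0, by omega⟩
    refine ⟨c (Pi.single i0 1), Matrix.ext fun i j => ?_⟩
    have hj : ∀ l, k i l = c (Pi.single l 1) * (if i = l then 1 else 0) := fun l => by
      have := congrFun (hc (Pi.single l 1)) i
      rw [mulVec_single_one] at this
      simpa [Pi.single_apply] using this
    rw [hj, Matrix.smul_apply, Matrix.one_apply, smul_eq_mul]
    rcases eq_or_ne j i0 with rfl | hne
    · rfl
    congr 1
    -- compare with the sum of two basis vectors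
    have hs := hc (Pi.single i0 1 + Pi.single j 1)
    rw [mulVec_add, hc, hc] at hs
    have e1 := congrFun hs i0
    have e2 := congrFun hs j
    simp [hne, Ne.symm hne] at e1 e2
    rw [e1, e2]
  have hbot : K = ⊥ := eq_bot_iff.2 fun k hk => mem_bot_iff.2 (hall k hk)
  have := hK.finrank_eq
  rw [hbot, Subalgebra.finrank_bot] at this
  exact hr.ne_one this.symm

theorem not_le_subfieldSubgroup [Fintype F] [Nontrivial ι] {F₀ : Subfield F} (hF₀ : F₀ ≠ ⊤) (P : GL ι F) :
    ¬ specialLinear ι F ≤ subfieldSubgroup F₀ P := by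
  intro hle
  obtain ⟨a, ha⟩ : ∃ a, a ∉ F₀ := by
    by_contra h
    push Not at h
    exact hF₀ (eq_top_iff.2 fun x _ => h x)
  obtain ⟨i, j, hij⟩ := exists_pair_ne ι
  have hφ : (a • Pi.single j (1 : F) : ι → F) ⬝ᵥ Pi.single i 1 = 0 := by
    rw [smul_dotProduct, dotProduct_single, Pi.single_eq_of_ne hij, zero_mul, smul_zero]
  set g := tv _ _ hφ
  have hmem : P * g * P⁻¹ ∈ specialLinear ι F := by
    have := tv_mem_SL _ _ hφ
    show Matrix.GeneralLinearGroup.det _ = 1
    rw [map_mul, map_mul, show Matrix.GeneralLinearGroup.det g = 1 from this, mul_one, ← map_mul, mul_inv_cancel, map_one]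
  obtain ⟨k, hk, hkg⟩ := Subgroup.mem_map.1 (hle hmem)
  have hkg' : k = g := (MulAut.conj P).injective hkg
  subst hkg'
  obtain ⟨x, hx, z, hz, hxz⟩ := Subgroup.mem_sup_of_normal_right.1 hk
  obtain ⟨M, rfl⟩ := hx
  obtain ⟨c, hc⟩ := mem_scalars.1 hz
  have hval := congrArg (fun y : GL ι F => (y : Matrix ι ι F)) hxz
  simp only [Units.val_mul, hc, mul_smul_comm, mul_one, g, tv_coe] at hval
  have hM : ∀ p q : ι, ((Matrix.GeneralLinearGroup.map (F₀.subtype : F₀ →+* F) M : GL ι F) : Matrix ι ι F) p q ∈ F₀ :=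
    fun p q => ((M : Matrix ι ι F₀) p q).2
  have e1 := congrFun (congrFun hval i) i
  have e2 := congrFun (congrFun hval i) j
  simp [vecMulVec_apply, hij, Ne.symm hij, Matrix.one_apply] at e1 e2
  have hc0 : (c : F) ∈ F₀ := by
    have h1 := F₀.inv_mem (hM i i)
    rw [eq_inv_of_mul_eq_one_left e1]
    exact h1
  refine ha ?_
  rw [← e2]
  exact F₀.mul_mem hc0 (hM i j)

/-- the similarity group of a form never contains `SL` -/
theorem not_le_similarityGroup {n : ℕ} (hn : 3 ≤ n) {f : (Fin n → F) → (Fin n → F) → F}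
    (hadd : ∀ x y v, f (x + y) v = f x v + f y v) (hsmul : ∀ (c : F) x v, f (c • x) v = c * f x v)
    (hnd : IsNondegenerateForm f) : ¬ specialLinear (Fin n) F ≤ similarityGroup f := by
  intro hle
  obtain ⟨v, hv0⟩ : ∃ v : Fin n → F, v ≠ 0 := ⟨fun _ => 1, fun h => one_ne_zero (congrFun h ⟨0, by omega⟩)⟩
  let L : (Fin n → F) →ₗ[F] F :=
    { toFun := fun x => f x v, map_add' := fun x y => hadd x y v, map_smul' := fun c x => hsmul c x v }
  -- `u` orthogonal to `v`, independent of it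
  obtain ⟨u, hu, huv⟩ : ∃ u, f u v = 0 ∧ u ∉ Submodule.span F {v} := by
    by_contra h
    push Not at h
    have h1 : LinearMap.ker L ≤ Submodule.span F {v} := fun x hx => h x hx
    have h2 := Submodule.finrank_mono h1
    rw [finrank_span_singleton hv0] at h2
    have h3 := L.finrank_range_add_finrank_ker
    rw [Module.finrank_fin_fun] at h3
    have h4 : Module.finrank F (LinearMap.range L) ≤ 1 := le_trans (Submodule.finrank_le _) (by simp)
    omega
  set W := Submodule.span F {v, u}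
  have hW : W ≠ ⊤ := by
    intro h
    have h2 := finrank_span_finset_le_card (R := F) ({v, u} : Finset (Fin n → F))
    rw [Finset.coe_pair, Set.finrank] at h2
    change Module.finrank F W ≤ _ at h2
    rw [h, finrank_top, Module.finrank_fin_fun] at h2
    have : ({v, u} : Finset (Fin n → F)).card ≤ 2 := Finset.card_le_two
    omega
  obtain ⟨y, -, hy⟩ := SetLike.exists_of_lt (lt_top_iff_ne_top.2 hW)
  obtain ⟨x0, hx0⟩ := (hnd v hv0).1
  obtain ⟨x, hxW, hxv⟩ : ∃ x, x ∉ W ∧ f x v ≠ 0 := by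
    rcases eq_or_ne (f y v) 0 with h | h
    · by_cases hx : x0 ∈ W
      · refine ⟨x0 + y, fun hm => hy ?_, by rw [hadd, h, add_zero]; exact hx0⟩
        simpa using W.sub_mem hm hx
      · exact ⟨x0, hx, hx0⟩
    · exact ⟨y, hy, h⟩
  have hu' : u ∉ Submodule.span F {v, x} := by
    intro h
    obtain ⟨a, b, hab⟩ := Submodule.mem_span_pair.1 h
    rcases eq_or_ne b 0 with rfl | hb
    · exact huv (Submodule.mem_span_singleton.2 ⟨a, by simpa using hab⟩)
    · refine hxW ?_
      have : x = b⁻¹ • (u - a • v) := by rw [← hab]; simp [smul_smul, inv_mul_cancel₀ hb]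
      rw [this]
      exact W.smul_mem _ (W.sub_mem (Submodule.subset_span (by simp)) (W.smul_mem _ (Submodule.subset_span (by simp))))
  obtain ⟨φ, hφu, hφ⟩ := exists_dual _ hu'
  obtain ⟨c, hc⟩ := hle (tv_mem_SL x φ (hφ x (Submodule.subset_span (by simp))))
  have := hc u v
  rw [tv_mulVec, tv_mulVec, hφu, hφ v (Submodule.subset_span (by simp)), zero_smul, add_zero, one_smul, hadd, hu,
    mul_zero, zero_add] at this
  exact hxv this

theorem quadSimilarity_le_polar {Q : (ι → F) → F} :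
    quadSimilarityGroup Q ≤ similarityGroup (QuadraticMap.polar Q) := by
  rintro g ⟨c, hc⟩
  exact ⟨c, fun u v => by simp only [QuadraticMap.polar, ← mulVec_add, hc]; ring⟩

/-- no group of pure tensors contains `SL` -/
theorem not_le_tensorProductSubgroup {n n₁ n₂ : ℕ} (h₁ : 2 ≤ n₁) (h₂ : 2 ≤ n₂) (e : Fin n ≃ Fin n₁ × Fin n₂)
    (P : GL (Fin n) F) : ¬ specialLinear (Fin n) F ≤ tensorProductSubgroup n₁ n₂ e P := by
  intro hle
  let tens : (Fin n₁ → F) → (Fin n₂ → F) → Fin n → F := fun x y =>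
    (P : Matrix (Fin n) (Fin n) F) *ᵥ fun i => x (e i).1 * y (e i).2
  let S : Set (Fin n → F) := {v | ∃ x y, v = tens x y}
  have hS : ∀ g ∈ specialLinear (Fin n) F, ∀ v ∈ S, (g : Matrix (Fin n) (Fin n) F) *ᵥ v ∈ S := by
    rintro g hg _ ⟨x, y, rfl⟩
    obtain ⟨k, hk, rfl⟩ := Subgroup.mem_map.1 (hle hg)
    obtain ⟨l, ⟨a, b, hl⟩, rfl⟩ := Subgroup.mem_map.1 hk
    refine ⟨(a : Matrix (Fin n₁) (Fin n₁) F) *ᵥ x, (b : Matrix (Fin n₂) (Fin n₂) F) *ᵥ y, ?_⟩
    show ((P * glReindex e.symm l * P⁻¹ : GL (Fin n) F) : Matrix (Fin n) (Fin n) F) *ᵥ _ = _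
    rw [Units.val_mul, Units.val_mul, mulVec_mulVec, mul_assoc, gl_inv_mul, mul_one, ← mulVec_mulVec]
    congr 1
    funext i
    show ∑ j, (l : Matrix _ _ F) (e i) (e j) * (x (e j).1 * y (e j).2) = _
    rw [e.sum_comp (fun q => (l : Matrix _ _ F) (e i) q * (x q.1 * y q.2)), Fintype.sum_prod_type]
    simp only [hl, Matrix.mulVec, dotProduct, Finset.sum_mul_sum]
    exact Finset.sum_congr rfl fun _ _ => Finset.sum_congr rfl fun _ _ => by
      rw [Matrix.kronecker_apply]; ring
  let a0 : Fin n₁ := ⟨0, by omega⟩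
  let a1 : Fin n₁ := ⟨1, by omega⟩
  let b0 : Fin n₂ := ⟨0, by omega⟩
  let b1 : Fin n₂ := ⟨1, by omega⟩
  let w : Fin n → F := fun i => if e i = (a0, b0) ∨ e i = (a1, b1) then 1 else 0
  have hne : tens (Pi.single a0 1) (Pi.single b0 1) ≠ 0 := by
    intro h
    have := congrArg ((((P⁻¹ : GL (Fin n) F)) : Matrix (Fin n) (Fin n) F) *ᵥ ·) h
    simp only [tens, mulVec_mulVec, gl_inv_mul, one_mulVec, mulVec_zero] at this
    have h1 := congrFun this (e.symm (a0, b0))
    simp at h1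
  obtain ⟨x, y, hxy⟩ := mem_of_setInvariant (S := S)
    (fun c v ⟨x, y, hv⟩ => ⟨c • x, y, by
      rw [hv]; simp only [tens, ← mulVec_smul]; congr 1; funext i; simp [mul_assoc]⟩) hS
    ⟨_, _, rfl⟩ hne ((P : Matrix (Fin n) (Fin n) F) *ᵥ w)
  have hinj := congrArg ((((P⁻¹ : GL (Fin n) F)) : Matrix (Fin n) (Fin n) F) *ᵥ ·) hxy
  simp only [tens, mulVec_mulVec, gl_inv_mul, one_mulVec] at hinj
  have h00 := congrFun hinj (e.symm (a0, b0))
  have h11 := congrFun hinj (e.symm (a1, b1))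
  have h01 := congrFun hinj (e.symm (a0, b1))
  simp [w, a0, a1, b0, b1, Fin.ext_iff] at h00 h11 h01
  rcases h01 with h | h <;> simp [h] at h00 h11

/-- no tensor wreath group contains `SL` -/
theorem not_le_tensorWreathSubgroup [Fintype F] {n m t : ℕ} (hm : 2 ≤ m) (ht : 2 ≤ t) (e : Fin n ≃ (Fin t → Fin m))
    (P : GL (Fin n) F) : ¬ specialLinear (Fin n) F ≤ tensorWreathSubgroup m t e P := by
  intro hle
  let tens : (Fin t → Fin m → F) → Fin n → F := fun x =>
    (P : Matrix (Fin n) (Fin n) F) *ᵥ fun i => ∏ k, x k (e i k)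
  let S : Set (Fin n → F) := {v | ∃ x, v = tens x}
  -- the generators preserve the pure tensors
  have hgen : ∀ k ∈ tensorWreathStandard m t F, ∀ x : Fin t → Fin m → F, ∃ y : Fin t → Fin m → F,
      (fun a => ∑ b, (k : Matrix (Fin t → Fin m) (Fin t → Fin m) F) a b * ∏ l, x l (b l)) = fun a => ∏ l, y l (a l) := by
    intro k hk
    rw [tensorWreathStandard, ← Subgroup.mem_toSubmonoid, Subgroup.closure_toSubmonoid_of_finite] at hk
    induction hk using Submonoid.closure_induction with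
    | mem g hg =>
      intro x
      rcases hg with ⟨gs, hgs⟩ | ⟨σ, hσ⟩
      · refine ⟨fun l => (gs l : Matrix (Fin m) (Fin m) F) *ᵥ x l, funext fun a => ?_⟩
        simp only [hgs, ← Finset.prod_mul_distrib, Matrix.mulVec, dotProduct, Fintype.prod_sum]
      · refine ⟨fun l => x (σ.symm l), funext fun a => ?_⟩
        simp only [hσ, ite_mul, one_mul, zero_mul, Finset.sum_ite_eq', Finset.mem_univ, if_true]
        rw [← Equiv.prod_comp σ (fun l => x (σ.symm l) (a l))]
        simp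
    | one => exact fun x => ⟨x, funext fun a => by simp [Matrix.one_apply, ite_mul]⟩
    | mul g h _ _ hg hh =>
      intro x
      obtain ⟨y, hy⟩ := hh x
      obtain ⟨z, hz⟩ := hg y
      refine ⟨z, ?_⟩
      rw [← hz]
      funext a
      simp only [Units.val_mul, Matrix.mul_apply, Finset.sum_mul, mul_assoc]
      rw [Finset.sum_comm]
      refine Finset.sum_congr rfl fun b _ => ?_
      rw [← Finset.mul_sum, show (∑ c : Fin t → Fin m, (h : Matrix (Fin t → Fin m) (Fin t → Fin m) F) b c * ∏ l, x l (c l)) =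
        ∏ l, y l (b l) from congrFun hy b]
  have hS : ∀ g ∈ specialLinear (Fin n) F, ∀ v ∈ S, (g : Matrix (Fin n) (Fin n) F) *ᵥ v ∈ S := by
    rintro g hg _ ⟨x, rfl⟩
    obtain ⟨k, hk, rfl⟩ := Subgroup.mem_map.1 (hle hg)
    obtain ⟨l, hl, rfl⟩ := Subgroup.mem_map.1 hk
    obtain ⟨y, hy⟩ := hgen l hl x
    refine ⟨y, ?_⟩
    show ((P * glReindex e.symm l * P⁻¹ : GL (Fin n) F) : Matrix (Fin n) (Fin n) F) *ᵥ _ = _
    rw [Units.val_mul, Units.val_mul, mulVec_mulVec, mul_assoc, gl_inv_mul, mul_one, ← mulVec_mulVec]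
    congr 1
    funext i
    show ∑ j, (l : Matrix _ _ F) (e i) (e j) * ∏ k, x k (e j k) = _
    rw [e.sum_comp (fun q => (l : Matrix _ _ F) (e i) q * ∏ k, x k (q k))]
    exact congrFun hy (e i)
  let b0 : Fin m := ⟨0, by omega⟩
  let b1 : Fin m := ⟨1, by omega⟩
  let c0 : Fin t := ⟨0, by omega⟩
  let w : Fin n → F := fun i => if (∀ k, e i k = b0) ∨ (∀ k, e i k = b1) then 1 else 0
  have hne : tens (fun _ => Pi.single b0 1) ≠ 0 := by
    intro h
    have := congrArg ((((P⁻¹ : GL (Fin n) F)) : Matrix (Fin n) (Fin n) F) *ᵥ ·) h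
    simp only [tens, mulVec_mulVec, gl_inv_mul, one_mulVec, mulVec_zero] at this
    have h1 := congrFun this (e.symm fun _ => b0)
    simp at h1
  obtain ⟨x, hx⟩ := mem_of_setInvariant (S := S)
    (fun c v ⟨x, hv⟩ => ⟨Function.update x c0 (c • x c0), by
      rw [hv]
      simp only [tens, ← mulVec_smul]
      congr 1
      funext i
      rw [Pi.smul_apply, smul_eq_mul, ← Finset.mul_prod_erase _ _ (Finset.mem_univ c0),
        ← Finset.mul_prod_erase _ (fun k => Function.update x c0 (c • x c0) k (e i k)) (Finset.mem_univ c0)]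
      rw [Function.update_self, Pi.smul_apply, smul_eq_mul, mul_assoc]
      congr 2
      refine Finset.prod_congr rfl fun k hk => ?_
      rw [Function.update_of_ne (Finset.ne_of_mem_erase hk)]⟩) hS
    ⟨_, rfl⟩ hne ((P : Matrix (Fin n) (Fin n) F) *ᵥ w)
  have hinj := congrArg ((((P⁻¹ : GL (Fin n) F)) : Matrix (Fin n) (Fin n) F) *ᵥ ·) hx
  simp only [tens, mulVec_mulVec, gl_inv_mul, one_mulVec] at hinj
  let mixed : Fin t → Fin m := Function.update (fun _ => b1) c0 b0
  let c1 : Fin t := ⟨1, by omega⟩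
  have hc : c1 ≠ c0 := by simp [c0, c1]
  have hb : b0 ≠ b1 := by simp [b0, b1]
  have hmix := congrFun hinj (e.symm mixed)
  have hall0 := congrFun hinj (e.symm fun _ => b0)
  have hall1 := congrFun hinj (e.symm fun _ => b1)
  simp only [w, Equiv.apply_symm_apply, true_or, or_true, implies_true, if_true] at hall0 hall1
  have hnot : ¬ ((∀ k, mixed k = b0) ∨ (∀ k, mixed k = b1)) := by
    rintro (h | h)
    · have := h c1
      simp [mixed, Function.update_of_ne hc] at this
      exact hb this.symm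
    · have := h c0
      simp [mixed] at this
      exact hb this
  simp only [w, Equiv.apply_symm_apply, hnot, if_false] at hmix
  obtain ⟨k, -, hk⟩ := Finset.prod_eq_zero_iff.1 hmix.symm
  rcases eq_or_ne k c0 with rfl | hk0
  · have : mixed c0 = b0 := Function.update_self ..
    rw [this] at hk
    exact one_ne_zero (hall0.trans (Finset.prod_eq_zero (Finset.mem_univ c0) hk))
  · have : mixed k = b1 := Function.update_of_ne hk0 ..
    rw [this] at hk
    exact one_ne_zero (hall1.trans (Finset.prod_eq_zero (Finset.mem_univ k) hk))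

/-- `SL` normalises no absolutely irreducible group of order prime to the characteristic -/
theorem not_le_subgroupNormalizer [Fintype F] {n : ℕ} (hn : 3 ≤ n) {r p : ℕ} [hp : Fact p.Prime] [CharP F p]
    (hr : r.Prime) (hrp : r ≠ p) {R : Subgroup (GL (Fin n) F)} (hR : IsPGroup r R) (hirr : Irred R) :
    ¬ specialLinear (Fin n) F ≤ subgroupNormalizer R := by
  intro hle
  have hscal : ∀ x ∈ R, ∀ u : Fin n → F, u ≠ 0 →
      (x : Matrix (Fin n) (Fin n) F) *ᵥ u ∈ Submodule.span F {u} := by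
    intro x hx u hu
    by_contra hxu
    set v := (x : Matrix (Fin n) (Fin n) F) *ᵥ u with hv
    have hW : Submodule.span F {u, v} ≠ ⊤ := by
      intro h
      have h2 := finrank_span_finset_le_card (R := F) ({u, v} : Finset (Fin n → F))
      rw [Finset.coe_pair, Set.finrank, h, finrank_top, Module.finrank_fin_fun] at h2
      have : ({u, v} : Finset (Fin n → F)).card ≤ 2 := Finset.card_le_two
      omega
    obtain ⟨y, -, hy⟩ := SetLike.exists_of_lt (lt_top_iff_ne_top.2 hW)
    obtain ⟨φ, hφy, hφ⟩ := exists_dual _ hy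
    have hu0 : φ ⬝ᵥ u = 0 := hφ u (Submodule.subset_span (by simp))
    have hv0 : φ ⬝ᵥ v = 0 := hφ v (Submodule.subset_span (by simp))
    set g := tv u φ hu0
    set N1 := vecMulVec u φ with hN1
    set N2 := cj x N1 with hN2
    set y' := g * (x * g⁻¹ * x⁻¹) with hy'
    have hyR : y' ∈ R := by
      have h1 : g * x * g⁻¹ ∈ R := (hle (tv_mem_SL u φ hu0) x).1 hx
      have := R.mul_mem h1 (R.inv_mem hx)
      simpa [hy', mul_assoc] using this
    have h12 : N1 * N2 = 0 := by
      rw [hN2, cj, hN1, mul_vecMulVec, vecMulVec_mul _ _ ((x⁻¹ : GL (Fin n) F) : Matrix (Fin n) (Fin n) F), vecMulVec_mul_vecMulVec, ← hv, hv0, zero_smul]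
      ext i j; simp [vecMulVec_apply]
    have hyval : (y' : Matrix (Fin n) (Fin n) F) = 1 + (N1 - N2) := by
      have hx1 : ((x * g⁻¹ * x⁻¹ : GL (Fin n) F) : Matrix (Fin n) (Fin n) F) = 1 - N2 := by
        rw [← cj_coe]
        show cjAlg x (1 - N1) = _
        rw [map_sub, map_one]; rfl
      rw [hy', Units.val_mul, hx1, tv_coe, mul_sub, mul_one, add_mul, one_mul, h12, add_zero]
      abel
    have h11 : N1 * N1 = 0 := by
      rw [hN1, vecMulVec_mul_vecMulVec, hu0, zero_smul]; ext i j; simp [vecMulVec_apply]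
    have h22 : N2 * N2 = 0 := by rw [hN2, ← cj_mul, h11]; simp [cj]
    have hcube : (N1 - N2) ^ 3 = 0 := by
      calc (N1 - N2) ^ 3 = ((N1 * N1 - N1 * N2) - (N2 * N1 - N2 * N2)) * (N1 - N2) := by
            rw [pow_succ, pow_two, sub_mul N1 N2 (N1 - N2), mul_sub N1, mul_sub N2]
        _ = -(N2 * (N1 * N1)) + N2 * (N1 * N2) := by
            rw [h11, h12, h22]
            simp only [sub_zero, zero_sub, neg_mul, mul_sub, mul_assoc]
            rw [h11, h12, mul_zero]
            simp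
        _ = 0 := by rw [h11, h12, mul_zero]; simp
    have hone : ∀ j, (y' : Matrix (Fin n) (Fin n) F) ^ p ^ j = 1 + (N1 - N2) ^ p ^ j := by
      intro j
      haveI : Nonempty (Fin n) := ⟨⟨0, by omega⟩⟩
      haveI := matrix_charP (ι := Fin n) (F := F) p
      rw [hyval, add_pow_char_pow_of_commute _ _ (Commute.one_left _), one_pow]
    have hy3 : y' ^ p ^ 2 = 1 := by
      refine Units.ext ?_
      have h4 : 3 ≤ p ^ 2 := le_trans (by norm_num) (Nat.pow_le_pow_left hp.out.two_le 2)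
      obtain ⟨k, hk⟩ := Nat.exists_eq_add_of_le h4
      rw [Units.val_pow_eq_pow_val, hone, hk, pow_add, hcube, zero_mul, add_zero, Units.val_one]
    obtain ⟨j, hj⟩ := hR ⟨y', hyR⟩
    have hj' : y' ^ r ^ j = 1 := congrArg Subtype.val hj
    have hy1 : y' = 1 := by
      have := pow_gcd_eq_one.2 ⟨hy3, hj'⟩
      rwa [((Nat.coprime_primes hp.out hr).2 hrp.symm).pow 2 j, pow_one] at this
    have hNN : N1 = N2 := by
      rw [hy1, Units.val_one] at hyval
      exact sub_eq_zero.1 (by simpa using hyval.symm)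
    refine hxu ?_
    have e := congrArg (· *ᵥ ((x : Matrix (Fin n) (Fin n) F) *ᵥ y)) hNN
    simp only [hN2, cj, hN1, mulVec_mulVec] at e
    rw [mul_assoc _ _ ((x : Matrix (Fin n) (Fin n) F)), gl_inv_mul, mul_one, ← mulVec_mulVec, ← mulVec_mulVec,
      vecMulVec_mulVec, op_smul_eq_smul, vecMulVec_mulVec, op_smul_eq_smul, mulVec_smul, hφy, one_smul] at e
    exact Submodule.mem_span_singleton.2 ⟨_, e⟩
  -- a line is invariant
  let u : Fin n → F := Pi.single ⟨0, by omega⟩ 1
  have hu : u ≠ 0 := fun h => one_ne_zero (Pi.single_eq_zero_iff.1 h)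
  rcases hirr.eq_bot_or_top (Submodule.span F {u}) (fun g hg w hw => by
    obtain ⟨c, rfl⟩ := Submodule.mem_span_singleton.1 hw
    rw [mulVec_smul]
    exact Submodule.smul_mem _ _ (hscal g hg u hu)) with h | h
  · exact hu (Submodule.span_singleton_eq_bot.1 h)
  · have h1 := finrank_span_singleton (K := F) hu
    rw [h, finrank_top, Module.finrank_fin_fun] at h1
    omega

end CfsgLib.Perm.Asch
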