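import Mathlib
import Cfsg.Prelude.Def_GeometricClasses

/-!
# Aschbacher's theorem: basic tools

Conjugation of matrices, invariant subspaces, subalgebras normalised by a group.
-/

set_option autoImplicit false
set_option linter.all false

namespace CfsgLib.Perm.Asch

open scoped Classical Matrix
open Matrix

variable {ι : Type} [Fintype ι] [DecidableEq ι] {F : Type*} [Field F]

/-- conjugation of a matrix by an invertible one -/
def cj (g : GL ι F) (a : Matrix ι ι F) : Matrix ι ι F :=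
  (g : Matrix ι ι F) * a * ((g⁻¹ : GL ι F) : Matrix ι ι F)

theorem gl_mul_inv (g : GL ι F) : (g : Matrix ι ι F) * ((g⁻¹ : GL ι F) : Matrix ι ι F) = 1 := by
  rw [← Units.val_mul, mul_inv_cancel, Units.val_one]

theorem gl_inv_mul (g : GL ι F) : ((g⁻¹ : GL ι F) : Matrix ι ι F) * (g : Matrix ι ι F) = 1 := by
  rw [← Units.val_mul, inv_mul_cancel, Units.val_one]

@[simp] theorem cj_one_left (a : Matrix ι ι F) : cj 1 a = a := by simp [cj]

theorem cj_cj (g h : GL ι F) (a : Matrix ι ι F) : cj g (cj h a) = cj (g * h) a := by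
  simp [cj, mul_assoc]

theorem cj_inv_cj (g : GL ι F) (a : Matrix ι ι F) : cj g⁻¹ (cj g a) = a := by
  rw [cj_cj, inv_mul_cancel, cj_one_left]

theorem cj_cj_inv (g : GL ι F) (a : Matrix ι ι F) : cj g (cj g⁻¹ a) = a := by
  rw [cj_cj, mul_inv_cancel, cj_one_left]

theorem cj_injective (g : GL ι F) : Function.Injective (cj g) := fun a b h => by
  rw [← cj_inv_cj g a, h, cj_inv_cj]

theorem cj_mul (g : GL ι F) (a b : Matrix ι ι F) : cj g (a * b) = cj g a * cj g b := by
  simp only [cj, mul_assoc]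
  rw [← mul_assoc (((g⁻¹ : GL ι F)) : Matrix ι ι F) (g : Matrix ι ι F), gl_inv_mul, one_mul]

theorem cj_one (g : GL ι F) : cj g 1 = 1 := by simp [cj]

theorem cj_add (g : GL ι F) (a b : Matrix ι ι F) : cj g (a + b) = cj g a + cj g b := by
  simp [cj, mul_add, add_mul]

theorem cj_smul (g : GL ι F) (c : F) (a : Matrix ι ι F) : cj g (c • a) = c • cj g a := by
  simp [cj]

theorem cj_pow (g : GL ι F) (a : Matrix ι ι F) (k : ℕ) : cj g (a ^ k) = cj g a ^ k := by
  induction k with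
  | zero => simp [cj_one]
  | succ k ih => rw [pow_succ, pow_succ, cj_mul, ih]

/-- conjugation as an algebra automorphism -/
def cjAlg (g : GL ι F) : Matrix ι ι F ≃ₐ[F] Matrix ι ι F where
  toFun := cj g
  invFun := cj g⁻¹
  left_inv := cj_inv_cj g
  right_inv := cj_cj_inv g
  map_mul' := cj_mul g
  map_add' := cj_add g
  commutes' c := by
    rw [Algebra.algebraMap_eq_smul_one, cj_smul, cj_one]

@[simp] theorem cjAlg_apply (g : GL ι F) (a : Matrix ι ι F) : cjAlg g a = cj g a := rfl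

/-- the scalar matrix `c • 1` -/
def sc (c : F) : Matrix ι ι F := c • (1 : Matrix ι ι F)

theorem sc_mem (A : Subalgebra F (Matrix ι ι F)) (c : F) : c • (1 : Matrix ι ι F) ∈ A :=
  A.smul_mem A.one_mem c

/-- `H` normalises the subalgebra `A` -/
def Normalises (H : Subgroup (GL ι F)) (A : Subalgebra F (Matrix ι ι F)) : Prop :=
  ∀ g ∈ H, ∀ a ∈ A, cj g a ∈ A

theorem Normalises.le_normalizer {H : Subgroup (GL ι F)} {A : Subalgebra F (Matrix ι ι F)}
    (h : Normalises H A) : H ≤ Cfsg.Geo.subalgebraNormalizer A := by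
  intro g hg k
  constructor
  · exact fun hk => h g hg k hk
  · intro hk
    have := h g⁻¹ (H.inv_mem hg) _ hk
    rwa [show ((g : Matrix ι ι F) * k * ((g⁻¹ : GL ι F) : Matrix ι ι F)) = cj g k from rfl, cj_inv_cj] at this

/-- `g` normalises a set of matrices -/
def NormalisesSet (H : Subgroup (GL ι F)) (S : Set (Matrix ι ι F)) : Prop :=
  ∀ g ∈ H, ∀ a ∈ S, cj g a ∈ S

theorem Normalises.centralizer {H : Subgroup (GL ι F)} {S : Set (Matrix ι ι F)}
    (h : NormalisesSet H S) : Normalises H (Subalgebra.centralizer F S) := by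
  intro g hg a ha
  rw [Subalgebra.mem_centralizer_iff] at ha ⊢
  intro s hs
  have := congrArg (cj g) (ha _ (h g⁻¹ (H.inv_mem hg) s hs))
  rwa [cj_mul, cj_mul, cj_cj_inv] at this

theorem Normalises.toSet {H : Subgroup (GL ι F)} {A : Subalgebra F (Matrix ι ι F)}
    (h : Normalises H A) : NormalisesSet H (A : Set (Matrix ι ι F)) := h

theorem Normalises.inf {H : Subgroup (GL ι F)} {A B : Subalgebra F (Matrix ι ι F)}
    (hA : Normalises H A) (hB : Normalises H B) : Normalises H (A ⊓ B) :=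
  fun g hg a ha => ⟨hA g hg a ha.1, hB g hg a ha.2⟩

/-! ### invariant subspaces -/

/-- `W` is invariant under the matrices in `S` -/
def Inv (S : Set (Matrix ι ι F)) (W : Submodule F (ι → F)) : Prop :=
  ∀ s ∈ S, ∀ w ∈ W, s *ᵥ w ∈ W

theorem inv_iff_map_le (S : Set (Matrix ι ι F)) (W : Submodule F (ι → F)) :
    Inv S W ↔ ∀ s ∈ S, W.map (Matrix.toLin' s) ≤ W := by
  refine forall₂_congr fun s _ => ?_
  rw [Submodule.map_le_iff_le_comap]
  rfl

/-- the subspace killed by all members of `S` -/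
def killed (S : Set (Matrix ι ι F)) : Submodule F (ι → F) where
  carrier := {v | ∀ s ∈ S, s *ᵥ v = 0}
  add_mem' {u v} hu hv s hs := by rw [mulVec_add, hu s hs, hv s hs, add_zero]
  zero_mem' s _ := mulVec_zero s
  smul_mem' c v hv s hs := by rw [mulVec_smul, hv s hs, smul_zero]

@[simp] theorem mem_killed {S : Set (Matrix ι ι F)} {v : ι → F} :
    v ∈ killed S ↔ ∀ s ∈ S, s *ᵥ v = 0 := Iff.rfl

/-- `H` acts irreducibly -/
def Irred (H : Subgroup (GL ι F)) : Prop :=
  Cfsg.Geo.ActsIrreducibly (Cfsg.Geo.matrixSet H)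

theorem mem_matrixSet {H : Subgroup (GL ι F)} {g : GL ι F} (hg : g ∈ H) :
    (g : Matrix ι ι F) ∈ Cfsg.Geo.matrixSet H := ⟨g, hg, rfl⟩

theorem Irred.eq_bot_or_top {H : Subgroup (GL ι F)} (hH : Irred H) (W : Submodule F (ι → F))
    (hW : ∀ g ∈ H, ∀ w ∈ W, (g : Matrix ι ι F) *ᵥ w ∈ W) : W = ⊥ ∨ W = ⊤ := by
  refine hH W fun s hs => ?_
  obtain ⟨g, hg, rfl⟩ := hs
  rintro _ ⟨w, hw, rfl⟩
  exact hW g hg w hw

theorem killed_invariant {H : Subgroup (GL ι F)} {S : Set (Matrix ι ι F)} (h : NormalisesSet H S)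
    {g : GL ι F} (hg : g ∈ H) {v : ι → F} (hv : v ∈ killed S) :
    (g : Matrix ι ι F) *ᵥ v ∈ killed S := by
  intro s hs
  have h1 : s * (g : Matrix ι ι F) = (g : Matrix ι ι F) * cj g⁻¹ s := by
    simp [cj, ← mul_assoc]
  rw [mulVec_mulVec, h1, ← mulVec_mulVec, hv _ (h g⁻¹ (H.inv_mem hg) s hs), mulVec_zero]

/-- A normalised set of matrices with a non-zero common kernel is `⊆ {0}`. -/
theorem Irred.eq_zero_of_killed {H : Subgroup (GL ι F)} (hH : Irred H) {S : Set (Matrix ι ι F)}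
    (h : NormalisesSet H S) (hne : killed S ≠ ⊥) : ∀ s ∈ S, s = 0 := by
  intro s hs
  rcases hH.eq_bot_or_top (killed S) (fun g hg v hv => killed_invariant h hg hv) with e | e
  · exact absurd e hne
  · apply Matrix.toLin'.injective
    rw [map_zero]
    exact LinearMap.ext fun v => (e ▸ Submodule.mem_top : v ∈ killed S) s hs

/-! ### scalars -/

theorem mem_scalars {g : GL ι F} :
    g ∈ Cfsg.Geo.scalars ι F ↔ ∃ c : Fˣ, (g : Matrix ι ι F) = (c : F) • (1 : Matrix ι ι F) :=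
  Cfsg.Geo.mem_scalars_iff g

theorem scalar_central {g : GL ι F} (hg : g ∈ Cfsg.Geo.scalars ι F) (h : GL ι F) : g * h = h * g := by
  obtain ⟨c, hc⟩ := mem_scalars.1 hg
  apply Units.ext
  simp [hc]

theorem mem_scalars_of_eq [Nonempty ι] {g : GL ι F} {c : F} (h : (g : Matrix ι ι F) = c • 1) :
    g ∈ Cfsg.Geo.scalars ι F := by
  have hc : c ≠ 0 := by
    rintro rfl
    rw [zero_smul] at h
    exact g.ne_zero h
  exact mem_scalars.2 ⟨Units.mk0 c hc, h⟩

theorem mem_scalars_of_commute [Nonempty ι] {g : GL ι F}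
    (h : ∀ a : Matrix ι ι F, (g : Matrix ι ι F) * a = a * (g : Matrix ι ι F)) :
    g ∈ Cfsg.Geo.scalars ι F := by
  obtain ⟨c, hc⟩ := Matrix.mem_range_scalar_of_commute_single (M := (g : Matrix ι ι F))
    (fun i j _ => (h _).symm)
  refine mem_scalars_of_eq (c := c) ?_
  rw [← hc]
  simp [Matrix.smul_one_eq_diagonal]

/-- the scalar matrices form the bottom subalgebra -/
theorem mem_bot_iff {a : Matrix ι ι F} :
    a ∈ (⊥ : Subalgebra F (Matrix ι ι F)) ↔ ∃ c : F, a = c • (1 : Matrix ι ι F) := by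
  rw [Algebra.mem_bot]
  exact ⟨fun ⟨c, hc⟩ => ⟨c, by rw [← hc, Algebra.algebraMap_eq_smul_one]⟩,
    fun ⟨c, hc⟩ => ⟨c, by rw [hc, Algebra.algebraMap_eq_smul_one]⟩⟩

end CfsgLib.Perm.Asch
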