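import Cfsg.Agent.Lib.Perm.Asch.Small2

/-!
# The candidates for maximal subgroups of `SL_n(q)`, `n ≥ 3`
-/

set_option autoImplicit false
set_option linter.all false

namespace CfsgLib.Perm.Asch

open scoped Classical Matrix
open Matrix Cfsg.Geo

variable {F : Type*} [Field F] [Fintype F] {n : ℕ}

theorem card_of_mDecomposition {t m : ℕ} {D : Fin t → Submodule F (Fin n → F)} (hD : IsMDecomposition m D) :
    t * m = n := by
  have hint : DirectSum.IsInternal D :=
    DirectSum.isInternal_submodule_of_iSupIndep_of_iSup_eq_top hD.indep hD.iSup_eq_top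
  let bs : (i : Fin t) → Module.Basis (Fin m) F (D i) := fun i => Module.finBasisOfFinrankEq F (D i) (hD.finrank_eq i)
  have h := Module.finrank_eq_card_basis (hint.collectedBasis bs)
  rw [Module.finrank_fin_fun] at h
  simpa using h.symm

/-- what the class 6 data says about `F` -/
def SympTypeField (r n : ℕ) (F : Type*) [Field F] [Fintype F] : Prop :=
  r.Prime ∧ (∃ m, n = r ^ m) ∧ ∃ p e : ℕ, p.Prime ∧ CharP F p ∧ Fintype.card F = p ^ e ∧
    ((Odd r ∧ Odd e ∧ e ∣ r - 1 ∧ p ^ e % r = 1 ∧ (e ≠ 1 → p % r ≠ 1)) ∨ (r = 2 ∧ e = 1 ∧ p % 4 = 1))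

theorem sympTypeField_of_data (hn : 3 ≤ n) {r m : ℕ} {R : Subgroup (GL (Fin n) F)}
    (hR : IsLinearSymplecticTypeData r R) (hnm : n = r ^ m) : SympTypeField r n F := by
  obtain ⟨p, e, hrp, ⟨hp, hcp, hcard, hdvd, hmin⟩, hcases⟩ := hR.field
  have hr := hR.symplecticType.prime
  refine ⟨hr, ⟨m, hnm⟩, p, e, hp, hcp, hcard, ?_⟩
  have hpe : 1 ≤ p ^ e := Nat.one_le_pow _ _ hp.pos
  rcases hcases with ⟨hodd, heodd, hz, -⟩ | ⟨h2, he1, hz, -⟩ | ⟨h2, -, hn2, -⟩
  · left
    rw [hz] at hdvd hmin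
    haveI : Fact r.Prime := ⟨hr⟩
    set x : ZMod r := (p : ZMod r) with hxdef
    have hx0 : x ≠ 0 := by
      rw [hxdef, ne_eq, ZMod.natCast_eq_zero_iff]
      exact fun h => hrp ((Nat.prime_dvd_prime_iff_eq hr hp).1 h)
    have hpow : ∀ d, x ^ d = 1 ↔ r ∣ p ^ d - 1 := fun d => by
      rw [← ZMod.natCast_eq_zero_iff, Nat.cast_sub (Nat.one_le_pow _ _ hp.pos), Nat.cast_pow, Nat.cast_one, sub_eq_zero]
    have he : orderOf x = e := by
      rw [orderOf_eq_iff (Odd.pos heodd)]
      exact ⟨(hpow e).2 hdvd, fun d hde hd0 h => hmin d hd0 hde ((hpow d).1 h)⟩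
    refine ⟨hodd, heodd, he ▸ orderOf_dvd_of_pow_eq_one (ZMod.pow_card_sub_one_eq_one hx0), ?_, ?_⟩
    · obtain ⟨k, hk⟩ := hdvd
      rw [show p ^ e = 1 + r * k by omega, Nat.add_mul_mod_self_left, Nat.one_mod_eq_one.2 hr.ne_one]
    · intro he1 h1
      refine hmin 1 one_pos (lt_of_le_of_ne (Odd.pos heodd) (Ne.symm he1)) ?_
      rw [pow_one]
      exact ⟨p / r, by have := Nat.div_add_mod p r; omega⟩
  · right
    rw [hz, he1, pow_one] at hdvd
    exact ⟨h2, he1, by have := hp.two_le; omega⟩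
  · exfalso
    rw [Fintype.card_fin] at hn2
    omega

/-- the possible maximal subgroups -/
inductive MaxCase (n : ℕ) (F : Type*) [Field F] [Fintype F] (H : Subgroup (GL (Fin n) F)) : Prop where
  | c1 (W : Submodule F (Fin n → F)) (h0 : W ≠ ⊥) (h1 : W ≠ ⊤)
      (h : H = subspaceStabilizer W ⊓ specialLinear (Fin n) F) : MaxCase n F H
  | c2 (t m : ℕ) (D : Fin t → Submodule F (Fin n → F)) (hD : IsMDecomposition m D) (htm : t * m = n)
      (h1 : m = 1 → 5 ≤ Fintype.card F) (h14 : m = 1 → n = 4 → 7 ≤ Fintype.card F)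
      (h2 : m = 2 → 3 ≤ Fintype.card F) (h22 : m = 2 → t = 2 → 4 ≤ Fintype.card F)
      (h : H = decompositionStabilizer D ⊓ specialLinear (Fin n) F) : MaxCase n F H
  | c3 (r : ℕ) (K : Subalgebra F (Matrix (Fin n) (Fin n) F)) (hr : r.Prime) (hdvd : r ∣ n)
      (hK : IsFieldSubalgebra r K) (h34 : n = 3 → Fintype.card F ≠ 4)
      (h : H = subalgebraNormalizer K ⊓ specialLinear (Fin n) F) : MaxCase n F H
  | c4 (n₁ n₂ : ℕ) (e : Fin n ≃ Fin n₁ × Fin n₂) (P : GL (Fin n) F) (h2 : 2 ≤ n₁) (hlt : n₁ < n₂)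
      (hn : n₁ * n₂ = n) (hq : n₁ = 2 → 3 ≤ Fintype.card F)
      (h : H = tensorProductSubgroup n₁ n₂ e P ⊓ specialLinear (Fin n) F) : MaxCase n F H
  | c5 (h : ∃ (F₀ : Subfield F) (r : ℕ) (P : GL (Fin n) F), r.Prime ∧ Fintype.card F = Nat.card F₀ ^ r ∧
      H = subfieldSubgroup F₀ P ⊓ specialLinear (Fin n) F) : MaxCase n F H
  | c6 (r : ℕ) (R : Subgroup (GL (Fin n) F)) (hR : IsLinearSymplecticTypeData r R) (hf : SympTypeField r n F)
      (h : H = subgroupNormalizer R ⊓ specialLinear (Fin n) F) : MaxCase n F H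
  | c7 (m t : ℕ) (e : Fin n ≃ (Fin t → Fin m)) (P : GL (Fin n) F) (hm : 3 ≤ m) (ht : 2 ≤ t) (hn : n = m ^ t)
      (h : H = tensorWreathSubgroup m t e P ⊓ specialLinear (Fin n) F) : MaxCase n F H
  | c8symp (f : (Fin n → F) → (Fin n → F) → F) (hf : IsSymplecticForm f) (he : Even n)
      (h : H = similarityGroup f ⊓ specialLinear (Fin n) F) : MaxCase n F H
  | c8unit (h : ∃ (σ : F ≃+* F) (f : (Fin n → F) → (Fin n → F) → F), IsUnitaryForm σ f ∧
      H = similarityGroup f ⊓ specialLinear (Fin n) F) : MaxCase n F H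
  | c8quad (h : Odd (Fintype.card F) ∧ ∃ Q : (Fin n → F) → F, IsNondegenerateQuadraticForm Q ∧
      H = quadSimilarityGroup Q ⊓ specialLinear (Fin n) F) : MaxCase n F H
  | residual (h : InLinearResidualClass H) : MaxCase n F H

theorem eq_inf {H X : Subgroup (GL (Fin n) F)} (hH : IsMaximalIn (specialLinear (Fin n) F) H) (hle : H ≤ X)
    (hne : ¬ specialLinear (Fin n) F ≤ X) : H = X ⊓ specialLinear (Fin n) F := by
  rcases hH.2 (X ⊓ specialLinear (Fin n) F) (le_inf hle hH.1.le) inf_le_right with h | h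
  · exact h.symm
  · exact absurd (inf_eq_right.1 h) hne

theorem card_ne_six : Fintype.card F ≠ 6 := by
  intro h
  obtain ⟨p, hp⟩ := CharP.exists F
  obtain ⟨e, hpp, he⟩ := FiniteField.card F p
  rw [h] at he
  have h2 := (Nat.prime_dvd_prime_iff_eq Nat.prime_two hpp).1 (Nat.prime_two.dvd_of_dvd_pow (he ▸ (by norm_num : 2 ∣ 6)))
  have h3 := (Nat.prime_dvd_prime_iff_eq Nat.prime_three hpp).1 (Nat.prime_three.dvd_of_dvd_pow (he ▸ (by norm_num : 3 ∣ 6)))
  omega

theorem max_cases (hn : 3 ≤ n) {H : Subgroup (GL (Fin n) F)} (hH : IsMaximalIn (specialLinear (Fin n) F) H) :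
    MaxCase n F H := by
  haveI : Nonempty (Fin n) := ⟨⟨0, by omega⟩⟩
  have hSL := hH.1.le
  have quad : ∀ Q : (Fin n → F) → F, IsNondegenerateQuadraticForm Q → Odd (Fintype.card F) →
      H ≤ quadSimilarityGroup Q → MaxCase n F H := fun Q hQ hq hle =>
    .c8quad ⟨hq, Q, hQ, eq_inf hH hle fun h => not_le_similarityGroup hn hQ.polar_bilinear.add_left
      hQ.polar_bilinear.smul_left hQ.nondegenerate (h.trans quadSimilarity_le_polar)⟩
  have unit : ∀ (σ : F ≃+* F) (f : (Fin n → F) → (Fin n → F) → F), IsUnitaryForm σ f → H ≤ similarityGroup f →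
      MaxCase n F H := fun σ f hf hle =>
    .c8unit ⟨σ, f, hf, eq_inf hH hle (not_le_similarityGroup hn hf.add_left hf.smul_left hf.nondegenerate)⟩
  have symp : ∀ f : (Fin n → F) → (Fin n → F) → F, IsSymplecticForm f → Even n → H ≤ similarityGroup f →
      MaxCase n F H := fun f hf he hle =>
    .c8symp f hf he (eq_inf hH hle (not_le_similarityGroup hn hf.bilinear.add_left hf.bilinear.smul_left hf.nondegenerate))
  have line : ∀ W : Submodule F (Fin n → F), W ≠ ⊥ → W ≠ ⊤ → H ≤ subspaceStabilizer W → MaxCase n F H :=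
    fun W h0 h1 hle => .c1 W h0 h1 (eq_inf hH hle (not_le_subspaceStabilizer h0 h1))
  have subf : ∀ (F₀ : Subfield F) (r : ℕ) (P : GL (Fin n) F), r.Prime → Fintype.card F = Nat.card F₀ ^ r →
      H ≤ subfieldSubgroup F₀ P → MaxCase n F H := fun F₀ r P hr hc hle => by
    haveI : Nontrivial (Fin n) := Fin.nontrivial_iff_two_le.2 (by omega)
    refine .c5 ⟨F₀, r, P, hr, hc, eq_inf hH hle (not_le_subfieldSubgroup ?_ P)⟩
    rintro rfl
    have htop : Nat.card (⊤ : Subfield F) = Fintype.card F := by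
      rw [Nat.card_congr Subfield.topEquiv.toEquiv, Nat.card_eq_fintype_card]
    rw [htop] at hc
    exact absurd hc (lt_self_pow₀ Fintype.one_lt_card hr.one_lt).ne
  rcases linear_structure hn H with hc | hres
  swap
  · exact .residual hres
  cases hc with
  | c1 h0 h1 h => exact line _ h0 h1 h
  | @c2 t m D hD h =>
    have htm := card_of_mDecomposition hD
    by_cases hm1 : m = 1
    · subst hm1
      rw [mul_one] at htm
      subst htm
      have h2 : 1 < Fintype.card F := Fintype.one_lt_card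
      rcases (show Fintype.card F = 2 ∨ Fintype.card F = 3 ∨ Fintype.card F = 4 ∨
          (5 ≤ Fintype.card F ∧ ¬ (t = 4 ∧ Fintype.card F = 5)) ∨ (t = 4 ∧ Fintype.card F = 5) by omega) with
        hq | hq | hq | ⟨hq, hq5⟩ | ⟨ht, hq⟩
      · obtain ⟨W, h0, h1, hle⟩ := exists_line_of_monomial_two hq (by omega) hD h
        exact line W h0 h1 hle
      · obtain ⟨Q, hQ, hle⟩ := exists_quad_of_monomial_three hq hD h
        exact quad Q hQ (by rw [hq]; decide) hle
      · obtain ⟨σ, f, hf, hle⟩ := exists_unitary_of_monomial_four hq hD h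
        exact unit σ f hf hle
      · refine .c2 t 1 D hD (mul_one t) (fun _ => hq) (fun _ ht => ?_) (by omega) (by omega)
          (eq_inf hH h (not_le_decompositionStabilizer hD))
        have := card_ne_six (F := F)
        omega
      · subst ht
        exact (monomial_not_maximal hq hH hD h).elim
    · by_cases hsm : m = 2 ∧ (Fintype.card F = 2 ∨ (Fintype.card F = 3 ∧ t = 2))
      · obtain ⟨rfl, hq⟩ := hsm
        obtain ⟨f, hf, hle⟩ := exists_symplectic_of_planes (by have := hD.two_le; omega) hD h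
          (hq.imp_right fun hq => ⟨hq.1, hq.2, hSL⟩)
        exact symp f hf ⟨t, by omega⟩ hle
      · have h2 : 1 < Fintype.card F := Fintype.one_lt_card
        exact .c2 t m D hD htm (fun h' => absurd h' hm1) (fun h' => absurd h' hm1)
          (fun h' => by by_contra hlt; exact hsm ⟨h', Or.inl (by omega)⟩)
          (fun h' ht => by
            by_contra hlt
            rcases (show Fintype.card F = 2 ∨ Fintype.card F = 3 by omega) with hq | hq
            · exact hsm ⟨h', Or.inl hq⟩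
            · exact hsm ⟨h', Or.inr ⟨hq, ht⟩⟩)
          (eq_inf hH h (not_le_decompositionStabilizer hD))
  | @c3 r K hr hK h =>
    have hdvd := fieldDegree_dvd (by omega) hK
    by_cases h34 : n = 3 ∧ Fintype.card F = 4
    · obtain ⟨rfl, hq⟩ := h34
      obtain rfl : r = 3 := (Nat.prime_dvd_prime_iff_eq hr Nat.prime_three).1 hdvd
      obtain ⟨F₀, r', P, hr', hc', hle⟩ := exists_subfield_of_singer hq hSL hK h
      exact subf F₀ r' P hr' hc' hle
    · exact .c3 r K hr hdvd hK (fun h3 h4 => h34 ⟨h3, h4⟩) (eq_inf hH h (not_le_subalgebraNormalizer hn hr hK))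
  | @c4 n₁ n₂ e P h2 hlt h =>
    have hcard : n₁ * n₂ = n := by simpa using (Fintype.card_congr e).symm
    by_cases hsm : n₁ = 2 ∧ Fintype.card F = 2
    · obtain ⟨rfl, hq⟩ := hsm
      obtain ⟨K, hK, hle⟩ := exists_field_of_tensor_two hq (by omega) e P h
      exact .c3 2 K Nat.prime_two ⟨n₂, hcard.symm⟩ hK (fun h3 => absurd h3 (by omega))
        (eq_inf hH hle (not_le_subalgebraNormalizer hn Nat.prime_two hK))
    · exact .c4 n₁ n₂ e P h2 hlt hcard
        (fun h' => by
          have : 1 < Fintype.card F := Fintype.one_lt_card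
          by_contra hlt'
          exact hsm ⟨h', by omega⟩)
        (eq_inf hH h (not_le_tensorProductSubgroup h2 (by omega) e P))
  | @c5 F₀ r P hr hc h => exact subf F₀ r P hr hc h
  | @c6 r m R hR hnm h =>
    obtain ⟨p, e, hrp, ⟨hp, hcp, -, -, -⟩, -⟩ := hR.field
    haveI := hcp
    haveI : Fact p.Prime := ⟨hp⟩
    exact .c6 r R hR (sympTypeField_of_data hn hR hnm)
      (eq_inf hH h (not_le_subgroupNormalizer hn hR.symplecticType.prime hrp hR.symplecticType.pGroup hR.absIrred.1))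
  | @c7 m t e P hm ht h =>
    exact .c7 m t e P hm ht (by simpa using Fintype.card_congr e)
      (eq_inf hH h (not_le_tensorWreathSubgroup (by omega) ht e P))
  | @c8symp f hf he hn4 h => exact symp f hf he h
  | @c8unit σ f hf hn' h => exact unit σ f hf h
  | @c8quad Q hQ hq hn' h => exact quad Q hQ hq h

theorem SympTypeField.eq_of_dvd {r q : ℕ} (h : SympTypeField r n F) (hq : q.Prime) (hd : q ∣ n) : r = q := by
  obtain ⟨m, hm⟩ := h.2.1
  exact ((Nat.prime_dvd_prime_iff_eq hq h.1).1 (hq.dvd_of_dvd_pow (hm ▸ hd))).symm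

/-- the field for an odd prime `r` when only `e = 1` is possible -/
theorem SympTypeField.prime_field {r : ℕ} (h : SympTypeField r n F) (hr : Odd r)
    (h1 : ∀ e, e ∣ r - 1 → Odd e → e = 1) :
    ∃ p : ℕ, p.Prime ∧ Fintype.card F = p ∧ p % r = 1 := by
  obtain ⟨-, -, p, e, hp, -, hcard, hc⟩ := h
  rcases hc with ⟨-, he, hd, hm, -⟩ | ⟨h2, -, -⟩
  · obtain rfl := h1 e hd he
    rw [pow_one] at hcard hm
    exact ⟨p, hp, hcard, hm⟩
  · subst h2; exact absurd hr (by decide)

theorem SympTypeField.four_dvd {r : ℕ} (h : SympTypeField r n F) (hr : r = 2) :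
    ∃ p : ℕ, p.Prime ∧ Fintype.card F = p ∧ p % 4 = 1 := by
  obtain ⟨-, -, p, e, hp, -, hcard, hc⟩ := h
  rcases hc with ⟨hodd, -⟩ | ⟨-, he, hm⟩
  · subst hr; exact absurd hodd (by decide)
  · subst he; rw [pow_one] at hcard; exact ⟨p, hp, hcard, hm⟩

end CfsgLib.Perm.Asch
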