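import Cfsg.Agent.Lib.Perm.Asch.Power

/-!
# Normal subgroups of a group outside the geometric classes
-/

set_option autoImplicit false
set_option linter.all false

namespace CfsgLib.Perm.Asch

open scoped Classical Matrix Kronecker
open Matrix Cfsg.Geo

variable {F : Type*} [Field F] [Fintype F] {n : ℕ}

/-- `H` lies in a member of one of the eight linear classes (with the degree of the class 6 groups) -/
inductive InClass (n : ℕ) (F : Type*) [Field F] [Fintype F] (H : Subgroup (GL (Fin n) F)) : Prop where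
  | c1 {W : Submodule F (Fin n → F)} (h0 : W ≠ ⊥) (h1 : W ≠ ⊤) (h : H ≤ subspaceStabilizer W) : InClass n F H
  | c2 {t m : ℕ} {D : Fin t → Submodule F (Fin n → F)} (hD : IsMDecomposition m D)
      (h : H ≤ decompositionStabilizer D) : InClass n F H
  | c3 {r : ℕ} {K : Subalgebra F (Matrix (Fin n) (Fin n) F)} (hr : r.Prime) (hK : IsFieldSubalgebra r K)
      (h : H ≤ subalgebraNormalizer K) : InClass n F H
  | c4 {n₁ n₂ : ℕ} (e : Fin n ≃ Fin n₁ × Fin n₂) (P : GL (Fin n) F) (h2 : 2 ≤ n₁) (hlt : n₁ < n₂)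
      (h : H ≤ tensorProductSubgroup n₁ n₂ e P) : InClass n F H
  | c5 {F₀ : Subfield F} {r : ℕ} {P : GL (Fin n) F} (hr : r.Prime) (hc : Fintype.card F = Nat.card F₀ ^ r)
      (h : H ≤ subfieldSubgroup F₀ P) : InClass n F H
  | c6 {r m : ℕ} {R : Subgroup (GL (Fin n) F)} (hR : IsLinearSymplecticTypeData r R) (hnm : n = r ^ m)
      (h : H ≤ subgroupNormalizer R) : InClass n F H
  | c7 {m t : ℕ} (e : Fin n ≃ (Fin t → Fin m)) (P : GL (Fin n) F) (hm : 3 ≤ m) (ht : 2 ≤ t)
      (h : H ≤ tensorWreathSubgroup m t e P) : InClass n F H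
  | c8symp {f : (Fin n → F) → (Fin n → F) → F} (hf : IsSymplecticForm f) (he : Even n) (hn : 4 ≤ n)
      (h : H ≤ similarityGroup f) : InClass n F H
  | c8unit {σ : F ≃+* F} {f : (Fin n → F) → (Fin n → F) → F} (hf : IsUnitaryForm σ f) (hn : 3 ≤ n)
      (h : H ≤ similarityGroup f) : InClass n F H
  | c8quad {Q : (Fin n → F) → F} (hQ : IsNondegenerateQuadraticForm Q) (hq : Odd (Fintype.card F))
      (hn : 3 ≤ n) (h : H ≤ quadSimilarityGroup Q) : InClass n F H

section
variable {H : Subgroup (GL (Fin n) F)}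

/-- the classes in the sense of the definitions -/
theorem InClass.exists_member (h : InClass n F H) : ∃ M, InLinearClass n F M ∧ H ≤ M := by
  cases h with
  | @c1 W h0 h1 h => exact ⟨_, Or.inl ⟨W, h0, h1, rfl⟩, h⟩
  | @c2 t m D hD h => exact ⟨_, Or.inr (Or.inr (Or.inr (Or.inl ⟨t, m, D, hD, rfl⟩))), h⟩
  | @c3 r K hr hK h => exact ⟨_, Or.inr (Or.inr (Or.inr (Or.inr (Or.inl ⟨r, K, hr, hK, rfl⟩)))), h⟩
  | @c4 n₁ n₂ e P h2 hlt h =>
    exact ⟨_, Or.inr (Or.inr (Or.inr (Or.inr (Or.inr (Or.inl ⟨n₁, n₂, e, P, h2, hlt, rfl⟩))))), h⟩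
  | @c5 F₀ r P hr hc h =>
    exact ⟨_, Or.inr (Or.inr (Or.inr (Or.inr (Or.inr (Or.inr (Or.inl ⟨F₀, r, P, hr, hc, rfl⟩)))))), h⟩
  | @c6 r m R hR hnm h =>
    exact ⟨_, Or.inr (Or.inr (Or.inr (Or.inr (Or.inr (Or.inr (Or.inr (Or.inl ⟨r, R, hR, rfl⟩))))))), h⟩
  | @c7 m t e P hm ht h =>
    exact ⟨_, Or.inr (Or.inr (Or.inr (Or.inr (Or.inr (Or.inr (Or.inr (Or.inr (Or.inl
      ⟨m, t, e, P, hm, ht, rfl⟩)))))))), h⟩
  | @c8symp f hf he hn h =>
    exact ⟨_, Or.inr (Or.inr (Or.inr (Or.inr (Or.inr (Or.inr (Or.inr (Or.inr (Or.inr (Or.inl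
      ⟨f, hf, he, hn, rfl⟩))))))))), h⟩
  | @c8unit σ f hf hn h =>
    exact ⟨_, Or.inr (Or.inr (Or.inr (Or.inr (Or.inr (Or.inr (Or.inr (Or.inr (Or.inr (Or.inr (Or.inl
      ⟨σ, f, hf, hn, rfl⟩)))))))))), h⟩
  | @c8quad Q hQ hq hn h =>
    exact ⟨_, Or.inr (Or.inr (Or.inr (Or.inr (Or.inr (Or.inr (Or.inr (Or.inr (Or.inr (Or.inr (Or.inr
      ⟨Q, hQ, hq, hn, rfl⟩)))))))))), h⟩

/-- the invariant bilinear form of an absolutely irreducible normalised group -/
theorem InClass.of_invForm (hn : 3 ≤ n) {P : Subgroup (GL (Fin n) F)} (hnP : NormG H P) (hP : AbsIrr P)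
    {G : Matrix (Fin n) (Fin n) F} (hG : InvForm P (RingHom.id F) G) (h0 : G ≠ 0) : InClass n F H := by
  haveI : Nonempty (Fin n) := ⟨⟨0, by omega⟩⟩
  rcases class8_of_invForm (by simpa using (show 2 ≤ n by omega)) hnP hP hG h0 with
    ⟨f, hf, he, hle⟩ | ⟨Q, hQ, hq, hle⟩
  · rw [Fintype.card_fin] at he
    exact InClass.c8symp hf he (by rcases he with ⟨k, rfl⟩; omega) hle
  · exact InClass.c8quad hQ hq hn hle

end

/-! ### tensor powers of a two dimensional space -/

section Power
variable {ι : Type} [Fintype ι] [DecidableEq ι]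

/-- an antisymmetric Gram matrix with zero diagonal gives an alternating form -/
theorem gform_self_eq_zero {G : Matrix ι ι F} (hs : Gᵀ = -G) (hd : ∀ i, G i i = 0) (v : ι → F) :
    gform (RingHom.id F) G v v = 0 := by
  have hswap : ∀ a b, gform (RingHom.id F) G b a = - gform (RingHom.id F) G a b := fun a b => by
    rw [gform_swap, hs]; simp [gform, Matrix.neg_mulVec]
  have hadd : ∀ a b, gform (RingHom.id F) G (a + b) (a + b) =
      gform (RingHom.id F) G a a + gform (RingHom.id F) G b b := fun a b => by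
    rw [gform_add_left, gform_add_right, gform_add_right, hswap a b]; ring
  have hsum : ∀ s : Finset ι, gform (RingHom.id F) G (∑ i ∈ s, v i • Pi.single i 1) (∑ i ∈ s, v i • Pi.single i 1) = 0 := by
    intro s
    induction s using Finset.induction_on with
    | empty => simp [gform]
    | insert i s hi ih =>
      rw [Finset.sum_insert hi, hadd, ih, add_zero, gform_smul_left, gform_smul_right, gform_single, hd]
      simp
  rw [show v = ∑ i, v i • (Pi.single i 1 : ι → F) from pi_eq_sum_univ' v]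
  exact hsum _

/-- the standard alternating matrix -/
def J2 (F : Type*) [Field F] : Matrix (Fin 2) (Fin 2) F := !![0, 1; -1, 0]

theorem J2_congr (A : Matrix (Fin 2) (Fin 2) F) : Aᵀ * J2 F * A = A.det • J2 F := by
  ext i j
  fin_cases i <;> fin_cases j <;>
    simp [J2, Matrix.det_fin_two, Matrix.mul_apply, Fin.sum_univ_two] <;> ring

theorem InClass.of_power_two {H : Subgroup (GL (Fin n) F)} {t : ℕ} (ht : 2 ≤ t) (e : Fin n ≃ (Fin t → Fin 2))
    (P : GL (Fin n) F) (h : H ≤ tensorWreathSubgroup 2 t e P) : InClass n F H := by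
  have hn : n = 2 ^ t := by simpa using Fintype.card_congr e
  have h2t : 4 ≤ 2 ^ t := by
    calc 4 = 2 ^ 2 := rfl
      _ ≤ 2 ^ t := Nat.pow_le_pow_right (by norm_num) ht
  haveI : Nonempty (Fin n) := ⟨⟨0, by omega⟩⟩
  set G0 : Matrix (Fin t → Fin 2) (Fin t → Fin 2) F := pure fun _ => J2 F with hG0
  have hG0inv : G0 * pure (fun _ => -(J2 F)) = 1 := by
    have hJ : (fun _ : Fin t => J2 F) * (fun _ : Fin t => -(J2 F)) = 1 := by
      funext i
      simp only [Pi.mul_apply, Pi.one_apply]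
      ext a b
      fin_cases a <;> fin_cases b <;> simp [J2]
    rw [hG0, pure_mul, hJ, pure_one]
  set Pi' : Matrix (Fin n) (Fin n) F := ((P⁻¹ : GL (Fin n) F) : Matrix (Fin n) (Fin n) F) with hPi'
  set G : Matrix (Fin n) (Fin n) F := Pi'ᵀ * rx e G0 * Pi' with hG
  have hdet : G.det ≠ 0 := by
    have h1 : IsUnit (rx e G0) := by
      refine IsUnit.map _ ⟨⟨G0, _, hG0inv, ?_⟩, rfl⟩
      exact mul_eq_one_comm.1 hG0inv
    have h2 : IsUnit Pi' := Units.isUnit _
    have h3 : IsUnit Pi'ᵀ := by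
      rw [Matrix.isUnit_iff_isUnit_det, Matrix.det_transpose, ← Matrix.isUnit_iff_isUnit_det]; exact h2
    exact ((Matrix.isUnit_iff_isUnit_det _).1 ((h3.mul h1).mul h2)).ne_zero
  -- the generators are similarities
  have hS : tensorWreathSubgroup 2 t e P ≤ similarityGroup (gform (RingHom.id F) G) := by
    rw [tensorWreathSubgroup, tensorWreathStandard, Subgroup.map_le_iff_le_comap, Subgroup.map_le_iff_le_comap,
      Subgroup.closure_le]
    intro k hk
    obtain ⟨c, hc⟩ : ∃ c : Fˣ, (k : Matrix _ _ F)ᵀ * G0 * (k : Matrix _ _ F) = (c : F) • G0 := by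
      rcases hk with ⟨gs, hgs⟩ | ⟨σ, hσ⟩
      · have hd : ∀ i, (gs i : Matrix (Fin 2) (Fin 2) F).det ≠ 0 := fun i =>
          ((Matrix.isUnit_iff_isUnit_det _).1 (Units.isUnit _)).ne_zero
        refine ⟨∏ i, Units.mk0 _ (hd i), ?_⟩
        have hkk : (k : Matrix _ _ F) = pure fun i => (gs i : Matrix (Fin 2) (Fin 2) F) :=
          Matrix.ext fun x y => hgs x y
        rw [hkk, hG0, pure_transpose, pure_mul, pure_mul, Units.coe_prod]
        simp only [Units.val_mk0]
        rw [← pure_smul]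
        congr 1
        funext i
        exact J2_congr _
      · refine ⟨1, ?_⟩
        have hkk : k = permGL σ := Units.ext (Matrix.ext fun x y => hσ x y)
        rw [Units.val_one, one_smul, hkk, permGL_coe, permMat_transpose]
        have := cj_permGL_pure (F := F) σ⁻¹ (fun _ : Fin t => J2 F)
        rw [cj, permGL_coe] at this
        have e2 : (((permGL σ⁻¹)⁻¹ : GL (Fin t → Fin 2) F) : Matrix (Fin t → Fin 2) (Fin t → Fin 2) F) = permMat σ := by
          show permMat σ⁻¹⁻¹ = _
          rw [inv_inv]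
        rw [e2] at this
        exact this
    show P * glReindex e.symm k * P⁻¹ ∈ similarityGroup (gform (RingHom.id F) G)
    refine ⟨c, fun u v => ?_⟩
    rw [gform_mulVec]
    have hval : ((P * glReindex e.symm k * P⁻¹ : GL (Fin n) F) : Matrix (Fin n) (Fin n) F) =
        (P : Matrix (Fin n) (Fin n) F) * rx e (k : Matrix _ _ F) * Pi' := by
      rw [Units.val_mul, Units.val_mul]; rfl
    have key : ((P * glReindex e.symm k * P⁻¹ : GL (Fin n) F) : Matrix (Fin n) (Fin n) F)ᵀ * G *
        ((P * glReindex e.symm k * P⁻¹ : GL (Fin n) F) : Matrix (Fin n) (Fin n) F) = (c : F) • G := by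
      rw [hval, hG, Matrix.transpose_mul, Matrix.transpose_mul]
      have hrt : (rx e (k : Matrix _ _ F))ᵀ = rx e (k : Matrix _ _ F)ᵀ := rfl
      have hPP : (P : Matrix (Fin n) (Fin n) F)ᵀ * Pi'ᵀ = 1 := by
        rw [← Matrix.transpose_mul, hPi', gl_inv_mul, Matrix.transpose_one]
      have hPP' : Pi' * (P : Matrix (Fin n) (Fin n) F) = 1 := gl_inv_mul P
      calc _ = Pi'ᵀ * ((rx e (k : Matrix _ _ F))ᵀ * ((P : Matrix (Fin n) (Fin n) F)ᵀ * Pi'ᵀ) * rx e G0 *
            (Pi' * (P : Matrix (Fin n) (Fin n) F)) * rx e (k : Matrix _ _ F)) * Pi' := by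
            simp only [mul_assoc]
        _ = _ := by
          rw [hPP, hPP', mul_one, mul_one, hrt, ← map_mul, ← map_mul, hc, map_smul, mul_smul_comm, smul_mul_assoc]
    simp only [RingHom.coe_id, Matrix.map_id]
    rw [key]
    simp [gform, Matrix.smul_mulVec, dotProduct_smul]
  have hle := h.trans hS
  have hG0t : G0ᵀ = ((-1 : F) ^ t) • G0 := by
    rw [hG0, pure_transpose]
    have : (fun _ : Fin t => (J2 F)ᵀ) = fun _ : Fin t => (-1 : F) • J2 F := by
      funext i
      ext a b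
      fin_cases a <;> fin_cases b <;> simp [J2]
    rw [this, pure_smul, Finset.prod_const, Finset.card_univ, Fintype.card_fin]
  have hGt : Gᵀ = ((-1 : F) ^ t) • G := by
    have hrt : (rx e G0)ᵀ = rx e G0ᵀ := rfl
    rw [hG, Matrix.transpose_mul, Matrix.transpose_mul, Matrix.transpose_transpose, hrt, hG0t, map_smul,
      smul_mul_assoc, mul_smul_comm, mul_assoc]
  by_cases hcase : Even t ∧ Odd (Fintype.card F)
  · obtain ⟨hte, hodd⟩ := hcase
    rw [hte.neg_one_pow, one_smul] at hGt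
    set f := gform (RingHom.id F) G with hf
    have hsym : ∀ a b, f b a = f a b := fun a b => by rw [hf, gform_swap, hGt]
    have hpol : QuadraticMap.polar (fun v => f v v) = fun a b => 2 * f a b := by
      funext a b
      simp only [QuadraticMap.polar, hf, gform_add_left, gform_add_right]
      rw [show gform (RingHom.id F) G b a = gform (RingHom.id F) G a b from hsym a b]
      ring
    refine InClass.c8quad (Q := fun v => f v v) ⟨fun a v => ?_, ?_, ?_⟩ hodd (by omega) ?_
    · show f (a • v) (a • v) = a ^ 2 * f v v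
      simp only [hf, gform_smul_left, gform_smul_right, RingHom.id_apply]; ring
    · rw [hpol]
      exact ⟨fun x y v => by simp only [hf, gform_add_left]; ring,
        fun a x v => by simp only [hf, gform_smul_left]; ring,
        fun v x y => by simp only [hf, gform_add_right]; ring,
        fun a v x => by simp only [hf, gform_smul_right, RingHom.id_apply]; ring⟩
    · rw [hpol]
      intro v hv
      obtain ⟨⟨x, hx⟩, ⟨y, hy⟩⟩ := gform_nondegenerate (σ := RingHom.id F) hdet v hv
      exact ⟨⟨x, mul_ne_zero (two_ne_zero_of_odd hodd) hx⟩, ⟨y, mul_ne_zero (two_ne_zero_of_odd hodd) hy⟩⟩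
    · intro x hx
      obtain ⟨a, ha⟩ := hle hx
      exact ⟨a, fun v => ha v v⟩
  · have hneg : ((-1 : F) ^ t) = -1 := by
      rcases Nat.even_or_odd t with hte | hto
      · have : ¬ Odd (Fintype.card F) := fun hq => hcase ⟨hte, hq⟩
        have hchar : ringChar F = 2 := by
          rw [FiniteField.even_card_iff_char_two]
          rcases Nat.even_or_odd (Fintype.card F) with h | h
          · exact Nat.even_iff.1 h
          · exact absurd h this
        haveI : CharP F 2 := hchar ▸ ringChar.charP F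
        rw [CharTwo.neg_eq, one_pow]
      · exact hto.neg_one_pow
    rw [hneg] at hGt hG0t
    simp only [neg_smul, one_smul] at hGt hG0t
    refine InClass.c8symp (f := gform (RingHom.id F) G)
      ⟨gform_bilinear G, fun a b => ?_, fun v => ?_, gform_nondegenerate hdet⟩ ?_ (by omega) hle
    · rw [gform_swap, hGt]
      simp [gform, Matrix.neg_mulVec]
    · have hh : gform (RingHom.id F) G v v = gform (RingHom.id F) (rx e G0) (Pi' *ᵥ v) (Pi' *ᵥ v) := by
        rw [gform_mulVec, hG]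
        simp only [RingHom.coe_id, Matrix.map_id]
      rw [hh]
      refine gform_self_eq_zero ?_ (fun i => ?_) _
      · show rx e G0ᵀ = _
        rw [hG0t, map_neg]
      · rw [rx_apply, hG0, pure_apply]
        refine Finset.prod_eq_zero (Finset.mem_univ (⟨0, by omega⟩ : Fin t)) ?_
        generalize e i ⟨0, by omega⟩ = z
        fin_cases z <;> simp [J2]
    · rw [hn]
      exact (Nat.even_pow.2 ⟨even_two, by omega⟩)

end Power

/-! ### a normalised tensor decomposition -/

theorem InClass.of_leftFactor {H : Subgroup (GL (Fin n) F)} {d m : ℕ} (hd : 2 ≤ d) (hm : 2 ≤ m)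
    (e : Fin n ≃ Fin d × Fin m) (P : GL (Fin n) F)
    (hnorm : ∀ h ∈ H, ∀ A, ∃ B : Matrix (Fin d) (Fin d) F,
      cj h (cj P (rx e (A ⊗ₖ (1 : Matrix (Fin m) (Fin m) F)))) = cj P (rx e (B ⊗ₖ 1))) :
    InClass n F H := by
  haveI : Nonempty (Fin d) := ⟨⟨0, by omega⟩⟩
  haveI : Nonempty (Fin m) := ⟨⟨0, by omega⟩⟩
  have hle := le_tensorProduct e P hnorm
  rcases lt_trichotomy d m with hlt | heq | hgt
  · exact InClass.c4 e P hd hlt hle
  · subst heq
    let e' : Fin n ≃ (Fin 2 → Fin d) := e.trans (finTwoArrowEquiv (Fin d)).symm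
    have hsub : tensorProductSubgroup d d e P ≤ tensorWreathSubgroup d 2 e' P := by
      intro x hx
      obtain ⟨y, hy, rfl⟩ := Subgroup.mem_map.1 hx
      obtain ⟨k, ⟨a, b, hk⟩, rfl⟩ := Subgroup.mem_map.1 hy
      refine Subgroup.mem_map.2 ⟨_, Subgroup.mem_map.2 ⟨pureGL ![a, b],
        Subgroup.subset_closure (Or.inl ⟨![a, b], fun x y => rfl⟩), rfl⟩, ?_⟩
      congr 1
      apply Units.ext
      show rx e' (pure fun i => ((![a, b] i : GL (Fin d) F) : Matrix (Fin d) (Fin d) F)) = rx e (k : Matrix _ _ F)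
      ext i j
      rw [rx_apply, rx_apply, pure_apply, Fin.prod_univ_two, hk, Matrix.kronecker_apply]
      simp [e', finTwoArrowEquiv]
    rcases Nat.lt_or_ge d 3 with h3 | h3
    · obtain rfl : d = 2 := by omega
      exact InClass.of_power_two le_rfl e' P (hle.trans hsub)
    · exact InClass.c7 e' P h3 le_rfl (hle.trans hsub)
  · refine InClass.c4 (e.trans (Equiv.prodComm _ _)) P hm hgt (hle.trans ?_)
    intro x hx
    obtain ⟨y, hy, rfl⟩ := Subgroup.mem_map.1 hx
    obtain ⟨k, ⟨a, b, hk⟩, rfl⟩ := Subgroup.mem_map.1 hy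
    refine Subgroup.mem_map.2 ⟨_, Subgroup.mem_map.2 ⟨glReindex (Equiv.prodComm (Fin d) (Fin m)) k,
      ⟨b, a, ?_⟩, rfl⟩, ?_⟩
    · ext ⟨i1, i2⟩ ⟨j1, j2⟩
      show (k : Matrix _ _ F) (i2, i1) (j2, j1) = _
      rw [hk, Matrix.kronecker_apply, Matrix.kronecker_apply, mul_comm]
    · congr 1

/-! ### absolute irreducibility of normal subgroups -/

theorem subspaceStabilizer_mem {ι : Type} [Fintype ι] [DecidableEq ι] {H : Subgroup (GL ι F)}
    {W : Submodule F (ι → F)} (h : ∀ g ∈ H, ∀ w ∈ W, (g : Matrix ι ι F) *ᵥ w ∈ W) :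
    H ≤ subspaceStabilizer W := by
  intro g hg v
  constructor
  · exact fun hv => h g hg v hv
  · intro hv
    have := h g⁻¹ (H.inv_mem hg) _ hv
    rwa [show Cfsg.glToMat ι F g = (g : Matrix ι ι F) from rfl, mulVec_mulVec, gl_inv_mul, one_mulVec] at this

theorem irred_of_not_inClass {H : Subgroup (GL (Fin n) F)} (hH : ¬ InClass n F H) : Irred H := by
  intro W hW
  by_contra hcon
  push Not at hcon
  exact hH (InClass.c1 hcon.1 hcon.2 (subspaceStabilizer_mem fun g hg w hw => hW _ (mem_matrixSet hg) ⟨w, hw, rfl⟩))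

/-- A normalised commutative subalgebra is the algebra of scalars. -/
theorem scalar_of_comm {H : Subgroup (GL (Fin n) F)} (hn : 0 < n) (hH : ¬ InClass n F H)
    {Z : Subalgebra F (Matrix (Fin n) (Fin n) F)} (hc : ∀ x ∈ Z, ∀ y ∈ Z, x * y = y * x) (hN : Normalises H Z) :
    ∀ z ∈ Z, ∃ c : F, z = c • (1 : Matrix (Fin n) (Fin n) F) := by
  haveI : Nonempty (Fin n) := ⟨⟨0, hn⟩⟩
  by_contra hcon
  push Not at hcon
  rcases comm_normalised (irred_of_not_inClass hH) hc hN hcon with
    ⟨t, m, e, D, -, -, -, -, hD, hle, -⟩ | ⟨r, K, hr, hK, -, hle, -⟩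
  · exact hH (InClass.c2 hD hle)
  · exact hH (InClass.c3 hr hK hle)

/-- A subgroup normalised by an irreducible group and commuting only with scalars is irreducible. -/
theorem irred_of_centralizer {ι : Type} [Fintype ι] [DecidableEq ι] {H N : Subgroup (GL ι F)} (hH : Irred H)
    (hN : NormG H N) (hsc : ∀ M : Matrix ι ι F, (∀ x ∈ N, M * (x : Matrix ι ι F) = (x : Matrix ι ι F) * M) →
      ∃ c : F, M = c • (1 : Matrix ι ι F)) : Irred N := by
  intro W hW
  have hW' : ∀ x ∈ N, ∀ w ∈ W, (x : Matrix ι ι F) *ᵥ w ∈ W := fun x hx w hw =>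
    hW _ (mem_matrixSet hx) ⟨w, hw, rfl⟩
  by_contra hcon
  push Not at hcon
  obtain ⟨hbot, htop⟩ := hcon
  let NInv : Submodule F (ι → F) → Prop := fun U => ∀ x ∈ N, ∀ w ∈ U, (x : Matrix ι ι F) *ᵥ w ∈ U
  -- a minimal invariant subspace
  obtain ⟨S, ⟨hS0, hSI⟩, hSmin⟩ := Set.Finite.exists_minimal (s := {U | U ≠ ⊥ ∧ NInv U}) (Set.toFinite _)
    ⟨W, hbot, hW'⟩
  obtain ⟨U, ⟨hUI, hWU⟩, hUmax⟩ := Set.Finite.exists_maximal (s := {U | NInv U ∧ W ⊓ U = ⊥}) (Set.toFinite _)
    ⟨⊥, fun x _ w hw => by rw [Submodule.mem_bot] at hw ⊢; subst hw; simp, inf_bot_eq _⟩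
  -- `W ⊔ U` is everything
  have hsup : W ⊔ U = ⊤ := by
    by_contra hne
    let T : GL ι F → Submodule F (ι → F) := fun g => S.map (Matrix.toLin' (g : Matrix ι ι F))
    have hall : ⨆ g : H, T g = ⊤ := by
      rcases hH.eq_bot_or_top (⨆ g : H, T g) (fun g hg w hw => by
        have : (⨆ h : H, T h).map (Matrix.toLin' (g : Matrix ι ι F)) ≤ ⨆ h : H, T h := by
          rw [Submodule.map_iSup]
          refine iSup_le fun h => le_iSup_of_le (⟨g, hg⟩ * h) ?_
          rw [← Submodule.map_comp, ← Matrix.toLin'_mul, ← Units.val_mul]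
          rfl
        exact this ⟨w, hw, rfl⟩) with h | h
      · exfalso
        refine hS0 (le_bot_iff.1 (le_trans ?_ h.le))
        refine le_iSup_of_le (1 : H) ?_
        simp [T]
      · exact h
    obtain ⟨g, hg⟩ : ∃ g : H, ¬ T g ≤ W ⊔ U := by
      by_contra hcon
      push Not at hcon
      exact hne (top_le_iff.1 (hall ▸ iSup_le hcon))
    have hTI : NInv (T g) := by
      rintro x hx _ ⟨w, hw, rfl⟩
      refine ⟨((g : GL ι F)⁻¹ * x * g : GL ι F).1 *ᵥ w, hSI _ ?_ w hw, ?_⟩
      · have := hN _ (H.inv_mem g.2) x hx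
        simpa using this
      · simp only [Matrix.toLin'_apply, mulVec_mulVec, ← Units.val_mul]
        congr 2
        group
    have hWUI : NInv (W ⊔ U) := by
      intro x hx w hw
      obtain ⟨a, ha, b, hb, rfl⟩ := Submodule.mem_sup.1 hw
      rw [mulVec_add]
      exact Submodule.mem_sup.2 ⟨_, hW' x hx a ha, _, hUI x hx b hb, rfl⟩
    have hdisj : T g ⊓ (W ⊔ U) = ⊥ := by
      by_contra hne'
      -- pull back to `S`
      let S' := S ⊓ (W ⊔ U).comap (Matrix.toLin' ((g : GL ι F) : Matrix ι ι F))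
      have hS' : S' = S := by
        refine le_antisymm inf_le_left (hSmin ⟨?_, ?_⟩ inf_le_left)
        · obtain ⟨v, hv, hv0⟩ := Submodule.exists_mem_ne_zero_of_ne_bot hne'
          obtain ⟨w, hw, hwv⟩ := hv.1
          intro hb
          have hwm : w ∈ S' := ⟨hw, by show Matrix.toLin' _ w ∈ W ⊔ U; rw [hwv]; exact hv.2⟩
          rw [hb, Submodule.mem_bot] at hwm
          exact hv0 (by rw [← hwv, hwm, map_zero])
        · intro x hx w hw
          refine ⟨hSI x hx w hw.1, ?_⟩
          have := hWUI _ (hN _ g.2 x hx) _ hw.2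
          show Matrix.toLin' _ _ ∈ W ⊔ U
          simp only [Matrix.toLin'_apply, mulVec_mulVec, ← Units.val_mul] at this ⊢
          rwa [inv_mul_cancel_right] at this
      refine hg ?_
      rintro _ ⟨w, hw, rfl⟩
      exact ((hS'.ge hw).2 : _)
    have hnew : NInv (U ⊔ T g) ∧ W ⊓ (U ⊔ T g) = ⊥ := by
      refine ⟨fun x hx w hw => ?_, ?_⟩
      · obtain ⟨a, ha, b, hb, rfl⟩ := Submodule.mem_sup.1 hw
        rw [mulVec_add]
        exact Submodule.mem_sup.2 ⟨_, hUI x hx a ha, _, hTI x hx b hb, rfl⟩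
      · rw [Submodule.eq_bot_iff]
        rintro w ⟨hw, hw'⟩
        obtain ⟨a, ha, b, hb, rfl⟩ := Submodule.mem_sup.1 hw'
        have hb0 : b = 0 := by
          refine (Submodule.eq_bot_iff _).1 hdisj b ⟨hb, ?_⟩
          rw [show b = (a + b) - a by abel]
          exact Submodule.sub_mem _ (Submodule.mem_sup_left hw) (Submodule.mem_sup_right ha)
        subst hb0
        rw [add_zero] at hw ⊢
        exact (Submodule.eq_bot_iff _).1 hWU a ⟨hw, ha⟩
    have hle : U ⊔ T g ≤ U := hUmax hnew le_sup_left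
    exact hg ((le_sup_right.trans hle).trans le_sup_right)
  -- the projection commutes with `N`
  have hc : IsCompl W U := IsCompl.of_eq hWU hsup
  let p : (ι → F) →ₗ[F] (ι → F) := W.subtype.comp (W.projectionOnto U hc)
  obtain ⟨c, hc'⟩ := hsc (LinearMap.toMatrix' p) (fun x hx => by
    apply Matrix.toLin'.injective
    rw [Matrix.toLin'_mul, Matrix.toLin'_mul, Matrix.toLin'_toMatrix']
    apply LinearMap.ext
    intro v
    obtain ⟨a, ha, b, hb, rfl⟩ := Submodule.mem_sup.1 (hsup ▸ Submodule.mem_top : v ∈ W ⊔ U)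
    have hpa : ∀ a ∈ W, p a = a := fun a ha => by
      show ((W.projectionOnto U hc a : W) : ι → F) = a
      rw [Submodule.projectionOnto_apply_of_mem_left hc ha]
    have hpb : ∀ b ∈ U, p b = 0 := fun b hb => by
      show ((W.projectionOnto U hc b : W) : ι → F) = 0
      rw [Submodule.projectionOnto_apply_of_mem_right hc hb]; rfl
    simp only [LinearMap.comp_apply, map_add, Matrix.toLin'_apply, hpa a ha, hpb b hb, hpa _ (hW' x hx a ha),
      hpb _ (hUI x hx b hb), mulVec_zero])
  have hp : ∀ v, p v = c • v := fun v => by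
    rw [← Matrix.toLin'_toMatrix' p, hc']; simp
  obtain ⟨w, hw, hw0⟩ := Submodule.exists_mem_ne_zero_of_ne_bot hbot
  have hc1 : c = 1 := by
    have h1 : p w = w := by
      show ((W.projectionOnto U hc w : W) : ι → F) = w
      rw [Submodule.projectionOnto_apply_of_mem_left hc hw]
    rw [hp] at h1
    by_contra h
    exact hw0 (by
      have : (c - 1) • w = 0 := by rw [sub_smul, h1, one_smul, sub_self]
      exact (smul_eq_zero.1 this).resolve_left (sub_ne_zero.2 h))
  refine htop (top_le_iff.1 fun v _ => ?_)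
  have := hp v
  rw [hc1, one_smul] at this
  rw [← this]
  exact SetLike.coe_mem (W.projectionOnto U hc v)

/-- Clifford: outside the classes, non-scalar normal subgroups are absolutely irreducible. -/
theorem absIrr_of_normal (hn : 3 ≤ n) {H : Subgroup (GL (Fin n) F)} (hH : ¬ InClass n F H)
    {N : Subgroup (GL (Fin n) F)} (hN : NormG H N) (hNs : ¬ N ≤ scalars (Fin n) F) : AbsIrr N := by
  haveI : Nonempty (Fin n) := ⟨⟨0, by omega⟩⟩
  have hI := irred_of_not_inClass hH
  set C := Subalgebra.centralizer F (matrixSet N)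
  have hC : Normalises H C := Normalises.centralizer hN.set
  have hZ : ∀ z ∈ C, (∀ a ∈ C, z * a = a * z) → ∃ c : F, z = c • (1 : Matrix (Fin n) (Fin n) F) := by
    intro z hz hzc
    refine scalar_of_comm (by omega) hH (Z := C ⊓ Subalgebra.centralizer F (C : Set (Matrix (Fin n) (Fin n) F)))
      (fun x hx y hy => ?_) (hC.inf (Normalises.centralizer hC.toSet)) z
      ⟨hz, (Subalgebra.mem_centralizer_iff F).2 fun a ha => (hzc a ha).symm⟩
    exact ((Subalgebra.mem_centralizer_iff F).1 hy.2 x hx.1)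
  obtain ⟨d, u, hd, hu, huC, hspan⟩ := exists_matUnits hI hC hZ
  haveI : Nonempty (Fin d) := ⟨⟨0, hd⟩⟩
  obtain ⟨m, ⟨e⟩, he⟩ := hu.exists_basis
  obtain ⟨P, hP⟩ := he e
  haveI : Nonempty (Fin m) := ⟨(e (Classical.arbitrary _)).2⟩
  rcases Nat.lt_or_ge d 2 with hd2 | hd2
  · -- the centraliser is scalar
    have hscal : ∀ M : Matrix (Fin n) (Fin n) F,
        (∀ x ∈ N, M * (x : Matrix (Fin n) (Fin n) F) = (x : Matrix (Fin n) (Fin n) F) * M) →
        ∃ c : F, M = c • (1 : Matrix (Fin n) (Fin n) F) := by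
      intro M hM
      obtain ⟨X, hX⟩ := hspan M ((Subalgebra.mem_centralizer_iff F).2 (by rintro _ ⟨x, hx, rfl⟩; exact (hM x hx).symm))
      obtain rfl : d = 1 := by omega
      refine ⟨X 0 0, ?_⟩
      rw [hX, Fin.sum_univ_one, Fin.sum_univ_one]
      have := hu.sum_one
      rw [Fin.sum_univ_one] at this
      rw [this]
    exact ⟨irred_of_centralizer hI hN hscal, fun M hM => hscal M fun x hx => hM _ (mem_matrixSet hx)⟩
  rcases Nat.lt_or_ge m 2 with hm2 | hm2
  · -- `N` is scalar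
    exfalso
    obtain rfl : m = 1 := by
      have : 0 < m := Fin.pos_iff_nonempty.2 inferInstance
      omega
    refine hNs fun x hx => ?_
    obtain ⟨B, hB⟩ := right_of_commute hP (X := (x : Matrix (Fin n) (Fin n) F)) (fun a b =>
      ((Subalgebra.mem_centralizer_iff F).1 (huC a b) _ (mem_matrixSet hx)).symm)
    refine mem_scalars_of_eq (c := B 0 0) ?_
    rw [hB]
    have hB1 : B = B 0 0 • (1 : Matrix (Fin 1) (Fin 1) F) := by
      ext i j
      obtain rfl := Fin.fin_one_eq_zero i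
      obtain rfl := Fin.fin_one_eq_zero j
      simp
    rw [hB1, Matrix.kronecker_smul, Matrix.one_kronecker_one, map_smul, map_one, cj_smul, cj_one]
    simp
  · exfalso
    refine hH (InClass.of_leftFactor hd2 hm2 e P fun h hh A => ?_)
    have hexp : ∀ X : Matrix (Fin d) (Fin d) F,
        cj P (rx e (X ⊗ₖ (1 : Matrix (Fin m) (Fin m) F))) = ∑ a, ∑ b, X a b • u a b := by
      intro X
      have : X ⊗ₖ (1 : Matrix (Fin m) (Fin m) F) = ∑ a, ∑ b, X a b • lu m a b := by
        ext ⟨i1, i2⟩ ⟨j1, j2⟩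
        simp only [Matrix.sum_apply, Matrix.smul_apply, lu_apply, Matrix.kronecker_apply, Matrix.one_apply, smul_eq_mul]
        rw [Finset.sum_eq_single i1, Finset.sum_eq_single j1]
        · by_cases h : i2 = j2 <;> simp [h]
        · intro b _ hb; simp [hb]
        · simp
        · intro b _ hb; simp [hb]
        · simp
      rw [this, ← cjAlg_apply]
      simp only [map_sum, map_smul, cjAlg_apply, hP]
    have hmem : cj P (rx e (A ⊗ₖ (1 : Matrix (Fin m) (Fin m) F))) ∈ C := by
      rw [hexp]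
      exact C.sum_mem fun a _ => C.sum_mem fun b _ => C.smul_mem (huC a b) _
    obtain ⟨X, hX⟩ := hspan _ (hC h hh _ hmem)
    exact ⟨X, by rw [hX, hexp]⟩

end CfsgLib.Perm.Asch
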