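import Cfsg.Agent.Lib.Perm.Asch.Basic

/-!
# A commutative subalgebra normalised by an irreducible group

Either it is the algebra of scalars, or it gives a system of imprimitivity, or it contains an
extension field of prime degree normalised by the group.
-/

set_option autoImplicit false
set_option linter.all false

namespace CfsgLib.Perm.Asch

open scoped Classical Matrix
open Matrix

variable {ι : Type} [Fintype ι] [DecidableEq ι] {F : Type*} [Field F] [Fintype F]

theorem exists_idempotent_pow {M : Type*} [Monoid M] [Finite M] (x : M) :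
    ∃ k : ℕ, 0 < k ∧ x ^ k * x ^ k = x ^ k := by
  obtain ⟨a, b, hne, hab⟩ := Finite.exists_ne_map_eq_of_infinite (fun i : ℕ => x ^ i)
  obtain ⟨i, p, hp, hip⟩ : ∃ i p, 0 < p ∧ x ^ (i + p) = x ^ i := by
    rcases lt_or_gt_of_ne hne with h | h
    · exact ⟨a, b - a, by omega, by rw [Nat.add_sub_cancel' h.le]; exact hab.symm⟩
    · exact ⟨b, a - b, by omega, by rw [Nat.add_sub_cancel' h.le]; exact hab⟩
  have hper : ∀ s m, i ≤ m → x ^ (m + s * p) = x ^ m := by
    intro s
    induction s with
    | zero => simp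
    | succ s ih =>
      intro m hm
      rw [show m + (s + 1) * p = (m + p) + s * p by ring, ih (m + p) (by omega),
        show m + p = (m - i) + (i + p) by omega, pow_add, hip, ← pow_add,
        show m - i + i = m by omega]
  refine ⟨(i + 1) * p, by positivity, ?_⟩
  rw [← pow_add, hper (i + 1)]
  calc i ≤ i + 1 := Nat.le_succ i
    _ ≤ (i + 1) * p := Nat.le_mul_of_pos_right _ hp

/-- Commuting nilpotent matrices have a common non-zero kernel vector. -/
theorem killed_ne_bot_of_nilpotent [Nonempty ι] (s : Finset (Matrix ι ι F))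
    (hn : ∀ z ∈ s, IsNilpotent z) (hc : ∀ z ∈ s, ∀ w ∈ s, z * w = w * z) :
    killed (s : Set (Matrix ι ι F)) ≠ ⊥ := by
  induction s using Finset.induction_on with
  | empty =>
    intro h
    have : (fun _ => (1 : F)) ∈ killed ((∅ : Finset (Matrix ι ι F)) : Set (Matrix ι ι F)) :=
      fun t ht => by simp at ht
    rw [h, Submodule.mem_bot] at this
    exact one_ne_zero (congrFun this (Classical.arbitrary ι))
  | insert z s _ ih =>
    have hs := ih (fun w hw => hn w (Finset.mem_insert_of_mem hw))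
      (fun a ha b hb => hc a (Finset.mem_insert_of_mem ha) b (Finset.mem_insert_of_mem hb))
    obtain ⟨v, hv, hv0⟩ := Submodule.exists_mem_ne_zero_of_ne_bot hs
    obtain ⟨k, hk⟩ := hn z (Finset.mem_insert_self _ _)
    have hex : ∃ j, z ^ j *ᵥ v = 0 := ⟨k, by rw [hk, zero_mulVec]⟩
    have hj0 : Nat.find hex ≠ 0 := by
      intro h
      have := Nat.find_spec hex
      rw [h, pow_zero, one_mulVec] at this
      exact hv0 this
    obtain ⟨j, hj⟩ := Nat.exists_eq_succ_of_ne_zero hj0
    have h1 : z ^ j *ᵥ v ≠ 0 := Nat.find_min hex (by omega)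
    intro hbot
    refine h1 ((Submodule.eq_bot_iff _).1 hbot _ fun t ht => ?_)
    rcases Finset.mem_insert.1 ht with rfl | ht
    · rw [mulVec_mulVec, ← pow_succ']
      show t ^ j.succ *ᵥ v = 0
      rw [← hj]; exact Nat.find_spec hex
    · have hcomm : Commute t (z ^ j) :=
        Commute.pow_right (hc t (Finset.mem_insert_of_mem ht) z (Finset.mem_insert_self _ _)) j
      rw [mulVec_mulVec, hcomm.eq, ← mulVec_mulVec, hv t ht, mulVec_zero]

/-- a commutative algebra normalised by an irreducible group is reduced -/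
theorem reduced_of_normalised [Nonempty ι] {H : Subgroup (GL ι F)} (hH : Irred H)
    {Z : Subalgebra F (Matrix ι ι F)} (hc : ∀ x ∈ Z, ∀ y ∈ Z, x * y = y * x) (hn : Normalises H Z) :
    ∀ z ∈ Z, IsNilpotent z → z = 0 := by
  set S : Set (Matrix ι ι F) := {z | z ∈ Z ∧ IsNilpotent z}
  have hS : NormalisesSet H S := fun g hg a ⟨ha, k, hk⟩ =>
    ⟨hn g hg a ha, k, by rw [← cj_pow, hk]; simp [cj]⟩
  have hfin : S.Finite := Set.toFinite _
  have := killed_ne_bot_of_nilpotent hfin.toFinset (fun z hz => (hfin.mem_toFinset.1 hz).2)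
    (fun z hz w hw => hc z (hfin.mem_toFinset.1 hz).1 w (hfin.mem_toFinset.1 hw).1)
  rw [hfin.coe_toFinset] at this
  exact fun z hz hzn => hH.eq_zero_of_killed hS this z ⟨hz, hzn⟩

omit [Fintype F] in
theorem matrix_charP [Nonempty ι] (p : ℕ) [CharP F p] : CharP (Matrix ι ι F) p :=
  charP_of_injective_algebraMap (algebraMap F (Matrix ι ι F)).injective p

/-- In a finite field subalgebra of dimension `d` and for `r ∣ d` the fixed points of `x ↦ x ^ (q ^ r)`
form a field subalgebra of dimension `r`. -/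
theorem exists_subfield_subalgebra [Nonempty ι] {Z : Subalgebra F (Matrix ι ι F)}
    (hc : ∀ x ∈ Z, ∀ y ∈ Z, x * y = y * x) (hinv : ∀ x ∈ Z, x ≠ 0 → ∃ y ∈ Z, x * y = 1)
    {r : ℕ} (hr : 0 < r) (hrd : r ∣ Module.finrank F Z) :
    ∃ K : Subalgebra F (Matrix ι ι F), K ≤ Z ∧ Cfsg.Geo.IsFieldSubalgebra r K ∧
      ∀ x, x ∈ K ↔ x ∈ Z ∧ x ^ (Fintype.card F ^ r) = x := by
  obtain ⟨p, hcharp⟩ := CharP.exists F
  obtain ⟨a, hp, hq⟩ := FiniteField.card F p
  haveI : Fact p.Prime := ⟨hp⟩
  haveI := matrix_charP (ι := ι) (F := F) p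
  set q := Fintype.card F with hqdef
  set Q := q ^ r with hQ
  have hQp : Q = p ^ ((a : ℕ) * r) := by rw [hQ, hq, ← pow_mul]
  have hq1 : 1 < q := Fintype.one_lt_card
  have hQ1 : 1 < Q := Nat.one_lt_pow hr.ne' hq1
  let K : Subalgebra F (Matrix ι ι F) :=
    { carrier := {x | x ∈ Z ∧ x ^ Q = x}
      mul_mem' := fun {x y} hx hy => ⟨Z.mul_mem hx.1 hy.1, by
        rw [Commute.mul_pow (hc x hx.1 y hy.1), hx.2, hy.2]⟩
      one_mem' := ⟨Z.one_mem, one_pow Q⟩
      add_mem' := fun {x y} hx hy => ⟨Z.add_mem hx.1 hy.1, by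
        rw [hQp, add_pow_char_pow_of_commute _ _ (hc x hx.1 y hy.1), ← hQp, hx.2, hy.2]⟩
      zero_mem' := ⟨Z.zero_mem, zero_pow (by omega)⟩
      algebraMap_mem' := fun c => ⟨Z.algebraMap_mem c, by
        rw [← map_pow]; congr 1; exact FiniteField.pow_card_pow r c⟩ }
  refine ⟨K, fun x hx => hx.1, ⟨fun x hx y hy => hc x hx.1 y hy.1, ?_, ?_⟩, fun x => Iff.rfl⟩
  · intro x hx hx0
    obtain ⟨y, hy, hxy⟩ := hinv x hx.1 hx0
    refine ⟨y, ⟨hy, ?_⟩, hxy⟩
    have h1 : x * y ^ Q = 1 := by
      conv_lhs => rw [← hx.2]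
      rw [← Commute.mul_pow (hc x hx.1 y hy), hxy, one_pow]
    calc y ^ Q = (y * x) * y ^ Q := by rw [hc y hy x hx.1, hxy, one_mul]
      _ = y := by rw [mul_assoc, h1, mul_one]
  · -- the count
    letI : CommRing Z := { (inferInstance : Ring Z) with mul_comm := fun x y => Subtype.ext (hc _ x.2 _ y.2) }
    have hne : Nontrivial Z := ⟨⟨0, 1, fun h => zero_ne_one (congrArg Subtype.val h)⟩⟩
    have hZf : IsField Z := ⟨⟨0, 1, fun h => zero_ne_one (congrArg Subtype.val h)⟩, mul_comm,
      fun {x} hx => by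
        obtain ⟨y, hy, hxy⟩ := hinv _ x.2 (fun h => hx (Subtype.ext h))
        exact ⟨⟨y, hy⟩, Subtype.ext hxy⟩⟩
    letI : Field Z := hZf.toField
    haveI : Fintype Z := Fintype.ofFinite _
    set d := Module.finrank F Z
    have hZcard : Nat.card Z = q ^ d := by
      rw [Module.natCard_eq_pow_finrank (K := F), Nat.card_eq_fintype_card]
    have hKcard : Nat.card K = q ^ Module.finrank F K := by
      rw [Module.natCard_eq_pow_finrank (K := F), Nat.card_eq_fintype_card]
    -- at most `Q` elements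
    let S : Finset Z := Finset.univ.filter fun x : Z => x ^ Q = x
    have hS : Nat.card K = S.card := by
      rw [← Nat.card_eq_finsetCard]
      refine Nat.card_congr
        { toFun := fun x => ⟨⟨x.1, x.2.1⟩, Finset.mem_filter.2 ⟨Finset.mem_univ _, Subtype.ext (by simpa using x.2.2)⟩⟩
          invFun := fun x => ⟨x.1.1, x.1.2, by simpa using congrArg Subtype.val (Finset.mem_filter.1 x.2).2⟩
          left_inv := fun x => rfl
          right_inv := fun x => rfl }
    have hle : S.card ≤ Q := by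
      have hp0 : (Polynomial.X ^ Q - Polynomial.X : Polynomial Z) ≠ 0 :=
        FiniteField.X_pow_card_sub_X_ne_zero Z hQ1
      have : S ⊆ (Polynomial.X ^ Q - Polynomial.X : Polynomial Z).roots.toFinset := by
        intro x hx
        rw [Multiset.mem_toFinset, Polynomial.mem_roots hp0, Polynomial.IsRoot]
        simp [(Finset.mem_filter.1 hx).2]
      refine (Finset.card_le_card this).trans ((Multiset.toFinset_card_le _).trans ?_)
      refine (Polynomial.card_roots' _).trans_eq (FiniteField.X_pow_card_sub_X_natDegree_eq Z hQ1)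
    -- at least `Q` elements
    have hge : Q ≤ S.card := by
      obtain ⟨g, hg⟩ := IsCyclic.exists_ofOrder_eq_natCard (α := Zˣ)
      have hu : Nat.card Zˣ = q ^ d - 1 := by rw [Nat.card_units, hZcard]
      have hdvd : Q - 1 ∣ Nat.card Zˣ := by
        rw [hu, hQ]
        obtain ⟨c, hc'⟩ := hrd
        rw [hc', pow_mul]
        exact Nat.sub_one_dvd_pow_sub_one _ _
      obtain ⟨c, hc'⟩ := hdvd
      set u := g ^ c
      have hcpos : 0 < c := by
        rcases Nat.eq_zero_or_pos c with h | h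
        · rw [h, mul_zero] at hc'; exact absurd hc' Nat.card_pos.ne'
        · exact h
      have hu' : orderOf u = Q - 1 := by
        rw [orderOf_pow_of_dvd hcpos.ne' (by rw [hg, hc']; exact dvd_mul_left _ _), hg, hc',
          Nat.mul_div_left _ hcpos]
      let T : Finset Z := insert 0 ((Finset.range (Q - 1)).image fun j => ((u ^ j : Zˣ) : Z))
      have hT : T.card = Q := by
        rw [Finset.card_insert_of_notMem, Finset.card_image_of_injOn, Finset.card_range]
        · omega
        · intro i hi j hj hij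
          simp only [Finset.coe_range, Set.mem_Iio] at hi hj
          exact pow_injOn_Iio_orderOf (by rwa [hu']) (by rwa [hu']) (Units.ext hij)
        · simp only [Finset.mem_image, not_exists, not_and]
          exact fun j _ h => (u ^ j).ne_zero h
      rw [← hT]
      refine Finset.card_le_card fun x hx => Finset.mem_filter.2 ⟨Finset.mem_univ _, ?_⟩
      rcases Finset.mem_insert.1 hx with rfl | hx
      · exact zero_pow (by omega)
      · obtain ⟨j, _, rfl⟩ := Finset.mem_image.1 hx
        rw [← Units.val_pow_eq_pow_val]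
        congr 1
        rw [show Q = (Q - 1) + 1 by omega, pow_succ', ← hu', pow_right_comm u j,
          pow_orderOf_eq_one, one_pow, mul_one]
    have heq : q ^ Module.finrank F K = q ^ r := by rw [← hKcard, hS]; exact le_antisymm hle hge
    exact Nat.pow_right_injective hq1 heq

/-- The trichotomy for a commutative normalised algebra, with the data coming from the algebra. -/
theorem comm_normalised [Nonempty ι] {H : Subgroup (GL ι F)} (hH : Irred H)
    {Z : Subalgebra F (Matrix ι ι F)} (hc : ∀ x ∈ Z, ∀ y ∈ Z, x * y = y * x) (hn : Normalises H Z)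
    (hne : ∃ z ∈ Z, ∀ c : F, z ≠ c • (1 : Matrix ι ι F)) :
    (∃ (t m : ℕ) (e : Fin t → Matrix ι ι F) (D : Fin t → Submodule F (ι → F)),
      (∀ i, e i ∈ Z ∧ e i * e i = e i) ∧ (∀ i j, i ≠ j → e i * e j = 0) ∧ (∑ i, e i = 1) ∧
      (∀ i, D i = LinearMap.range (Matrix.toLin' (e i))) ∧
      Cfsg.Geo.IsMDecomposition m D ∧ H ≤ Cfsg.Geo.decompositionStabilizer D ∧ (∀ i, e i ≠ 0) ∧
      (∀ f ∈ Z, f * f = f → ∀ i, f * e i = 0 ∨ f * e i = e i) ∧ ∀ i j, ∃ g ∈ H, cj g (e i) = e j) ∨
    (∃ (r : ℕ) (K : Subalgebra F (Matrix ι ι F)), r.Prime ∧ Cfsg.Geo.IsFieldSubalgebra r K ∧ K ≤ Z ∧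
      H ≤ Cfsg.Geo.subalgebraNormalizer K ∧ (∀ x, x ∈ K ↔ x ∈ Z ∧ x ^ (Fintype.card F ^ r) = x) ∧
      ∀ x ∈ Z, x ≠ 0 → ∃ y ∈ Z, x * y = 1) := by
  have hred := reduced_of_normalised hH hc hn
  let Idem : Matrix ι ι F → Prop := fun e => e ∈ Z ∧ e * e = e
  by_cases hid : ∀ e, Idem e → e = 0 ∨ e = 1
  · right
    have hinv : ∀ x ∈ Z, x ≠ 0 → ∃ y ∈ Z, x * y = 1 := by
      intro x hx hx0
      obtain ⟨k, hk0, hk⟩ := exists_idempotent_pow x
      rcases hid (x ^ k) ⟨Z.pow_mem hx k, hk⟩ with h | h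
      · exact absurd (hred x hx ⟨k, h⟩) hx0
      · exact ⟨x ^ (k - 1), Z.pow_mem hx _, by rw [← pow_succ', show k - 1 + 1 = k by omega, h]⟩
    have hd : Module.finrank F Z ≠ 1 := by
      intro h1
      obtain ⟨z, hz, hz'⟩ := hne
      have hbot : Z = ⊥ := Subalgebra.eq_bot_of_finrank_one h1
      rw [hbot, mem_bot_iff] at hz
      obtain ⟨c, hc'⟩ := hz
      exact hz' c hc'
    obtain ⟨r, hr, hrd⟩ := Nat.exists_prime_and_dvd hd
    obtain ⟨K, hKZ, hK, hmem⟩ := exists_subfield_subalgebra hc hinv hr.pos hrd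
    refine ⟨r, K, hr, hK, hKZ, Normalises.le_normalizer ?_, hmem, hinv⟩
    intro g hg x hx
    rw [hmem] at hx ⊢
    exact ⟨hn g hg x hx.1, by rw [← cj_pow, hx.2]⟩
  · left
    -- atoms
    let Atom : Matrix ι ι F → Prop := fun e =>
      Idem e ∧ e ≠ 0 ∧ ∀ f, Idem f → f * e = 0 ∨ f * e = e
    have hcomm : ∀ e f, Idem e → Idem f → Idem (e * f) := fun e f he hf =>
      ⟨Z.mul_mem he.1 hf.1, by
        calc e * f * (e * f) = e * (f * e) * f := by simp [mul_assoc]
          _ = e * (e * f) * f := by rw [hc f hf.1 e he.1]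
          _ = (e * e) * (f * f) := by simp [mul_assoc]
          _ = e * f := by rw [he.2, hf.2]⟩
    have hbelow : ∀ k, ∀ e, Idem e → e ≠ 0 → e.rank = k → ∃ a, Atom a ∧ a * e = a := by
      intro k
      induction k using Nat.strong_induction_on with
      | _ k ih => ?_
      intro e he he0 hk
      by_cases ha : ∀ f, Idem f → f * e = 0 ∨ f * e = e
      · exact ⟨e, ⟨he, he0, ha⟩, he.2⟩
      push Not at ha
      obtain ⟨f, hf, hfe0, hfe⟩ := ha
      have hlt : (f * e).rank < e.rank := by
        have hsub : LinearMap.range (f * e).mulVecLin ≤ LinearMap.range e.mulVecLin := by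
          rw [hc f hf.1 e he.1, Matrix.mulVecLin_mul]
          exact LinearMap.range_comp_le_range _ _
        refine Submodule.finrank_lt_finrank_of_lt (lt_of_le_of_ne hsub fun heq => hfe ?_)
        apply Matrix.toLin'.injective
        apply LinearMap.ext
        intro v
        have hv : e *ᵥ v ∈ LinearMap.range (f * e).mulVecLin := heq ▸ ⟨v, rfl⟩
        obtain ⟨w, hw⟩ := hv
        simp only [Matrix.mulVecLin_apply] at hw
        show (f * e) *ᵥ v = e *ᵥ v
        calc (f * e) *ᵥ v = f *ᵥ (e *ᵥ v) := (mulVec_mulVec _ _ _).symm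
          _ = f *ᵥ ((f * e) *ᵥ w) := by rw [hw]
          _ = (f * e) *ᵥ w := by rw [mulVec_mulVec, ← mul_assoc, hf.2]
          _ = e *ᵥ v := hw
      obtain ⟨a, ha, hae⟩ := ih _ (hk ▸ hlt) (f * e) (hcomm f e hf he) hfe0 rfl
      refine ⟨a, ha, ?_⟩
      calc a * e = a * (f * e) * e := by rw [hae]
        _ = a * (f * (e * e)) := by simp [mul_assoc]
        _ = a := by rw [he.2, hae]
    have horth : ∀ a b, Atom a → Atom b → a ≠ b → a * b = 0 := by
      intro a b ha hb hab
      rcases hb.2.2 a ha.1 with h | h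
      · exact h
      · rcases ha.2.2 b hb.1 with h' | h'
        · rw [hc a ha.1.1 b hb.1.1]; exact h'
        · exact absurd (h'.symm.trans ((hc b hb.1.1 a ha.1.1).trans h)) hab
    let A : Finset (Matrix ι ι F) := Finset.univ.filter Atom
    have hA : ∀ a, a ∈ A ↔ Atom a := fun a => by simp [A]
    have hmulsum : ∀ a ∈ A, a * ∑ b ∈ A, b = a := by
      intro a ha
      rw [Finset.mul_sum, Finset.sum_eq_single a (fun b hb hba => horth a b ((hA a).1 ha) ((hA b).1 hb) (Ne.symm hba))
        (fun h => absurd ha h), ((hA a).1 ha).1.2]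
    have hsum : ∑ a ∈ A, a = 1 := by
      by_contra hne1
      set s := ∑ a ∈ A, a
      have hs : Idem s := ⟨Z.sum_mem fun a ha => ((hA a).1 ha).1.1, by
        rw [Finset.sum_mul]; exact Finset.sum_congr rfl fun a ha => hmulsum a ha⟩
      have h1s : Idem (1 - s) := ⟨Z.sub_mem Z.one_mem hs.1, by
        rw [mul_sub, sub_mul, sub_mul, hs.2]; simp⟩
      obtain ⟨a, ha, hae⟩ := hbelow _ _ h1s (sub_ne_zero.2 (Ne.symm hne1)) rfl
      rw [mul_sub, mul_one, hmulsum a ((hA a).2 ha), sub_self] at hae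
      exact ha.2.1 hae.symm
    let t := A.card
    let e : Fin t → Matrix ι ι F := fun i => (A.equivFin.symm i : Matrix ι ι F)
    have heA : ∀ i, Atom (e i) := fun i => (hA _).1 (A.equivFin.symm i).2
    have hesur : ∀ a, Atom a → ∃ i, e i = a := fun a ha => ⟨A.equivFin ⟨a, (hA a).2 ha⟩, by simp [e]⟩
    have heinj : Function.Injective e := fun i j h => A.equivFin.symm.injective (Subtype.ext h)
    have hsum' : ∑ i, e i = 1 := by
      rw [← hsum, ← Finset.sum_coe_sort A]
      exact Equiv.sum_comp A.equivFin.symm (fun a : A => (a : Matrix ι ι F))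
    let D : Fin t → Submodule F (ι → F) := fun i => LinearMap.range (Matrix.toLin' (e i))
    have hDmem : ∀ i v, v ∈ D i → e i *ᵥ v = v := by
      rintro i v ⟨w, rfl⟩
      simp [(heA i).1.2]
    have hDne : ∀ i, D i ≠ ⊥ := fun i h => (heA i).2.1 (Matrix.toLin'.injective (by
      rw [map_zero]; exact LinearMap.range_eq_bot.1 h))
    -- the action of `H`
    have hatom : ∀ g ∈ H, ∀ a, Atom a → Atom (cj g a) := by
      intro g hg a ha
      refine ⟨⟨hn g hg a ha.1.1, by rw [← cj_mul, ha.1.2]⟩, fun h => ha.2.1 ?_, fun f hf => ?_⟩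
      · rw [← cj_inv_cj g a, h]; simp [cj]
      · rcases ha.2.2 (cj g⁻¹ f) ⟨hn _ (H.inv_mem hg) f hf.1, by rw [← cj_mul, hf.2]⟩ with h | h
        · left; rw [← cj_cj_inv g f, ← cj_mul, h]; simp [cj]
        · right; rw [← cj_cj_inv g f, ← cj_mul, h]
    have hmapD : ∀ g : GL ι F, ∀ i j, cj g (e i) = e j →
        (D i).map (Matrix.toLin' (g : Matrix ι ι F)) = D j := by
      intro g i j hij
      show (LinearMap.range _).map _ = LinearMap.range _
      rw [← LinearMap.range_comp, ← Matrix.toLin'_mul, ← hij]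
      have : cj g (e i) = ((g : Matrix ι ι F) * e i) * ((g⁻¹ : GL ι F) : Matrix ι ι F) := rfl
      rw [this, Matrix.toLin'_mul ((g : Matrix ι ι F) * e i), LinearMap.range_comp_of_range_eq_top]
      rw [LinearMap.range_eq_top]
      intro v
      exact ⟨(g : Matrix ι ι F) *ᵥ v, by simp [gl_inv_mul]⟩
    have hperm : ∀ g ∈ H, ∃ σ : Equiv.Perm (Fin t), ∀ i, cj g (e i) = e (σ i) := by
      intro g hg
      have h : ∀ i, ∃ j, e j = cj g (e i) := fun i => hesur _ (hatom g hg _ (heA i))
      choose σ hσ using h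
      have hσi : Function.Injective σ := fun i j h => heinj (cj_injective g (by rw [← hσ, ← hσ, h]))
      exact ⟨Equiv.ofBijective σ ⟨hσi, Finite.surjective_of_injective hσi⟩, fun i => (hσ i).symm⟩
    -- transitivity on the atoms
    have htrans : ∀ i j, ∃ g ∈ H, cj g (e i) = e j := by
      intro i j
      by_contra hno
      push Not at hno
      let W : Submodule F (ι → F) := ⨆ k ∈ {k | ∃ g ∈ H, cj g (e i) = e k}, D k
      have hW : ∀ g ∈ H, W.map (Matrix.toLin' (g : Matrix ι ι F)) ≤ W := by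
        intro g hg
        simp only [W, Submodule.map_iSup]
        refine iSup₂_le fun k hk => ?_
        obtain ⟨g', hg', hk'⟩ := hk
        obtain ⟨σ, hσ⟩ := hperm g hg
        rw [hmapD g k (σ k) (hσ k)]
        exact le_iSup₂ (f := fun k _ => D k) (σ k) ⟨g * g', H.mul_mem hg hg', by rw [← cj_cj, hk', hσ k]⟩
      rcases hH.eq_bot_or_top W (fun g hg w hw => hW g hg ⟨w, hw, rfl⟩) with h | h
      · exact hDne i (le_bot_iff.1 (h ▸ le_iSup₂ (f := fun k _ => D k) i ⟨1, H.one_mem, cj_one_left _⟩))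
      · apply (heA j).2.1
        apply Matrix.toLin'.injective
        rw [map_zero]
        apply LinearMap.ext
        intro v
        have hle : W ≤ LinearMap.ker (Matrix.toLin' (e j)) := by
          refine iSup₂_le fun k hk w hw => ?_
          obtain ⟨g', hg', hk'⟩ := hk
          show Matrix.toLin' (e j) w = 0
          rw [Matrix.toLin'_apply, ← hDmem k w hw, mulVec_mulVec,
            horth _ _ (heA j) (heA k) (fun hjk => hno g' hg' (hk'.trans hjk.symm)), zero_mulVec]
        exact hle (h ▸ Submodule.mem_top : v ∈ W)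
    have ht2 : 2 ≤ t := by
      push Not at hid
      obtain ⟨f, hf, hf0, hf1⟩ := hid
      by_contra ht
      obtain ⟨a, ha, -⟩ := hbelow _ f hf hf0 rfl
      obtain ⟨i, hi⟩ := hesur a ha
      have huni : (Finset.univ : Finset (Fin t)) = {i} := by
        ext k; simp only [Finset.mem_univ, Finset.mem_singleton, true_iff]
        exact Fin.ext (by omega)
      rw [huni, Finset.sum_singleton] at hsum'
      rcases (heA i).2.2 f hf with h | h <;> rw [hsum', mul_one] at h
      · exact hf0 h
      · exact hf1 h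
    haveI : Nonempty (Fin t) := ⟨⟨0, by omega⟩⟩
    let i0 : Fin t := Classical.arbitrary _
    refine ⟨t, Module.finrank F (D i0), e, D, fun i => (heA i).1,
      fun i j hij => horth _ _ (heA i) (heA j) (fun h => hij (heinj h)), hsum', fun i => rfl,
      ⟨ht2, ?_, ?_, ?_, ?_⟩, ?_, fun i => (heA i).2.1, fun f hf hff i => (heA i).2.2 f ⟨hf, hff⟩, htrans⟩
    · exact Submodule.one_le_finrank_iff.2 (hDne i0)
    · intro i
      obtain ⟨g, hg, hgi⟩ := htrans i0 i
      rw [← hmapD g i0 i hgi]
      exact LinearEquiv.finrank_map_eq (Matrix.GeneralLinearGroup.toLin g).toLinearEquiv (D i0)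
    · rw [iSupIndep_def]
      intro i
      rw [disjoint_iff_inf_le]
      rintro v ⟨hv, hv'⟩
      have hle : (⨆ (j) (_ : j ≠ i), D j) ≤ LinearMap.ker (Matrix.toLin' (e i)) := by
        refine iSup₂_le fun j hj w hw => ?_
        show Matrix.toLin' (e i) w = 0
        rw [Matrix.toLin'_apply, ← hDmem j w hw, mulVec_mulVec,
          horth _ _ (heA i) (heA j) (fun h => hj (heinj h).symm), zero_mulVec]
      have := hle hv'
      rw [LinearMap.mem_ker, Matrix.toLin'_apply, hDmem i v hv] at this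
      simp [this]
    · rw [eq_top_iff]
      intro v _
      have : v = ∑ i, e i *ᵥ v := by
        rw [← Matrix.sum_mulVec, hsum', one_mulVec]
      rw [this]
      exact Submodule.sum_mem _ fun i _ => le_iSup D i ⟨v, rfl⟩
    · intro g hg
      obtain ⟨σ, hσ⟩ := hperm g hg
      exact ⟨σ, fun i => hmapD g i (σ i) (hσ i)⟩

end CfsgLib.Perm.Asch
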