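import Cfsg.Agent.Lib.Perm.Asch.Commutative

/-!
# Fixed point spaces in primitive soluble linear groups
-/

set_option autoImplicit false
set_option linter.all false

namespace CfsgLib.Perm.Asch

open scoped Classical Matrix commutatorElement
open Matrix Cfsg.Geo

/-- a finite soluble group has a normal subgroup of class at most two containing its centraliser -/
theorem exists_classTwo_selfCentralizing {G : Type*} [Group G] [Finite G] (hs : IsSolvable G) :
    ∃ D : Subgroup G, D.Normal ∧ ⁅D, D⁆ ≤ Subgroup.centralizer (D : Set G) ∧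
      Subgroup.centralizer (D : Set G) ≤ D := by
  let P : Subgroup G → Prop := fun D => D.Normal ∧ ⁅D, D⁆ ≤ Subgroup.centralizer (D : Set G)
  obtain ⟨D, hD⟩ := (Set.toFinite {D : Subgroup G | P D}).exists_maximal
    ⟨⊥, ⟨inferInstance, by simp⟩⟩
  obtain ⟨hN, h2⟩ := hD.prop
  refine ⟨D, hN, h2, ?_⟩
  by_contra hC
  haveI := hN
  let E : ℕ → Subgroup G := fun k =>
    Nat.rec (Subgroup.centralizer (D : Set G)) (fun _ K => ⁅K, K⁆) k
  have hEn : ∀ k, (E k).Normal := by
    intro k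
    induction k with
    | zero => exact Subgroup.normal_centralizer
    | succ k ih => exact @Subgroup.commutator_normal _ _ _ _ ih ih
  have hEd : ∀ k, E k ≤ derivedSeries G k := by
    intro k
    induction k with
    | zero => simp [derivedSeries]
    | succ k ih => exact Subgroup.commutator_mono ih ih
  have hEC : ∀ k, E k ≤ Subgroup.centralizer (D : Set G) := by
    intro k
    induction k with
    | zero => exact le_refl _
    | succ k ih => exact le_trans (Subgroup.commutator_le_self (E k)) ih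
  obtain ⟨N, hN0⟩ := hs
  have hex : ∃ k, E k ≤ D := ⟨N, le_trans (hEd N) (hN0.le.trans bot_le)⟩
  have hk0 : Nat.find hex ≠ 0 := fun h => hC (by have := Nat.find_spec hex; rwa [h] at this)
  obtain ⟨k, hk⟩ := Nat.exists_eq_succ_of_ne_zero hk0
  have hkD : ⁅E k, E k⁆ ≤ D := by have := Nat.find_spec hex; rwa [hk] at this
  have hknot : ¬ E k ≤ D := Nat.find_min hex (by omega)
  haveI := hEn k
  have hcomm : ∀ d ∈ D, ∀ e ∈ E k, Commute d e := fun d hd e he =>
    Subgroup.mem_centralizer_iff.1 (hEC k he) d hd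
  have hP : P (D ⊔ E k) := by
    refine ⟨@Subgroup.sup_normal _ _ D (E k) hN (hEn k), Subgroup.commutator_le.2 fun a ha b hb => ?_⟩
    obtain ⟨d, hd, e, he, rfl⟩ := (Subgroup.mem_sup_of_normal_right (ht := hEn k)).1 ha
    obtain ⟨d', hd', e', he', rfl⟩ := (Subgroup.mem_sup_of_normal_right (ht := hEn k)).1 hb
    have h1 : ⁅d * e, d' * e'⁆ = ⁅d, d'⁆ * ⁅e, e'⁆ := by
      have c1 := (hcomm d' hd' e he).eq
      have c2 : e * d⁻¹ = d⁻¹ * e := ((hcomm d hd e he).inv_left).eq.symm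
      have c3 : e' * d⁻¹ = d⁻¹ * e' := ((hcomm d hd e' he').inv_left).eq.symm
      have c4 : e⁻¹ * d'⁻¹ = d'⁻¹ * e⁻¹ := ((hcomm d' hd' e he).inv_left.inv_right).eq.symm
      have c6 : e * e' * e⁻¹ * d⁻¹ = d⁻¹ * (e * e' * e⁻¹) := by
        have : Commute d⁻¹ (e * e' * e⁻¹) :=
          (hcomm d hd _ ((E k).mul_mem ((E k).mul_mem he he') ((E k).inv_mem he))).inv_left
        exact this.eq.symm
      have c7 : e * e' * e⁻¹ * e'⁻¹ * d'⁻¹ = d'⁻¹ * (e * e' * e⁻¹ * e'⁻¹) := by
        have : Commute d'⁻¹ (e * e' * e⁻¹ * e'⁻¹) :=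
          (hcomm d' hd' _ ((E k).mul_mem ((E k).mul_mem ((E k).mul_mem he he') ((E k).inv_mem he))
            ((E k).inv_mem he'))).inv_left
        exact this.eq.symm
      simp only [commutatorElement_def]
      calc d * e * (d' * e') * (d * e)⁻¹ * (d' * e')⁻¹
          = d * (e * d') * e' * e⁻¹ * d⁻¹ * e'⁻¹ * d'⁻¹ := by group
        _ = d * d' * (e * e' * e⁻¹ * d⁻¹) * e'⁻¹ * d'⁻¹ := by rw [← c1]; group
        _ = d * d' * d⁻¹ * (e * e' * e⁻¹ * e'⁻¹ * d'⁻¹) := by rw [c6]; group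
        _ = d * d' * d⁻¹ * d'⁻¹ * (e * e' * e⁻¹ * e'⁻¹) := by rw [c7]; group
    rw [h1]
    have hz : ∀ z, z ∈ D → z ∈ Subgroup.centralizer (D : Set G) →
        z ∈ Subgroup.centralizer ((D ⊔ E k : Subgroup G) : Set G) := by
      intro z hzD hzC
      rw [Subgroup.mem_centralizer_iff]
      intro x hx
      obtain ⟨u, hu, w, hw, rfl⟩ := (Subgroup.mem_sup_of_normal_right (ht := hEn k)).1 hx
      exact (((Commute.symm (Subgroup.mem_centralizer_iff.1 hzC u hu)).mul_right
        (hcomm z hzD w hw)).eq).symm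
    refine Subgroup.mul_mem _ (hz _ ?_ ?_) (hz _ ?_ ?_)
    · exact Subgroup.commutator_le_self D (Subgroup.commutator_mem_commutator hd hd')
    · exact h2 (Subgroup.commutator_mem_commutator hd hd')
    · exact hkD (Subgroup.commutator_mem_commutator he he')
    · exact hEC k (Subgroup.commutator_le_self (E k) (Subgroup.commutator_mem_commutator he he'))
  exact hknot (le_trans le_sup_right (hD.le_of_ge hP le_sup_left))

variable {F : Type*} [Field F] [Fintype F] {n : ℕ}

/-- the fixed space of an element -/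
noncomputable def fixSp (g : GL (Fin n) F) : Submodule F (Fin n → F) :=
  Module.End.eigenspace (Matrix.toLin' (g : Matrix (Fin n) (Fin n) F)) 1

theorem mem_fixSp {g : GL (Fin n) F} {v : Fin n → F} :
    v ∈ fixSp g ↔ (g : Matrix (Fin n) (Fin n) F) *ᵥ v = v := by
  rw [fixSp, Module.End.mem_eigenspace_iff, Matrix.toLin'_apply, one_smul]

theorem fixSp_commutator_le (g x : GL (Fin n) F) :
    2 * Module.finrank F (fixSp g) ≤ Module.finrank F (fixSp (g * x * g⁻¹ * x⁻¹)) + n := by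
  let W := (fixSp g).map (Matrix.toLin' (x : Matrix (Fin n) (Fin n) F))
  have hW : Module.finrank F W = Module.finrank F (fixSp g) := by
    refine (Submodule.equivMapOfInjective _ (fun a b h => ?_) _).finrank_eq.symm
    simp only [Matrix.toLin'_apply] at h
    have := congrArg (fun v => ((x⁻¹ : GL (Fin n) F) : Matrix (Fin n) (Fin n) F) *ᵥ v) h
    simpa [Matrix.mulVec_mulVec, gl_inv_mul] using this
  have hle : fixSp g ⊓ W ≤ fixSp (g * x * g⁻¹ * x⁻¹) := by
    rintro v ⟨hv, u, hu, rfl⟩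
    rw [SetLike.mem_coe, mem_fixSp] at hv hu
    rw [mem_fixSp]
    simp only [Matrix.toLin'_apply] at hv ⊢
    have hgi : ((g⁻¹ : GL (Fin n) F) : Matrix (Fin n) (Fin n) F) *ᵥ u = u := by
      conv_lhs => rw [← hu]
      rw [Matrix.mulVec_mulVec, gl_inv_mul, Matrix.one_mulVec]
    have hxx : ((x⁻¹ : GL (Fin n) F) : Matrix (Fin n) (Fin n) F) *ᵥ
        ((x : Matrix (Fin n) (Fin n) F) *ᵥ u) = u := by
      rw [Matrix.mulVec_mulVec, gl_inv_mul, Matrix.one_mulVec]
    simp only [Units.val_mul, ← Matrix.mulVec_mulVec]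
    rw [hxx, hgi, hv]
  have h1 := Submodule.finrank_sup_add_finrank_inf_eq (fixSp g) W
  have h2 : Module.finrank F ↥(fixSp g ⊔ W) ≤ n := by
    have := Submodule.finrank_le (fixSp g ⊔ W)
    rwa [Module.finrank_fin_fun] at this
  have h3 := Submodule.finrank_mono hle
  omega

/-- non-trivial elements of abelian normal subgroups of primitive groups have no fixed points -/
theorem fixSp_eq_bot_of_abelian_normal [Nonempty (Fin n)] {G : Subgroup (GL (Fin n) F)} (hirr : Irred G)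
    (hprim : ∀ (m t : ℕ) (D : Fin t → Submodule F (Fin n → F)), 2 ≤ t → IsMDecomposition m D →
      ¬ G ≤ decompositionStabilizer D)
    {A : Subgroup G} (hA : A.Normal) (hab : ∀ x ∈ A, ∀ y ∈ A, x * y = y * x) {a : G} (ha : a ∈ A)
    (ha1 : a ≠ 1) : fixSp (a : GL (Fin n) F) = ⊥ := by
  let S : Set (Matrix (Fin n) (Fin n) F) :=
    (fun x : G => ((x : GL (Fin n) F) : Matrix (Fin n) (Fin n) F)) '' (A : Set G)
  let Z := Algebra.adjoin F S
  have hcomm : ∀ x ∈ Z, ∀ y ∈ Z, x * y = y * x := by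
    have hS : ∀ x ∈ S, ∀ y ∈ S, x * y = y * x := by
      rintro _ ⟨x, hx, rfl⟩ _ ⟨y, hy, rfl⟩
      have := congrArg (fun z : G => ((z : GL (Fin n) F) : Matrix (Fin n) (Fin n) F)) (hab x hx y hy)
      simpa using this
    intro x hx y hy
    letI := Algebra.adjoinCommRingOfComm F hS
    exact congrArg Subtype.val (mul_comm (⟨x, hx⟩ : Z) ⟨y, hy⟩)
  have hn : Normalises G Z := by
    intro g hg x hx
    have : Z.map (cjAlg g).toAlgHom ≤ Z := by
      rw [AlgHom.map_adjoin]
      refine Algebra.adjoin_le ?_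
      rintro _ ⟨_, ⟨y, hy, rfl⟩, rfl⟩
      refine Algebra.subset_adjoin ⟨⟨g, hg⟩ * y * ⟨g, hg⟩⁻¹, hA.conj_mem y hy _, ?_⟩
      simp [cjAlg, cj]
    exact this ⟨x, hx, rfl⟩
  set M := ((a : GL (Fin n) F) : Matrix (Fin n) (Fin n) F) with hM
  have hMZ : M - 1 ∈ Z := Z.sub_mem (Algebra.subset_adjoin ⟨a, ha, rfl⟩) Z.one_mem
  have hne0 : M - 1 ≠ 0 := fun h => ha1 (Subtype.ext (Units.ext (by simpa [hM] using sub_eq_zero.1 h)))
  have hinv : ∃ y : Matrix (Fin n) (Fin n) F, y * (M - 1) = 1 := by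
    by_cases hne : ∃ z ∈ Z, ∀ c : F, z ≠ c • (1 : Matrix (Fin n) (Fin n) F)
    · rcases comm_normalised hirr hcomm hn hne with
        ⟨t, m, e, D, -, -, -, -, hD, hle, -⟩ | ⟨r, K, -, -, -, -, -, hinv⟩
      · exact absurd hle (hprim m t D hD.two_le hD)
      · obtain ⟨y, hy, hxy⟩ := hinv _ hMZ hne0
        exact ⟨y, by rw [hcomm y hy _ hMZ, hxy]⟩
    · push Not at hne
      obtain ⟨c, hc⟩ := hne _ hMZ
      have hc0 : c ≠ 0 := fun h => hne0 (by rw [hc, h, zero_smul])
      exact ⟨c⁻¹ • 1, by rw [hc, smul_mul_smul_comm, one_mul, inv_mul_cancel₀ hc0, one_smul]⟩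
  obtain ⟨y, hy⟩ := hinv
  rw [Submodule.eq_bot_iff]
  intro v hv
  rw [mem_fixSp] at hv
  have h0 : (M - 1) *ᵥ v = 0 := by rw [Matrix.sub_mulVec, Matrix.one_mulVec, hM, hv, sub_self]
  have := congrArg (fun w => y *ᵥ w) h0
  simpa [Matrix.mulVec_mulVec, hy] using this

/-- fixed spaces in primitive soluble groups -/
theorem fixed_space_bound [Nonempty (Fin n)] {G : Subgroup (GL (Fin n) F)} (hsol : IsSolvable G) (hirr : Irred G)
    (hprim : ∀ (m t : ℕ) (D : Fin t → Submodule F (Fin n → F)), 2 ≤ t → IsMDecomposition m D →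
      ¬ G ≤ decompositionStabilizer D)
    {g : G} (hg : g ≠ 1) : 4 * Module.finrank F (fixSp (g : GL (Fin n) F)) ≤ 3 * n := by
  haveI : Finite (GL (Fin n) F) := inferInstance
  obtain ⟨D, hN, h2, hC⟩ := exists_classTwo_selfCentralizing hsol
  haveI := hN
  let A : Subgroup G := D ⊓ Subgroup.centralizer (D : Set G)
  have hA : ∀ a ∈ A, a ≠ 1 → Module.finrank F (fixSp (a : GL (Fin n) F)) = 0 := fun a ha ha1 => by
    rw [fixSp_eq_bot_of_abelian_normal hirr hprim (A := A) inferInstance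
      (fun x hx y hy => Subgroup.mem_centralizer_iff.1 hy.2 x hx.1) ha ha1, finrank_bot]
  have step : ∀ u x : G, 2 * Module.finrank F (fixSp (u : GL (Fin n) F)) ≤
      Module.finrank F (fixSp ((⁅u, x⁆ : G) : GL (Fin n) F)) + n := fun u x => by
    simpa [commutatorElement_def] using fixSp_commutator_le (u : GL (Fin n) F) x
  by_cases hgC : g ∈ Subgroup.centralizer (D : Set G)
  · rw [hA g ⟨hC hgC, hgC⟩ hg]; omega
  · rw [Subgroup.mem_centralizer_iff] at hgC
    push Not at hgC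
    obtain ⟨x, hx, hgx⟩ := hgC
    have hc1 : ⁅g, x⁆ ≠ 1 := fun h => hgx (commutatorElement_eq_one_iff_mul_comm.1 h).symm
    have hcD : ⁅g, x⁆ ∈ D := by
      rw [commutatorElement_def]
      exact D.mul_mem (hN.conj_mem x hx g) (D.inv_mem hx)
    have h1 := step g x
    by_cases hcC : ⁅g, x⁆ ∈ Subgroup.centralizer (D : Set G)
    · rw [hA _ ⟨hcD, hcC⟩ hc1] at h1; omega
    · rw [Subgroup.mem_centralizer_iff] at hcC
      push Not at hcC
      obtain ⟨y, hy, hcy⟩ := hcC
      have hd1 : ⁅⁅g, x⁆, y⁆ ≠ 1 := fun h => hcy (commutatorElement_eq_one_iff_mul_comm.1 h).symm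
      have hd : ⁅⁅g, x⁆, y⁆ ∈ ⁅D, D⁆ := Subgroup.commutator_mem_commutator hcD hy
      have h2' := step ⁅g, x⁆ y
      rw [hA _ ⟨Subgroup.commutator_le_self D hd, h2 hd⟩ hd1] at h2'
      omega

end CfsgLib.Perm.Asch
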