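import Cfsg.Agent.Lib.Perm.Asch.SymType

/-!
# A perfect minimal normal subgroup
-/

set_option autoImplicit false
set_option linter.all false

namespace CfsgLib.Perm.Asch

open scoped Classical Matrix commutatorElement
open Matrix Cfsg.Geo

variable {ι : Type} [Fintype ι] [DecidableEq ι] {F : Type*} [Field F]

theorem NormG.map_le {H N : Subgroup (GL ι F)} (hN : NormG H N) {h : GL ι F} (hh : h ∈ H) :
    N.map (MulAut.conj h).toMonoidHom ≤ N := by
  rintro _ ⟨x, hx, rfl⟩
  exact hN h hh x hx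

theorem NormG.commutator {H N : Subgroup (GL ι F)} (hN : NormG H N) : NormG H ⁅N, N⁆ := by
  intro h hh x hx
  have h1 : (⁅N, N⁆).map (MulAut.conj h).toMonoidHom ≤ ⁅N, N⁆ := by
    rw [Subgroup.map_commutator]
    exact Subgroup.commutator_mono (hN.map_le hh) (hN.map_le hh)
  exact h1 ⟨x, hx, rfl⟩

/-- what centralises a perfect group modulo scalars centralises it -/
theorem commute_of_perfect {V : Subgroup (GL ι F)} (hV : ⁅V, V⁆ = V) {g : GL ι F}
    (h : ∀ v ∈ V, g * v * g⁻¹ * v⁻¹ ∈ scalars ι F) : ∀ v ∈ V, g * v = v * g := by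
  have hle : ⁅V, V⁆ ≤ Subgroup.centralizer {g} := by
    rw [Subgroup.commutator_le]
    intro a ha b hb
    rw [Subgroup.mem_centralizer_singleton_iff]
    have ea : MulAut.conj g a = (g * a * g⁻¹ * a⁻¹) * a := by simp [mul_assoc]
    have eb : MulAut.conj g b = (g * b * g⁻¹ * b⁻¹) * b := by simp [mul_assoc]
    set c := g * a * g⁻¹ * a⁻¹ with hc
    set d := g * b * g⁻¹ * b⁻¹ with hd
    have hcc : ∀ y, c * y = y * c := scalar_central (h a ha)
    have hdc : ∀ y, d * y = y * d := scalar_central (h b hb)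
    have hconj : MulAut.conj g ⁅a, b⁆ = ⁅a, b⁆ := by
      rw [map_commutatorElement, ea, eb, commutatorElement_def, commutatorElement_def]
      calc c * a * (d * b) * (c * a)⁻¹ * (d * b)⁻¹ = c * (a * d) * b * a⁻¹ * c⁻¹ * b⁻¹ * d⁻¹ := by group
        _ = c * (d * a) * b * a⁻¹ * c⁻¹ * b⁻¹ * d⁻¹ := by rw [hdc a]
        _ = c * (d * (a * b * a⁻¹ * c⁻¹ * b⁻¹)) * d⁻¹ := by group
        _ = c * ((a * b * a⁻¹ * c⁻¹ * b⁻¹) * d) * d⁻¹ := by rw [hdc (a * b * a⁻¹ * c⁻¹ * b⁻¹)]
        _ = (c * (a * b * a⁻¹)) * c⁻¹ * b⁻¹ := by group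
        _ = ((a * b * a⁻¹) * c) * c⁻¹ * b⁻¹ := by rw [hcc (a * b * a⁻¹)]
        _ = _ := by group
    rw [MulAut.conj_apply, mul_inv_eq_iff_eq_mul] at hconj
    exact hconj.symm
  intro v hv
  exact (Subgroup.mem_centralizer_singleton_iff.1 (hle (hV.symm ▸ hv))).symm

theorem FixesQuadForm.polar {S : Set (Matrix ι ι F)} {Q : (ι → F) → F} (h : FixesQuadForm S Q) :
    FixesForm S (QuadraticMap.polar Q) := by
  intro s hs u v
  simp only [QuadraticMap.polar, ← Matrix.mulVec_add, h s hs]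

variable [Fintype F] {n : ℕ}

theorem Normalises.adjoin {H : Subgroup (GL ι F)} {S : Set (Matrix ι ι F)} (h : NormalisesSet H S) :
    Normalises H (Algebra.adjoin F S) := by
  intro g hg a ha
  have h1 : (Algebra.adjoin F S).map (cjAlg g).toAlgHom ≤ Algebra.adjoin F S := by
    rw [AlgHom.map_adjoin]
    exact Algebra.adjoin_mono (by rintro _ ⟨s, hs, rfl⟩; exact h g hg s hs)
  exact h1 ⟨a, ha, rfl⟩

theorem ne_zero_of_nondegenerate [Nonempty ι] {σ : F →+* F} {G : Matrix ι ι F}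
    (h : IsNondegenerateForm (gform σ G)) : G ≠ 0 := by
  rintro rfl
  obtain ⟨⟨x, hx⟩, -⟩ := h (fun _ => 1) (fun h' => one_ne_zero (congrFun h' (Classical.arbitrary ι)))
  exact hx (by simp [gform])

/-- a quasisimple absolutely irreducible normal subgroup not realised over a subfield is a residual core -/
theorem residualCore_of_simple [Nonempty ι] {H M : Subgroup (GL ι F)} (hMA : AbsIrr M)
    (hMH : M ≤ H) (hM : NormG H M) (hMs : ¬ M ≤ scalars ι F) (hperf : ⁅M, M⁆ = M)
    (hsimple : ∀ U ≤ M, NormG M U → ¬ U ≤ scalars ι F → U = M)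
    (hsub : ∀ F₀ : Subfield F, F₀ ≠ ⊤ → ¬ RealisableOver F₀ (matrixSet M)) : IsResidualCore H M := by
  set Z := scalars ι F
  refine ⟨hMH, hM, hperf, ?_, ?_, ?_, hMA, hsub⟩
  · haveI : (Z.subgroupOf M).Normal := scalars_normal.comap M.subtype
    haveI : Nontrivial (M ⧸ Z.subgroupOf M) := by
      obtain ⟨x, hx, hxZ⟩ := Set.not_subset.1 hMs
      refine ⟨⟨((⟨x, hx⟩ : M) : M ⧸ Z.subgroupOf M), 1, fun h => hxZ ?_⟩⟩
      rw [QuotientGroup.eq_one_iff, Subgroup.mem_subgroupOf] at h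
      exact h
    constructor
    intro N hN
    let U : Subgroup (GL ι F) := (N.comap (QuotientGroup.mk' (Z.subgroupOf M))).map M.subtype
    by_cases hU : U ≤ Z
    · left
      rw [Subgroup.eq_bot_iff_forall]
      intro q hq
      induction q using QuotientGroup.induction_on with
      | _ x =>
        rw [QuotientGroup.eq_one_iff, Subgroup.mem_subgroupOf]
        exact hU ⟨x, hq, rfl⟩
    · right
      have hUM : U = M := by
        refine hsimple U (Subgroup.map_subtype_le _) (fun g hg x hx => ?_) hU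
        obtain ⟨y, hy, rfl⟩ := Subgroup.mem_map.1 hx
        exact ⟨⟨g, hg⟩ * y * ⟨g, hg⟩⁻¹, (hN.comap _).conj_mem y hy _, rfl⟩
      rw [Subgroup.eq_top_iff']
      intro q
      induction q using QuotientGroup.induction_on with
      | _ x =>
        obtain ⟨y, hy, hyx⟩ := Subgroup.mem_map.1 (hUM.ge x.2)
        rw [show y = x from Subtype.ext hyx] at hy
        exact hy
  · intro hc
    refine hMs (hperf ▸ Subgroup.commutator_le.2 fun a ha b hb => ?_)
    haveI : (Z.subgroupOf M).Normal := scalars_normal.comap M.subtype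
    have h1 := mul_comm' (((⟨a, ha⟩ : M) : M ⧸ Z.subgroupOf M)) ((⟨b, hb⟩ : M) : M ⧸ Z.subgroupOf M)
    rw [← QuotientGroup.mk_mul, ← QuotientGroup.mk_mul, QuotientGroup.eq, Subgroup.mem_subgroupOf] at h1
    have h2 := scalars_normal.conj_mem _ h1 (a * b)
    have h3 : (a * b) * ((a * b)⁻¹ * (b * a)) * (a * b)⁻¹ = (⁅a, b⁆)⁻¹ := by rw [commutatorElement_def]; group
    simp only [Subgroup.coe_mul, InvMemClass.coe_inv] at h2
    rw [h3] at h2
    exact inv_mem_iff.1 h2
  · intro h hh hcs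
    exact hMA.mem_scalars_of_commute fun x hx => commute_of_perfect hperf hcs x hx

theorem residual_of_simple (hn : 3 ≤ n) {H M : Subgroup (GL (Fin n) F)} (hH : ¬ InClass n F H)
    (hMH : M ≤ H) (hM : NormG H M) (hMs : ¬ M ≤ scalars (Fin n) F) (hperf : ⁅M, M⁆ = M)
    (hsimple : ∀ U ≤ M, NormG M U → ¬ U ≤ scalars (Fin n) F → U = M) : InLinearResidualClass H := by
  haveI : Nonempty (Fin n) := ⟨⟨0, by omega⟩⟩
  have hMA := absIrr_of_normal hn hH hM hMs
  refine ⟨M, residualCore_of_simple hMA hMH hM hMs hperf hsimple fun F₀ hF₀ hreal => ?_, ?_, ?_, ?_⟩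
  · obtain ⟨F₁, r, P, hr, hc, hle⟩ := class5_of_realisable hM hMA hF₀ hreal
    exact hH (InClass.c5 hr hc hle)
  · rintro ⟨Q, hQ, hfix⟩
    obtain ⟨G, hG⟩ := exists_gform (RingHom.id F) (QuadraticMap.polar Q) hQ.polar_bilinear.add_left
      hQ.polar_bilinear.smul_left hQ.polar_bilinear.add_right hQ.polar_bilinear.smul_right
    exact hH (InClass.of_invForm hn hM hMA (invForm_iff.2 (hG ▸ FixesQuadForm.polar hfix))
      (ne_zero_of_nondegenerate (σ := RingHom.id F) (hG ▸ hQ.nondegenerate)))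
  · rintro ⟨f, hf, hfix⟩
    obtain ⟨G, hG⟩ := exists_gform (RingHom.id F) f hf.bilinear.add_left hf.bilinear.smul_left
      hf.bilinear.add_right hf.bilinear.smul_right
    exact hH (InClass.of_invForm hn hM hMA (invForm_iff.2 (hG ▸ hfix))
      (ne_zero_of_nondegenerate (σ := RingHom.id F) (hG ▸ hf.nondegenerate)))
  · rintro ⟨σ, f, hf, hfix⟩
    obtain ⟨G, hG⟩ := exists_gform σ.toRingHom f hf.add_left hf.smul_left
      (fun v x y => by rw [hf.herm, hf.add_left, map_add, ← hf.herm, ← hf.herm])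
      (fun c v x => by rw [hf.herm, hf.smul_left, map_mul, ← hf.herm]; rfl)
    obtain ⟨f', hf', hle⟩ := class8_of_invHerm hM hMA σ hf.involutive hf.ne_refl (invForm_iff.2 (hG ▸ hfix))
      (ne_zero_of_nondegenerate (σ := σ.toRingHom) (hG ▸ hf.nondegenerate))
    exact hH (InClass.c8unit hf' hn hle)

/-- a minimal normal subgroup that is not simple modulo scalars gives a tensor power decomposition -/
theorem exists_power_of_not_simple [Nonempty ι] {H M : Subgroup (GL ι F)}
    (hMH : M ≤ H) (hM : NormG H M) (hMA : AbsIrr M) (hperf : ⁅M, M⁆ = M)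
    (hmin : ∀ N ≤ M, NormG H N → ¬ N ≤ scalars ι F → N = M)
    (hns : ∃ U ≤ M, NormG M U ∧ ¬ U ≤ scalars ι F ∧ U ≠ M) :
    ∃ (d t : ℕ) (e : ι ≃ (Fin t → Fin d)) (P : GL ι F), 2 ≤ d ∧ 2 ≤ t ∧ H ≤ tensorWreathSubgroup d t e P ∧
      ∃ (U : Subgroup (GL ι F)) (u : Fin d → Fin d → Matrix ι ι F), U ≤ M ∧
        (∀ a b, u a b ∈ Algebra.adjoin F (matrixSet U)) ∧
        (∀ z ∈ Algebra.adjoin F (matrixSet U), ∃ X : Matrix (Fin d) (Fin d) F, z = ∑ a, ∑ b, X a b • u a b) ∧
        ∀ i, ∃ g ∈ H, ∀ a b, cj P (rx e (slot i (Matrix.single a b 1))) = cj g (u a b) := by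
  set Z := scalars ι F
  obtain ⟨U₁, hU₁, hU₁n, hU₁s, hU₁ne⟩ := hns
  obtain ⟨U, hU1le, ⟨hUM, hUn, hUs⟩, hUmin⟩ := Set.Finite.exists_le_minimal
    (s := {U : Subgroup (GL ι F) | U ≤ M ∧ NormG M U ∧ ¬ U ≤ Z}) (Set.toFinite _) ⟨hU₁, hU₁n, hU₁s⟩
  have hUne : U ≠ M := fun h => hU₁ne (le_antisymm hU₁ (h ▸ hU1le))
  let S : Set (Subgroup (GL ι F)) := {V | ∃ h ∈ H, V = U.map (MulAut.conj h).toMonoidHom}
  have hUS : U ∈ S := ⟨1, one_mem _, by ext x; simp⟩
  have hS : ∀ V ∈ S, V ≤ M ∧ NormG M V ∧ ¬ V ≤ Z ∧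
      (∀ W ≤ V, NormG M W → ¬ W ≤ Z → V ≤ W) := by
    rintro V ⟨h, hh, rfl⟩
    refine ⟨(Subgroup.map_mono hUM).trans (hM.map_le hh), ?_, ?_, ?_⟩
    · rintro g hg _ ⟨x, hx, rfl⟩
      refine ⟨(h⁻¹ * g * h) * x * (h⁻¹ * g * h)⁻¹, hUn _ (by simpa using hM h⁻¹ (H.inv_mem hh) g hg) x hx, ?_⟩
      simp only [MulEquiv.toMonoidHom_eq_coe, MonoidHom.coe_coe, MulAut.conj_apply]
      group
    · intro hle
      refine hUs fun x hx => ?_
      have := scalars_normal.conj_mem _ (hle ⟨x, hx, rfl⟩) h⁻¹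
      simpa [mul_assoc] using this
    · intro W hW hWn hWs
      have hsub : W.map (MulAut.conj h⁻¹).toMonoidHom ≤ U := by
        rintro _ ⟨w, hw, rfl⟩
        obtain ⟨x, hx, rfl⟩ := hW hw
        simpa [mul_assoc] using hx
      have := hUmin (y := W.map (MulAut.conj h⁻¹).toMonoidHom) ⟨hsub.trans hUM, ?_, ?_⟩ hsub
      · rintro _ ⟨x, hx, rfl⟩
        obtain ⟨w, hw, rfl⟩ := this hx
        simpa [mul_assoc] using hw
      · rintro g hg _ ⟨w, hw, rfl⟩
        refine ⟨(h * g * h⁻¹) * w * (h * g * h⁻¹)⁻¹, hWn _ (hM h hh g hg) w hw, ?_⟩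
        simp only [MulEquiv.toMonoidHom_eq_coe, MonoidHom.coe_coe, MulAut.conj_apply]
        group
      · intro hle
        refine hWs fun x hx => ?_
        have := scalars_normal.conj_mem _ (hle ⟨x, hx, rfl⟩) h
        simpa [mul_assoc] using this
  have hSperm : ∀ h ∈ H, ∀ V ∈ S, V.map (MulAut.conj h).toMonoidHom ∈ S := by
    rintro h hh V ⟨k, hk, rfl⟩
    refine ⟨h * k, H.mul_mem hh hk, ?_⟩
    rw [Subgroup.map_map]
    congr 1
    ext x
    simp [mul_assoc]
  have hinter : ∀ V ∈ S, ∀ W ∈ S, V ≠ W → ∀ v ∈ V, ∀ w ∈ W, v * w * v⁻¹ * w⁻¹ ∈ Z := by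
    intro V hV W hW hne v hv w hw
    have hle : V ⊓ W ≤ Z := by
      by_contra hc
      have hn' : NormG M (V ⊓ W) := fun g hg x hx => ⟨(hS V hV).2.1 g hg x hx.1, (hS W hW).2.1 g hg x hx.2⟩
      exact hne (le_antisymm (((hS V hV).2.2.2 _ inf_le_left hn' hc).trans inf_le_right)
        (((hS W hW).2.2.2 _ inf_le_right hn' hc).trans inf_le_left))
    refine hle ⟨?_, W.mul_mem ((hS W hW).2.1 v ((hS V hV).1 hv) w hw) (W.inv_mem hw)⟩
    have := V.mul_mem hv ((hS V hV).2.1 w ((hS W hW).1 hw) _ (V.inv_mem hv))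
    simpa [mul_assoc] using this
  have hgen : Subgroup.closure (⋃ V ∈ S, (V : Set (GL ι F))) = M := by
    refine hmin _ ((Subgroup.closure_le _).2 (Set.iUnion₂_subset fun V hV => (hS V hV).1)) ?_ ?_
    · intro h hh x hx
      have h1 : (Subgroup.closure (⋃ V ∈ S, (V : Set (GL ι F)))).map (MulAut.conj h).toMonoidHom ≤
          Subgroup.closure (⋃ V ∈ S, (V : Set (GL ι F))) := by
        rw [Subgroup.map_le_iff_le_comap, Subgroup.closure_le]
        refine Set.iUnion₂_subset fun V hV => ?_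
        intro y hy
        exact Subgroup.subset_closure (Set.mem_biUnion (hSperm h hh V hV) ⟨y, hy, rfl⟩)
      exact h1 ⟨x, hx, rfl⟩
    · exact fun hle => hUs ((fun y hy => hle (Subgroup.subset_closure (Set.mem_biUnion hUS hy))))
  -- perfect members
  have hperfS : ∀ V ∈ S, ⁅V, V⁆ = V := by
    intro V hV
    have hle : ⁅V, V⁆ ≤ V := Subgroup.commutator_le.2 fun a ha b hb => by
      rw [commutatorElement_def]
      exact V.mul_mem (V.mul_mem (V.mul_mem ha hb) (V.inv_mem ha)) (V.inv_mem hb)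
    by_cases hc : ⁅V, V⁆ ≤ Z
    · exfalso
      refine (hS V hV).2.2.1 fun v hv => hMA.mem_scalars_of_commute ?_
      refine commute_of_perfect hperf fun m hm => ?_
      let π := QuotientGroup.mk' Z
      have hMC : M ≤ (Subgroup.centralizer {π v}).comap π := by
        rw [← hgen, Subgroup.closure_le]
        refine Set.iUnion₂_subset fun W hW w hw => ?_
        rw [SetLike.mem_coe, Subgroup.mem_comap, Subgroup.mem_centralizer_singleton_iff, ← map_mul, ← map_mul]
        have hz : v * w * v⁻¹ * w⁻¹ ∈ Z := by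
          rcases eq_or_ne V W with rfl | hne
          · exact hc (Subgroup.commutator_mem_commutator hv hw)
          · exact hinter V hV W hW hne v hv w hw
        symm
        refine QuotientGroup.eq.2 ?_
        have := scalars_normal.conj_mem _ (Z.inv_mem hz) (v * w)⁻¹
        simpa [mul_assoc] using this
      have h1 := Subgroup.mem_centralizer_singleton_iff.1 (Subgroup.mem_comap.1 (hMC hm))
      rw [← map_mul, ← map_mul] at h1
      have h2 := scalars_normal.conj_mem _ (QuotientGroup.eq.1 h1) (m * v)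
      have h3 : (m * v) * ((m * v)⁻¹ * (v * m)) * (m * v)⁻¹ = v * m * v⁻¹ * m⁻¹ := by group
      rwa [h3] at h2
    · exact le_antisymm hle ((hS V hV).2.2.2 _ hle (hS V hV).2.1.commutator hc)
  have hcommS : ∀ V ∈ S, ∀ W ∈ S, V ≠ W → ∀ v ∈ V, ∀ w ∈ W, v * w = w * v := by
    intro V hV W hW hne v hv w hw
    exact commute_of_perfect (hperfS W hW) (fun w' hw' => hinter V hV W hW hne v hv w' hw') w hw
  haveI : Fintype S := Fintype.ofFinite _
  set t := Fintype.card S
  let eS : Fin t ≃ S := (Fintype.equivFin S).symm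
  let V : Fin t → Subgroup (GL ι F) := fun i => (eS i).1
  have hVS : ∀ i, V i ∈ S := fun i => (eS i).2
  have ht : 2 ≤ t := by
    by_contra hlt
    haveI : Subsingleton S := Fintype.card_le_one_iff_subsingleton.1 (show Fintype.card S ≤ 1 by omega)
    refine hUne (le_antisymm hUM ?_)
    rw [← hgen, Subgroup.closure_le]
    refine Set.iUnion₂_subset fun W hW => ?_
    rw [show W = U from congrArg Subtype.val (Subsingleton.elim (⟨W, hW⟩ : S) ⟨U, hUS⟩)]
  have hVinj : Function.Injective V := Subtype.val_injective.comp eS.injective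
  -- the algebras they generate
  have hcomA : ∀ W ∈ S, ∀ W' ∈ S, W ≠ W' → ∀ a ∈ Algebra.adjoin F (matrixSet W),
      ∀ b ∈ Algebra.adjoin F (matrixSet W'), a * b = b * a := by
    intro W hW W' hW' hne a ha b hb
    have h1 : Algebra.adjoin F (matrixSet W) ≤ Subalgebra.centralizer F (matrixSet W') := Algebra.adjoin_le (by
      rintro _ ⟨x, hx, rfl⟩
      rw [SetLike.mem_coe, Subalgebra.mem_centralizer_iff]
      rintro _ ⟨y, hy, rfl⟩
      rw [← Units.val_mul, ← Units.val_mul, hcommS W hW W' hW' hne x hx y hy])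
    have h2 : Algebra.adjoin F (matrixSet W') ≤
        Subalgebra.centralizer F (Algebra.adjoin F (matrixSet W) : Set (Matrix ι ι F)) :=
      Algebra.adjoin_le (by
        intro y hy
        rw [SetLike.mem_coe, Subalgebra.mem_centralizer_iff]
        intro x hx
        exact ((Subalgebra.mem_centralizer_iff F).1 (h1 hx) y hy).symm)
    exact (Subalgebra.mem_centralizer_iff F).1 (h2 hb) a ha
  have hscal : ∀ X : Matrix ι ι F,
      (∀ W ∈ S, ∀ x ∈ W, X * (x : Matrix ι ι F) = (x : Matrix ι ι F) * X) →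
      ∃ c : F, X = c • (1 : Matrix ι ι F) := by
    intro X hX
    refine hMA.scalar_of_commute fun x hx => ?_
    rw [← hgen] at hx
    induction hx using Subgroup.closure_induction with
    | mem y hy =>
      obtain ⟨W, hW, hyW⟩ := Set.mem_iUnion₂.1 hy
      exact hX W hW y hyW
    | one => simp
    | mul a b _ _ ha hb => rw [Units.val_mul, ← mul_assoc, ha, mul_assoc, hb, mul_assoc]
    | inv a _ ha => exact (Commute.units_inv_right (ha : Commute X (a : Matrix ι ι F))).eq
  obtain ⟨d, u, hd, hu, huA, hspan⟩ := exists_matUnits hMA.irred (Normalises.adjoin hUn.set) (fun z hz hzc => by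
    refine hscal z fun W hW x hx => ?_
    rcases eq_or_ne U W with rfl | hne
    · exact hzc _ (Algebra.subset_adjoin (mem_matrixSet hx))
    · exact hcomA U hUS W hW hne z hz _ (Algebra.subset_adjoin (mem_matrixSet hx)))
  choose g hgH hgV using fun i => hVS i
  have hA : ∀ i, Algebra.adjoin F (matrixSet (V i)) = (Algebra.adjoin F (matrixSet U)).map (cjAlg (g i)).toAlgHom := by
    intro i
    rw [AlgHom.map_adjoin, show V i = U.map (MulAut.conj (g i)).toMonoidHom from hgV i]
    congr 1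
    ext X
    constructor
    · rintro ⟨_, ⟨x, hx, rfl⟩, rfl⟩
      exact ⟨_, ⟨x, hx, rfl⟩, cj_coe (g i) x⟩
    · rintro ⟨_, ⟨x, hx, rfl⟩, rfl⟩
      exact ⟨_, ⟨x, hx, rfl⟩, (cj_coe (g i) x).symm⟩
  let u' : Fin t → Fin d → Fin d → Matrix ι ι F := fun i a b => cj (g i) (u a b)
  have hu'A : ∀ i a b, u' i a b ∈ Algebra.adjoin F (matrixSet (V i)) := fun i a b => by
    rw [hA]; exact ⟨u a b, huA a b, rfl⟩
  have hspan' : ∀ i, ∀ z ∈ Algebra.adjoin F (matrixSet (V i)),
      ∃ X : Matrix (Fin d) (Fin d) F, z = ∑ a, ∑ b, X a b • u' i a b := by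
    intro i z hz
    rw [hA] at hz
    obtain ⟨w, hw, rfl⟩ := hz
    obtain ⟨X, hX⟩ := hspan w hw
    refine ⟨X, ?_⟩
    show cjAlg (g i) w = _
    rw [hX, map_sum]
    simp only [map_sum, map_smul, cjAlg_apply]
    rfl
  have hd2 : 2 ≤ d := by
    by_contra hlt
    obtain rfl : d = 1 := by omega
    refine hUs fun x hx => ?_
    obtain ⟨X, hX⟩ := hspan _ (Algebra.subset_adjoin (mem_matrixSet hx))
    have h1 := hu.sum_one
    rw [Fin.sum_univ_one] at h1
    refine mem_scalars_of_eq (c := X 0 0) ?_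
    rw [hX, Fin.sum_univ_one, Fin.sum_univ_one, h1]
  haveI : Nonempty (Fin d) := ⟨⟨0, hd⟩⟩
  obtain ⟨e, P, hP⟩ := exists_power_basis t u'
    (fun i => ⟨fun a b c c' => by
        rw [← cj_mul, hu.mul]
        split_ifs
        · rfl
        · simp [cj],
      by
        show ∑ a, cjAlg (g i) (u a a) = 1
        rw [← map_sum, hu.sum_one, map_one]⟩)
    (fun i j hij a b c c' => hcomA _ (hVS i) _ (hVS j) (hVinj.ne hij) _ (hu'A i a b) _ (hu'A j c c'))
    (fun X hX => hscal X fun W hW x hx => by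
      obtain ⟨i, hi⟩ := eS.surjective ⟨W, hW⟩
      have hWi : V i = W := congrArg Subtype.val hi
      obtain ⟨Y, hY⟩ := hspan' i _ (Algebra.subset_adjoin (mem_matrixSet (hWi.symm ▸ hx)))
      rw [hY, Finset.mul_sum, Finset.sum_mul]
      refine Finset.sum_congr rfl fun a _ => ?_
      rw [Finset.mul_sum, Finset.sum_mul]
      exact Finset.sum_congr rfl fun b _ => by rw [mul_smul_comm, smul_mul_assoc, hX])
  have hle : H ≤ tensorWreathSubgroup d t e P := by
    refine le_tensorWreath hd (by omega) e P fun h hh => ?_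
    let f : Fin t → Fin t := fun i => eS.symm ⟨_, hSperm h hh (V i) (hVS i)⟩
    have hf : ∀ i, V (f i) = (V i).map (MulAut.conj h).toMonoidHom := fun i =>
      congrArg Subtype.val (eS.apply_symm_apply _)
    have hfi : Function.Injective f := fun i j hij => hVinj
      (Subgroup.map_injective (MulAut.conj h).injective (by rw [← hf, ← hf, hij]))
    refine ⟨Equiv.ofBijective f (Finite.injective_iff_bijective.1 hfi), fun i a b => ?_⟩
    rw [← hP]
    have hmem : cj h (u' i a b) ∈ Algebra.adjoin F (matrixSet (V (f i))) := by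
      rw [hf]
      have h1 : (Algebra.adjoin F (matrixSet (V i))).map (cjAlg h).toAlgHom ≤
          Algebra.adjoin F (matrixSet ((V i).map (MulAut.conj h).toMonoidHom)) := by
        rw [AlgHom.map_adjoin]
        refine Algebra.adjoin_mono ?_
        rintro _ ⟨_, ⟨x, hx, rfl⟩, rfl⟩
        exact ⟨_, ⟨x, hx, rfl⟩, (cj_coe h x).symm⟩
      exact h1 ⟨_, hu'A i a b, rfl⟩
    obtain ⟨X, hX⟩ := hspan' _ _ hmem
    refine ⟨X, ?_⟩
    rw [hX, Equiv.ofBijective_apply]
    conv_rhs => rw [Matrix.matrix_eq_sum_single X]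
    simp only [← slotHom_apply, ← cjAlg_apply, map_sum]
    refine Finset.sum_congr rfl fun x _ => Finset.sum_congr rfl fun y _ => ?_
    rw [show Matrix.single x y (X x y) = X x y • Matrix.single x y (1 : F) by simp, map_smul, map_smul, map_smul,
      slotHom_apply, cjAlg_apply, ← hP]
  exact ⟨d, t, e, P, hd2, ht, hle, U, u, hUM, huA, hspan, fun i => ⟨g i, hgH i, fun a b => (hP i a b).symm⟩⟩

/-- if the minimal normal subgroup is not simple modulo scalars, `H` preserves a tensor power -/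
theorem inClass_of_not_simple (hn : 3 ≤ n) {H M : Subgroup (GL (Fin n) F)}
    (hMH : M ≤ H) (hM : NormG H M) (hMs : ¬ M ≤ scalars (Fin n) F) (hperf : ⁅M, M⁆ = M)
    (hmin : ∀ N ≤ M, NormG H N → ¬ N ≤ scalars (Fin n) F → N = M)
    (hns : ∃ U ≤ M, NormG M U ∧ ¬ U ≤ scalars (Fin n) F ∧ U ≠ M) : InClass n F H := by
  by_contra hH
  haveI : Nonempty (Fin n) := ⟨⟨0, by omega⟩⟩
  obtain ⟨d, t, e, P, hd2, ht, hle, -⟩ :=
    exists_power_of_not_simple hMH hM (absIrr_of_normal hn hH hM hMs) hperf hmin hns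
  rcases Nat.lt_or_ge d 3 with h3 | h3
  · obtain rfl : d = 2 := by omega
    exact hH (InClass.of_power_two ht e P hle)
  · exact hH (InClass.c7 e P h3 ht hle)

/-- Aschbacher's theorem for the linear groups. -/
theorem linear_structure (hn : 3 ≤ n) (H : Subgroup (GL (Fin n) F)) :
    InClass n F H ∨ InLinearResidualClass H := by
  by_cases hH : InClass n F H
  · exact Or.inl hH
  haveI : Nonempty (Fin n) := ⟨⟨0, by omega⟩⟩
  have hI := irred_of_not_inClass hH
  have hHs : ¬ H ≤ scalars (Fin n) F := by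
    intro hle
    let v : Fin n → F := Pi.single ⟨0, by omega⟩ 1
    rcases hI.eq_bot_or_top (Submodule.span F {v}) (fun g hg w hw => by
      obtain ⟨c, hc⟩ := mem_scalars.1 (hle hg)
      rw [hc, smul_mulVec, one_mulVec]
      exact Submodule.smul_mem _ _ hw) with h | h
    · rw [Submodule.span_singleton_eq_bot] at h
      exact one_ne_zero (Pi.single_eq_zero_iff.1 h)
    · have h1 := finrank_span_singleton (K := F) (v := v) (fun h => one_ne_zero (Pi.single_eq_zero_iff.1 h))
      rw [h, finrank_top, Module.finrank_fin_fun] at h1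
      omega
  obtain ⟨M, ⟨hMH, hMn, hMs⟩, hMmin⟩ := Set.Finite.exists_minimal
    (s := {N : Subgroup (GL (Fin n) F) | N ≤ H ∧ NormG H N ∧ ¬ N ≤ scalars (Fin n) F}) (Set.toFinite _)
    ⟨H, le_rfl, fun g hg x hx => H.mul_mem (H.mul_mem hg hx) (H.inv_mem hg), hHs⟩
  have hmin : ∀ N ≤ M, NormG H N → ¬ N ≤ scalars (Fin n) F → N = M := fun N hN hNn hNs =>
    le_antisymm hN (hMmin ⟨hN.trans hMH, hNn, hNs⟩ hN)
  by_cases hder : ⁅M, M⁆ ≤ scalars (Fin n) F
  · left
    exact inClass_of_symType hn hMn hMs hmin fun a ha b hb => hder (Subgroup.commutator_mem_commutator ha hb)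
  have hperf : ⁅M, M⁆ = M := hmin _ (Subgroup.commutator_le.2 fun a ha b hb => by
      rw [commutatorElement_def]
      exact M.mul_mem (M.mul_mem (M.mul_mem ha hb) (M.inv_mem ha)) (M.inv_mem hb)) hMn.commutator hder
  by_cases hsimple : ∀ U ≤ M, NormG M U → ¬ U ≤ scalars (Fin n) F → U = M
  · exact Or.inr (residual_of_simple hn hH hMH hMn hMs hperf hsimple)
  · push Not at hsimple
    exact Or.inl (inClass_of_not_simple hn hMH hMn hMs hperf hmin hsimple)

end CfsgLib.Perm.Asch
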