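import Cfsg.Agent.Lib.Perm.Asch.Group

/-!
# Tensor powers: commuting systems of matrix units and the tensor wreath subgroup
-/

set_option autoImplicit false
set_option linter.all false

namespace CfsgLib.Perm.Asch

open scoped Classical Matrix Kronecker
open Matrix Cfsg.Geo

variable {ι : Type} [Fintype ι] [DecidableEq ι] {F : Type*} [Field F]
variable {κ : Type} [Fintype κ] [DecidableEq κ] {μ : Type} [Fintype μ] [DecidableEq μ]

/-! ### transport along algebra maps -/

theorem cj_unitsMap (φ : Matrix μ μ F →ₐ[F] Matrix ι ι F) (Q : GL μ F) (X : Matrix μ μ F) :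
    cj (Units.map φ.toRingHom.toMonoidHom Q) (φ X) = φ (cj Q X) := by
  simp only [cj, map_mul]
  rfl

theorem rx_trans {ν : Type} [Fintype ν] [DecidableEq ν] (e : ι ≃ μ) (e' : μ ≃ ν) (X : Matrix ν ν F) :
    rx e (rx e' X) = rx (e.trans e') X := rfl

/-- `X ↦ 1 ⊗ X` -/
def kr (κ : Type) [Fintype κ] [DecidableEq κ] (μ : Type) [Fintype μ] [DecidableEq μ] (F : Type*) [Field F] :
    Matrix μ μ F →ₐ[F] Matrix (κ × μ) (κ × μ) F where
  toFun X := (1 : Matrix κ κ F) ⊗ₖ X
  map_one' := Matrix.one_kronecker_one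
  map_mul' X Y := by rw [← Matrix.mul_kronecker_mul, one_mul]
  map_zero' := Matrix.kronecker_zero _
  map_add' X Y := Matrix.kronecker_add _ _ _
  commutes' c := by
    rw [Algebra.algebraMap_eq_smul_one, Algebra.algebraMap_eq_smul_one, Matrix.kronecker_smul,
      Matrix.one_kronecker_one]

@[simp] theorem kr_apply (X : Matrix μ μ F) : kr κ μ F X = (1 : Matrix κ κ F) ⊗ₖ X := rfl

theorem kr_injective [Nonempty κ] : Function.Injective (kr κ μ F) := by
  intro X Y h
  ext i j
  have := congrFun (congrFun h (Classical.arbitrary κ, i)) (Classical.arbitrary κ, j)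
  simpa [Matrix.kronecker_apply] using this

/-! ### pure tensors -/

variable {t : ℕ}

/-- the tensor product of `t` matrices -/
def pure (A : Fin t → Matrix κ κ F) : Matrix (Fin t → κ) (Fin t → κ) F :=
  Matrix.of fun x y => ∏ i, A i (x i) (y i)

@[simp] theorem pure_apply (A : Fin t → Matrix κ κ F) (x y : Fin t → κ) :
    pure A x y = ∏ i, A i (x i) (y i) := rfl

theorem pure_mul (A B : Fin t → Matrix κ κ F) : pure A * pure B = pure (A * B) := by
  ext x z
  simp only [Matrix.mul_apply, pure_apply, Pi.mul_apply, Fintype.prod_sum, ← Finset.prod_mul_distrib]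

theorem pure_one : pure (1 : Fin t → Matrix κ κ F) = 1 := by
  ext x y
  simp only [pure_apply, Pi.one_apply, Matrix.one_apply]
  by_cases h : x = y
  · simp [h]
  · rw [if_neg h]
    obtain ⟨i, hi⟩ := Function.ne_iff.1 h
    exact Finset.prod_eq_zero (Finset.mem_univ i) (by rw [if_neg hi])

theorem pure_transpose (A : Fin t → Matrix κ κ F) : (pure A)ᵀ = pure fun i => (A i)ᵀ := rfl

theorem pure_smul (c : Fin t → F) (A : Fin t → Matrix κ κ F) :
    pure (fun i => c i • A i) = (∏ i, c i) • pure A := by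
  ext x y
  simp [Finset.prod_mul_distrib]

theorem pure_single (x y : Fin t → κ) :
    pure (fun i => Matrix.single (x i) (y i) (1 : F)) = Matrix.single x y 1 := by
  ext a b
  simp only [pure_apply, Matrix.single_apply]
  by_cases h : x = a ∧ y = b
  · simp [h.1, h.2]
  · rw [if_neg h]
    rcases not_and_or.1 h with h | h <;> obtain ⟨i, hi⟩ := Function.ne_iff.1 h <;>
      exact Finset.prod_eq_zero (Finset.mem_univ i) (by simp [hi])

/-- invertible pure tensors -/
def pureHom (κ : Type) [Fintype κ] [DecidableEq κ] (t : ℕ) (F : Type*) [Field F] :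
    (Fin t → Matrix κ κ F) →* Matrix (Fin t → κ) (Fin t → κ) F where
  toFun := pure
  map_one' := pure_one
  map_mul' A B := (pure_mul A B).symm

def pureGL (a : Fin t → GL κ F) : GL (Fin t → κ) F :=
  Units.map (pureHom κ t F) (MulEquiv.piUnits.symm a)

theorem pureGL_coe (a : Fin t → GL κ F) :
    (pureGL a : Matrix (Fin t → κ) (Fin t → κ) F) = pure fun i => (a i : Matrix κ κ F) := rfl

theorem pureGL_inv_coe (a : Fin t → GL κ F) :
    (((pureGL a)⁻¹ : GL (Fin t → κ) F) : Matrix (Fin t → κ) (Fin t → κ) F) =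
      pure fun i => (((a i)⁻¹ : GL κ F) : Matrix κ κ F) := rfl

theorem cj_pureGL (a : Fin t → GL κ F) (A : Fin t → Matrix κ κ F) :
    cj (pureGL a) (pure A) = pure fun i => cj (a i) (A i) := by
  rw [cj, pureGL_coe, pureGL_inv_coe, pure_mul, pure_mul]
  rfl

/-- the matrix `X` in the `i`-th slot -/
def slot (i : Fin t) (X : Matrix κ κ F) : Matrix (Fin t → κ) (Fin t → κ) F :=
  pure (Pi.mulSingle i X)

theorem slot_apply (i : Fin t) (X : Matrix κ κ F) (x y : Fin t → κ) :
    slot i X x y = if (∀ j, j ≠ i → x j = y j) then X (x i) (y i) else 0 := by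
  rw [slot, pure_apply]
  split_ifs with h
  · rw [Finset.prod_eq_single i]
    · rw [Pi.mulSingle_eq_same]
    · intro j _ hj
      rw [Pi.mulSingle_eq_of_ne hj, Matrix.one_apply, if_pos (h j hj)]
    · simp
  · push Not at h
    obtain ⟨j, hj, hne⟩ := h
    exact Finset.prod_eq_zero (Finset.mem_univ j) (by rw [Pi.mulSingle_eq_of_ne hj, Matrix.one_apply, if_neg hne])

theorem slot_mul (i : Fin t) (X Y : Matrix κ κ F) : slot i X * slot i Y = slot i (X * Y) := by
  rw [slot, slot, pure_mul, ← Pi.mulSingle_mul]; rfl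

/-- the slot map as an algebra hom -/
def slotHom (i : Fin t) : Matrix κ κ F →ₐ[F] Matrix (Fin t → κ) (Fin t → κ) F where
  toFun := slot i
  map_one' := by rw [slot, Pi.mulSingle_one, pure_one]
  map_mul' X Y := (slot_mul i X Y).symm
  map_zero' := by ext x y; simp [slot_apply]
  map_add' X Y := by
    ext x y
    simp only [slot_apply, Matrix.add_apply]
    split_ifs <;> simp
  commutes' c := by
    rw [Algebra.algebraMap_eq_smul_one, Algebra.algebraMap_eq_smul_one]
    ext x y
    simp only [slot_apply, Matrix.smul_apply, Matrix.one_apply]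
    by_cases h : x = y
    · simp [h]
    · rw [if_neg h]
      split_ifs with h1 h2
      · exact absurd (funext fun j => by
          rcases eq_or_ne j i with rfl | hj
          · exact h2
          · exact h1 j hj) h
      · rfl
      · simp

@[simp] theorem slotHom_apply (i : Fin t) (X : Matrix κ κ F) : slotHom i X = slot i X := rfl

theorem slot_injective [Nonempty κ] (i : Fin t) : Function.Injective (slot (F := F) (κ := κ) i) := by
  intro X Y h
  ext a b
  let z : Fin t → κ := fun _ => Classical.arbitrary κ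
  have := congrFun (congrFun h (Function.update z i a)) (Function.update z i b)
  rw [slot_apply, slot_apply] at this
  have hc : ∀ j, j ≠ i → Function.update z i a j = Function.update z i b j := fun j hj => by
    simp [Function.update_of_ne hj]
  rwa [if_pos hc, if_pos hc, Function.update_self, Function.update_self] at this

theorem cj_pureGL_slot (a : Fin t → GL κ F) (i : Fin t) (X : Matrix κ κ F) :
    cj (pureGL a) (slot i X) = slot i (cj (a i) X) := by
  rw [slot, cj_pureGL, slot]
  congr 1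
  funext j
  rcases eq_or_ne j i with rfl | hj
  · simp
  · simp [Pi.mulSingle_eq_of_ne hj, cj_one]

/-- what commutes with all slots is scalar -/
theorem scalar_of_commute_slots [Nonempty κ] (M : Matrix (Fin t → κ) (Fin t → κ) F)
    (h : ∀ i a b, M * slot i (Matrix.single a b 1) = slot i (Matrix.single a b 1) * M) :
    ∃ c : F, M = c • (1 : Matrix (Fin t → κ) (Fin t → κ) F) := by
  haveI : Nonempty (Fin t → κ) := ⟨fun _ => Classical.arbitrary κ⟩
  have key : ∀ (x y : Fin t → κ) (s : Finset (Fin t)),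
      Commute M (pure (s.piecewise (fun i => Matrix.single (x i) (y i) (1 : F)) 1)) := by
    intro x y s
    induction s using Finset.induction_on with
    | empty => rw [Finset.piecewise_empty, pure_one]; exact Commute.one_right M
    | insert k s hk ih =>
      have e : (insert k s).piecewise (fun i => Matrix.single (x i) (y i) (1 : F)) 1 =
          Pi.mulSingle k (Matrix.single (x k) (y k) 1) *
            s.piecewise (fun i => Matrix.single (x i) (y i) (1 : F)) 1 := by
        funext j
        rcases eq_or_ne j k with rfl | hj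
        · simp [hk]
        · simp [Pi.mulSingle_eq_of_ne hj, Finset.piecewise, Finset.mem_insert, hj]
      rw [e, ← pure_mul]
      exact Commute.mul_right (h k (x k) (y k)) ih
  obtain ⟨c, hc⟩ := Matrix.mem_range_scalar_of_commute_single (M := M) (fun x y _ => by
    have := key x y Finset.univ
    rw [Finset.piecewise_univ, pure_single] at this
    exact this.symm)
  exact ⟨c, by rw [← hc]; simp [Matrix.smul_one_eq_diagonal]⟩

theorem rx_slot_succ (i : Fin t) (X : Matrix κ κ F) :
    rx (Fin.consEquiv fun _ : Fin (t + 1) => κ) (slot i.succ X) = kr κ (Fin t → κ) F (slot i X) := by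
  ext ⟨a, x⟩ ⟨b, y⟩
  rw [rx_apply, kr_apply, Matrix.kronecker_apply, slot_apply, slot_apply, Matrix.one_apply]
  simp only [Fin.consEquiv_apply, Fin.cons_succ]
  have : (∀ j, j ≠ i.succ → Fin.cons (α := fun _ => κ) a x j = Fin.cons (α := fun _ => κ) b y j) ↔
      a = b ∧ ∀ j, j ≠ i → x j = y j := by
    constructor
    · intro h
      refine ⟨by simpa using h 0 (Fin.succ_ne_zero i).symm, fun j hj => ?_⟩
      simpa using h j.succ (by simpa using hj)
    · rintro ⟨h0, h⟩ j hj
      induction j using Fin.cases with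
      | zero => simpa using h0
      | succ j => simpa using h j (by simpa using hj)
  simp only [this]
  by_cases h0 : a = b <;> simp [h0]

theorem rx_slot_zero (X : Matrix κ κ F) :
    rx (Fin.consEquiv fun _ : Fin (t + 1) => κ) (slot 0 X) = X ⊗ₖ (1 : Matrix (Fin t → κ) (Fin t → κ) F) := by
  ext ⟨a, x⟩ ⟨b, y⟩
  rw [rx_apply, Matrix.kronecker_apply, slot_apply, Matrix.one_apply]
  simp only [Fin.consEquiv_apply, Fin.cons_zero]
  have : (∀ j, j ≠ (0 : Fin (t + 1)) → Fin.cons (α := fun _ => κ) a x j = Fin.cons (α := fun _ => κ) b y j) ↔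
      x = y := by
    constructor
    · intro h; funext j; simpa using h j.succ (Fin.succ_ne_zero j)
    · rintro rfl j hj
      induction j using Fin.cases with
      | zero => exact absurd rfl hj
      | succ j => simp
  simp only [this]
  by_cases h : x = y <;> simp [h]

theorem rx_prod_kr {ν : Type} [Fintype ν] [DecidableEq ν] (e : μ ≃ ν) (X : Matrix ν ν F) :
    rx (Equiv.prodCongr (Equiv.refl κ) e) (kr κ ν F X) = kr κ μ F (rx e X) := by
  ext ⟨a, x⟩ ⟨b, y⟩
  simp [Matrix.kronecker_apply, Matrix.one_apply]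

/-! ### commuting systems of matrix units -/

theorem exists_power_basis [Nonempty κ] : ∀ (t : ℕ) {ι : Type} [Fintype ι] [DecidableEq ι] [Nonempty ι]
    (u : Fin t → κ → κ → Matrix ι ι F), (∀ i, MatUnits (u i)) →
    (∀ i j, i ≠ j → ∀ a b c d, u i a b * u j c d = u j c d * u i a b) →
    (∀ X : Matrix ι ι F, (∀ i a b, X * u i a b = u i a b * X) → ∃ c : F, X = c • (1 : Matrix ι ι F)) →
    ∃ (e : ι ≃ (Fin t → κ)) (P : GL ι F), ∀ i a b, u i a b = cj P (rx e (slot i (Matrix.single a b 1))) := by
  intro t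
  induction t with
  | zero =>
    intro ι _ _ _ u _ _ hsc
    haveI : Subsingleton ι := ⟨fun i j => by
      by_contra hne
      obtain ⟨c, hc⟩ := hsc (Matrix.single i j 1) (fun k => k.elim0)
      have := congrFun (congrFun hc i) j
      simp [hne] at this⟩
    haveI : Unique ι := uniqueOfSubsingleton (Classical.arbitrary ι)
    exact ⟨Equiv.ofUnique ι (Fin 0 → κ), 1, fun k => k.elim0⟩
  | succ t ih =>
    intro ι _ _ _ u hu hc hsc
    obtain ⟨m, ⟨e⟩, he⟩ := (hu 0).exists_basis
    obtain ⟨P, hP⟩ := he e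
    haveI : Nonempty (Fin m) := ⟨(e (Classical.arbitrary ι)).2⟩
    choose B hB using fun i a b => right_of_commute hP
      (X := u (Fin.succ i) a b) (fun x y => hc 0 i.succ (Fin.succ_ne_zero i).symm x y a b)
    let Ψ : Matrix (Fin m) (Fin m) F →ₐ[F] Matrix ι ι F :=
      (cjAlg P).toAlgHom.comp ((rx e).toAlgHom.comp (kr κ (Fin m) F))
    have hΨ : ∀ X, Ψ X = cj P (rx e ((1 : Matrix κ κ F) ⊗ₖ X)) := fun X => rfl
    have hΨi : Function.Injective Ψ := fun X Y h =>
      kr_injective ((rx e).injective (cj_injective P h))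
    have hBΨ : ∀ i a b, Ψ (B i a b) = u (Fin.succ i) a b := fun i a b => (hB i a b).symm
    obtain ⟨e', Q, hQ⟩ := ih B
      (fun i => ⟨fun a b c d => hΨi (by
          rw [map_mul, hBΨ, hBΨ, (hu _).mul]
          split_ifs
          · rw [hBΨ]
          · rw [map_zero]),
        hΨi (by rw [map_sum, map_one, ← (hu i.succ).sum_one]; exact Finset.sum_congr rfl fun a _ => hBΨ i a a)⟩)
      (fun i j hij a b c d => hΨi (by
        rw [map_mul, map_mul, hBΨ, hBΨ]
        exact hc _ _ (fun h => hij (Fin.succ_injective _ h)) a b c d))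
      (fun X hX => by
        obtain ⟨c, hc'⟩ := hsc (Ψ X) (fun i a b => by
          induction i using Fin.cases with
          | zero => rw [hΨ, hP, lu, cj_rx_right_commute]
          | succ i => rw [← hBΨ, ← map_mul, ← map_mul, hX])
        exact ⟨c, hΨi (by rw [hc', map_smul, map_one])⟩)
    let φ : Matrix (κ × Fin m) (κ × Fin m) F →ₐ[F] Matrix ι ι F := (rx e).toAlgHom
    let T : GL (κ × Fin m) F := Units.map (kr κ (Fin m) F).toRingHom.toMonoidHom Q
    refine ⟨(e.trans (Equiv.prodCongr (Equiv.refl κ) e')).trans (Fin.consEquiv fun _ => κ),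
      P * Units.map φ.toRingHom.toMonoidHom T, ?_⟩
    intro i a b
    rw [← cj_cj, ← rx_trans, ← rx_trans]
    induction i using Fin.cases with
    | zero =>
      rw [rx_slot_zero, hP]
      congr 1
      have h1 : rx (Equiv.prodCongr (Equiv.refl κ) e')
          (Matrix.single a b (1 : F) ⊗ₖ (1 : Matrix (Fin t → κ) (Fin t → κ) F)) = lu m a b := by
        ext ⟨x1, x2⟩ ⟨y1, y2⟩
        simp [lu, Matrix.kronecker_apply, Matrix.one_apply]
      rw [h1, show rx e (lu m a b) = φ (lu m a b) from rfl, cj_unitsMap]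
      congr 1
      rw [cj]
      have hcomm : (T : Matrix (κ × Fin m) (κ × Fin m) F) * lu m a b =
          lu m a b * (T : Matrix (κ × Fin m) (κ × Fin m) F) := by
        show ((1 : Matrix κ κ F) ⊗ₖ (Q : Matrix (Fin m) (Fin m) F)) * _ = _ * ((1 : Matrix κ κ F) ⊗ₖ _)
        rw [lu, ← Matrix.mul_kronecker_mul, ← Matrix.mul_kronecker_mul]
        simp
      rw [hcomm, mul_assoc, gl_mul_inv, mul_one]
    | succ i =>
      rw [rx_slot_succ, rx_prod_kr, ← hBΨ, hQ, hΨ]
      congr 1
      show _ = cj (Units.map φ.toRingHom.toMonoidHom T) (φ _)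
      rw [cj_unitsMap]
      show φ _ = φ _
      congr 1
      exact (cj_unitsMap (kr κ (Fin m) F) Q _).symm

/-! ### factor permutations -/

/-- the permutation of the tensor factors given by `σ` -/
def permMat (σ : Equiv.Perm (Fin t)) : Matrix (Fin t → κ) (Fin t → κ) F :=
  Matrix.of fun x y => if y = x ∘ σ then 1 else 0

theorem permMat_mul (σ : Equiv.Perm (Fin t)) (X : Matrix (Fin t → κ) (Fin t → κ) F) :
    permMat σ * X = Matrix.of fun x y => X (x ∘ σ) y := by
  ext x y
  simp [Matrix.mul_apply, permMat]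

theorem mul_permMat (σ : Equiv.Perm (Fin t)) (X : Matrix (Fin t → κ) (Fin t → κ) F) :
    X * permMat σ = Matrix.of fun x y => X x (y ∘ σ.symm) := by
  ext x y
  simp only [Matrix.mul_apply, permMat, Matrix.of_apply]
  rw [Finset.sum_eq_single (y ∘ σ.symm)]
  · simp [Function.comp_assoc]
  · intro z _ hz
    rw [if_neg, mul_zero]
    rintro rfl
    exact hz (by simp [Function.comp_assoc])
  · simp

theorem permMat_mul_permMat (σ τ : Equiv.Perm (Fin t)) :
    permMat (κ := κ) (F := F) σ * permMat τ = permMat (σ * τ) := by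
  rw [permMat_mul]
  ext x y
  simp only [permMat, Matrix.of_apply, Function.comp_assoc, Equiv.Perm.coe_mul]
  congr

theorem permMat_one : permMat (κ := κ) (F := F) (1 : Equiv.Perm (Fin t)) = 1 := by
  ext x y
  simp [permMat, Matrix.one_apply, eq_comm]

/-- the invertible matrix of a permutation of the factors -/
def permGL (σ : Equiv.Perm (Fin t)) : GL (Fin t → κ) F where
  val := permMat σ
  inv := permMat σ⁻¹
  val_inv := by rw [permMat_mul_permMat, mul_inv_cancel, permMat_one]
  inv_val := by rw [permMat_mul_permMat, inv_mul_cancel, permMat_one]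

theorem permGL_coe (σ : Equiv.Perm (Fin t)) :
    ((permGL σ : GL (Fin t → κ) F) : Matrix (Fin t → κ) (Fin t → κ) F) = permMat σ := rfl

theorem permMat_transpose (σ : Equiv.Perm (Fin t)) :
    (permMat σ : Matrix (Fin t → κ) (Fin t → κ) F)ᵀ = permMat σ⁻¹ := by
  ext x y
  simp only [Matrix.transpose_apply, permMat, Matrix.of_apply, Equiv.Perm.inv_def]
  refine if_congr ⟨fun h => ?_, fun h => ?_⟩ rfl rfl
  · subst h; simp [Function.comp_assoc]
  · subst h; simp [Function.comp_assoc]

theorem cj_permGL_pure (σ : Equiv.Perm (Fin t)) (A : Fin t → Matrix κ κ F) :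
    cj (permGL σ) (pure A) = pure (A ∘ σ.symm) := by
  show permMat σ * pure A * permMat σ⁻¹ = _
  rw [permMat_mul, mul_permMat]
  ext x y
  simp only [Matrix.of_apply, pure_apply, Equiv.Perm.inv_def, Equiv.symm_symm, Function.comp_apply]
  rw [← Equiv.prod_comp σ (fun i => A (σ.symm i) (x i) (y i))]
  simp

theorem cj_permGL_slot (σ : Equiv.Perm (Fin t)) (i : Fin t) (X : Matrix κ κ F) :
    cj (permGL σ) (slot i X) = slot (σ i) X := by
  rw [slot, cj_permGL_pure, slot]
  congr 1
  funext j
  rcases eq_or_ne j (σ i) with rfl | hj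
  · simp
  · have : σ.symm j ≠ i := fun h => hj (by rw [← h, Equiv.apply_symm_apply])
    simp [Pi.mulSingle_eq_of_ne hj, Pi.mulSingle_eq_of_ne this]

/-! ### the tensor wreath subgroup -/

theorem cj_rx (e : ι ≃ μ) (Q : GL μ F) (X : Matrix μ μ F) :
    cj (Units.map (rx e).toAlgHom.toRingHom.toMonoidHom Q) (rx e X) = rx e (cj Q X) :=
  cj_unitsMap (rx e).toAlgHom Q X

/-- A group permuting a spanning set of commuting systems of matrix units preserves a tensor power structure. -/
theorem le_tensorWreath {m t : ℕ} (hm : 0 < m) (ht : 0 < t) {H : Subgroup (GL ι F)}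
    (e : ι ≃ (Fin t → Fin m)) (P : GL ι F)
    (hperm : ∀ h ∈ H, ∃ π : Equiv.Perm (Fin t), ∀ i a b, ∃ X : Matrix (Fin m) (Fin m) F,
      cj h (cj P (rx e (slot i (Matrix.single a b 1)))) = cj P (rx e (slot (π i) X))) :
    H ≤ tensorWreathSubgroup m t e P := by
  haveI : Nonempty (Fin m) := ⟨⟨0, hm⟩⟩
  intro h hh
  obtain ⟨π, hπ⟩ := hperm h hh
  let k : GL (Fin t → Fin m) F := (glReindex e.symm).symm (P⁻¹ * h * P)
  have hk : glReindex e.symm k = P⁻¹ * h * P := (glReindex e.symm).apply_symm_apply _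
  have hkeq : Units.map (rx e).toAlgHom.toRingHom.toMonoidHom k = P⁻¹ * h * P := hk
  have hrx : ∀ Y, rx e (cj k Y) = cj P⁻¹ (cj h (cj P (rx e Y))) := fun Y => by
    rw [← cj_rx, hkeq, cj_cj, cj_cj, mul_assoc]
  let k' := (permGL π)⁻¹ * k
  have hslot : ∀ i X, ∃ Y, cj k' (slot i X) = slot i Y := by
    intro i X
    choose f hf using hπ i
    have hbase : ∀ a b, cj k (slot i (Matrix.single a b 1)) = slot (π i) (f a b) := fun a b => by
      apply (rx e).injective
      rw [hrx, hf, cj_inv_cj]
    have hX : cj k (slot i X) = slot (π i) (∑ a, ∑ b, X a b • f a b) := by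
      conv_lhs => rw [Matrix.matrix_eq_sum_single X]
      simp only [← slotHom_apply, ← cjAlg_apply, map_sum, map_smul]
      refine Finset.sum_congr rfl fun a _ => Finset.sum_congr rfl fun b _ => ?_
      rw [show Matrix.single a b (X a b) = X a b • Matrix.single a b (1 : F) by simp, map_smul, map_smul,
        cjAlg_apply, slotHom_apply, slotHom_apply, hbase]
    refine ⟨∑ a, ∑ b, X a b • f a b, ?_⟩
    rw [← cj_cj, hX]
    apply cj_injective (permGL π)
    rw [cj_cj_inv, cj_permGL_slot]
  choose g hg using hslot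
  have hφ : ∀ i, ∃ a : GL (Fin m) F, ∀ X, g i X = cj a X := by
    intro i
    have hinj := slot_injective (F := F) (κ := Fin m) i
    have hhom : ∀ X, slot i (g i X) = ((cjAlg k').toAlgHom.comp (slotHom i)) X := fun X => (hg i X).symm
    exact skolem_noether
      { toFun := g i
        map_one' := hinj (by rw [hhom, map_one]; exact ((slotHom i).map_one).symm)
        map_mul' := fun X Y => hinj (by rw [hhom, map_mul, ← hhom, ← hhom, slot_mul])
        map_zero' := hinj (by rw [hhom, map_zero]; exact ((slotHom i).map_zero).symm)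
        map_add' := fun X Y => hinj (by
          rw [hhom, map_add, ← hhom, ← hhom]; exact ((slotHom i).map_add _ _).symm)
        commutes' := fun c => hinj (by rw [hhom, AlgHom.commutes]; exact ((slotHom i).commutes c).symm) }
  choose a ha using hφ
  let d : GL (Fin t → Fin m) F := (pureGL a)⁻¹ * k'
  have hcomm : ∀ i x y,
      (d : Matrix (Fin t → Fin m) (Fin t → Fin m) F) * slot i (Matrix.single x y (1 : F)) =
      slot i (Matrix.single x y (1 : F)) * (d : Matrix (Fin t → Fin m) (Fin t → Fin m) F) := by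
    intro i x y
    have : cj d (slot i (Matrix.single x y 1)) = slot i (Matrix.single x y 1) := by
      rw [← cj_cj, hg, ha, ← cj_pureGL_slot, cj_inv_cj]
    calc (d : Matrix _ _ F) * slot i (Matrix.single x y 1)
        = cj d (slot i (Matrix.single x y 1)) * (d : Matrix _ _ F) := by
          rw [cj, mul_assoc, gl_inv_mul, mul_one]
      _ = _ := by rw [this]
  obtain ⟨c, hc⟩ := scalar_of_commute_slots _ hcomm
  haveI : Nonempty (Fin t → Fin m) := ⟨fun _ => ⟨0, hm⟩⟩
  obtain ⟨c', hc'⟩ := mem_scalars.1 (mem_scalars_of_eq hc)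
  let i0 : Fin t := ⟨0, ht⟩
  let s : GL (Fin m) F := Units.map (Matrix.scalar (Fin m) : F →+* Matrix (Fin m) (Fin m) F).toMonoidHom c'
  have hscal : ((pureGL (Pi.mulSingle i0 s) : GL (Fin t → Fin m) F) : Matrix (Fin t → Fin m) (Fin t → Fin m) F) =
      (c' : F) • (1 : Matrix (Fin t → Fin m) (Fin t → Fin m) F) := by
    rw [pureGL_coe]
    have : (fun i => ((Pi.mulSingle i0 s : Fin t → GL (Fin m) F) i : Matrix (Fin m) (Fin m) F)) =
        fun i => (Pi.mulSingle i0 (c' : F) : Fin t → F) i • (1 : Fin t → Matrix (Fin m) (Fin m) F) i := by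
      funext i
      rcases eq_or_ne i i0 with rfl | hi
      · simp [s, Matrix.smul_one_eq_diagonal]
      · simp [Pi.mulSingle_eq_of_ne hi]
    rw [this, pure_smul, pure_one]
    rw [Finset.prod_pi_mulSingle']
    simp
  have hd : (pureGL a)⁻¹ * k' = pureGL (Pi.mulSingle i0 s) := Units.ext (by rw [hscal, ← hc'])
  have hk2 : k = permGL π * (pureGL a * pureGL (Pi.mulSingle i0 s)) := by
    rw [← hd]; simp [k', mul_assoc]
  have hkmem : k ∈ tensorWreathStandard m t F := by
    rw [hk2]
    refine mul_mem ?_ (mul_mem ?_ ?_)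
    · exact Subgroup.subset_closure (Or.inr ⟨π, fun x y => rfl⟩)
    · exact Subgroup.subset_closure (Or.inl ⟨a, fun x y => rfl⟩)
    · exact Subgroup.subset_closure (Or.inl ⟨_, fun x y => rfl⟩)
  refine Subgroup.mem_map.2 ⟨_, Subgroup.mem_map.2 ⟨k, hkmem, rfl⟩, ?_⟩
  show P * glReindex e.symm k * P⁻¹ = h
  rw [hk]; group

/-! ### two factors -/

/-- A group normalising the left factor of a tensor decomposition stabilises the decomposition. -/
theorem le_tensorProduct {n₁ n₂ : ℕ} [Nonempty (Fin n₁)] {H : Subgroup (GL ι F)}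
    (e : ι ≃ Fin n₁ × Fin n₂) (P : GL ι F)
    (hnorm : ∀ h ∈ H, ∀ A, ∃ B : Matrix (Fin n₁) (Fin n₁) F,
      cj h (cj P (rx e (A ⊗ₖ (1 : Matrix (Fin n₂) (Fin n₂) F)))) = cj P (rx e (B ⊗ₖ 1))) :
    H ≤ tensorProductSubgroup n₁ n₂ e P := by
  intro h hh
  haveI : Nonempty (Fin n₁ × Fin n₂) ∨ IsEmpty (Fin n₁ × Fin n₂) := (isEmpty_or_nonempty _).symm
  let k : GL (Fin n₁ × Fin n₂) F := (glReindex e.symm).symm (P⁻¹ * h * P)
  have hk : glReindex e.symm k = P⁻¹ * h * P := (glReindex e.symm).apply_symm_apply _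
  have hkeq : Units.map (rx e).toAlgHom.toRingHom.toMonoidHom k = P⁻¹ * h * P := hk
  refine Subgroup.mem_map.2 ⟨_, Subgroup.mem_map.2 ⟨k, ?_, rfl⟩, ?_⟩
  swap
  · show P * glReindex e.symm k * P⁻¹ = h
    rw [hk]; group
  rcases isEmpty_or_nonempty (Fin n₂) with hn₂ | hn₂
  · exact ⟨1, 1, Matrix.ext fun x => isEmptyElim x.2⟩
  let L : Matrix (Fin n₁) (Fin n₁) F →ₐ[F] Matrix (Fin n₁ × Fin n₂) (Fin n₁ × Fin n₂) F :=
    { toFun := fun A => A ⊗ₖ (1 : Matrix (Fin n₂) (Fin n₂) F)
      map_one' := Matrix.one_kronecker_one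
      map_mul' := fun A B => by rw [← Matrix.mul_kronecker_mul, one_mul]
      map_zero' := Matrix.zero_kronecker _
      map_add' := fun A B => Matrix.add_kronecker _ _ _
      commutes' := fun c => by
        rw [Algebra.algebraMap_eq_smul_one, Algebra.algebraMap_eq_smul_one, Matrix.smul_kronecker,
          Matrix.one_kronecker_one] }
  have hLi : Function.Injective L := fun A B hAB => by
    ext i j
    have := congrFun (congrFun hAB (i, Classical.arbitrary _)) (j, Classical.arbitrary (Fin n₂))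
    simpa [L, Matrix.kronecker_apply] using this
  have hrx : ∀ Y, rx e (cj k Y) = cj P⁻¹ (cj h (cj P (rx e Y))) := fun Y => by
    rw [← cj_rx, hkeq, cj_cj, cj_cj, mul_assoc]
  choose g hg using hnorm h hh
  have hgL : ∀ A, L (g A) = ((cjAlg k).toAlgHom.comp L) A := fun A => by
    apply (rx e).injective
    show rx e (L (g A)) = rx e (cj k (L A))
    rw [hrx]
    show _ = cj P⁻¹ (cj h (cj P (rx e (A ⊗ₖ 1))))
    rw [hg, cj_inv_cj]
    rfl
  obtain ⟨a, ha⟩ := skolem_noether
    { toFun := g
      map_one' := hLi (by rw [hgL, map_one, map_one])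
      map_mul' := fun X Y => hLi (by rw [hgL, map_mul, ← hgL, ← hgL, map_mul])
      map_zero' := hLi (by rw [hgL, map_zero, map_zero])
      map_add' := fun X Y => hLi (by rw [hgL, map_add, ← hgL, ← hgL, map_add])
      commutes' := fun c => hLi (by rw [hgL, AlgHom.commutes, AlgHom.commutes]) }
  let A : GL (Fin n₁ × Fin n₂) F := Units.map L.toRingHom.toMonoidHom a
  let d : GL (Fin n₁ × Fin n₂) F := A⁻¹ * k
  have hd : ∀ x y : Fin n₁,
      lu (F := F) n₂ x y * (d : Matrix (Fin n₁ × Fin n₂) (Fin n₁ × Fin n₂) F) =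
      (d : Matrix (Fin n₁ × Fin n₂) (Fin n₁ × Fin n₂) F) * lu (F := F) n₂ x y := by
    intro x y
    have : cj (A⁻¹ * k) (L (Matrix.single x y 1)) = L (Matrix.single x y 1) := by
      rw [← cj_cj, show cj k (L (Matrix.single x y 1)) = L (g (Matrix.single x y 1)) from (hgL _).symm]
      show cj A⁻¹ (L (g _)) = _
      rw [show g (Matrix.single x y 1) = cj a (Matrix.single x y 1) from ha _, ← cj_unitsMap]
      exact cj_inv_cj A _
    calc lu (F := F) n₂ x y * (d : Matrix _ _ F) = cj d (L (Matrix.single x y 1)) * (d : Matrix _ _ F) := by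
          rw [this]; rfl
      _ = _ := by rw [cj, mul_assoc, gl_inv_mul, mul_one]; rfl
  obtain ⟨B, hB⟩ := exists_right _ hd
  obtain ⟨B', hB'⟩ : ∃ B' : Matrix (Fin n₂) (Fin n₂) F,
      ((d⁻¹ : GL (Fin n₁ × Fin n₂) F) : Matrix (Fin n₁ × Fin n₂) (Fin n₁ × Fin n₂) F) =
        (1 : Matrix (Fin n₁) (Fin n₁) F) ⊗ₖ B' := by
    refine exists_right _ fun x y => ?_
    exact ((Commute.units_inv_left (hd x y).symm).eq).symm
  have hinv : ∀ X Y : Matrix (Fin n₂) (Fin n₂) F,
      ((1 : Matrix (Fin n₁) (Fin n₁) F) ⊗ₖ X) * ((1 : Matrix (Fin n₁) (Fin n₁) F) ⊗ₖ Y) = 1 → X * Y = 1 := by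
    intro X Y hXY
    refine kr_injective (κ := Fin n₁) ?_
    rw [map_mul, map_one]; exact hXY
  let b : GL (Fin n₂) F := ⟨B, B', hinv _ _ (by rw [← hB, ← hB', gl_mul_inv]),
    hinv _ _ (by rw [← hB, ← hB', gl_inv_mul])⟩
  refine ⟨a, b, ?_⟩
  calc (k : Matrix (Fin n₁ × Fin n₂) (Fin n₁ × Fin n₂) F)
      = (A : Matrix (Fin n₁ × Fin n₂) (Fin n₁ × Fin n₂) F) * (d : Matrix (Fin n₁ × Fin n₂) (Fin n₁ × Fin n₂) F) := by
        rw [← Units.val_mul, mul_inv_cancel_left]
    _ = _ := by
        rw [hB]
        show ((a : Matrix (Fin n₁) (Fin n₁) F) ⊗ₖ 1) * ((1 : Matrix (Fin n₁) (Fin n₁) F) ⊗ₖ B) = _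
        rw [← Matrix.mul_kronecker_mul, mul_one, one_mul]

end CfsgLib.Perm.Asch
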