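import Cfsg.Agent.Lib.Perm.Asch.Proper

/-!
# Members that are not maximal over small fields
-/

set_option autoImplicit false
set_option linter.all false

namespace CfsgLib.Perm.Asch

open scoped Classical Matrix Kronecker
open Matrix Cfsg.Geo

variable {F : Type*} [Field F]

/-- a field acting on a space has degree dividing the dimension -/
theorem finrank_dvd_of_field_action {L V : Type*} [Field L] [Algebra F L] [AddCommGroup V] [Module F V] (f : L →ₐ[F] Module.End F V) :
    Module.finrank F L ∣ Module.finrank F V := by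
  letI : Module L V := Module.compHom V f.toRingHom
  haveI : IsScalarTower F L V := ⟨fun c k v => by
    show f (c • k) v = c • f k v
    rw [map_smul]; rfl⟩
  exact Dvd.intro _ (Module.finrank_mul_finrank F L V)

/-- the degree of a field subalgebra divides the dimension -/
theorem fieldDegree_dvd {n r : ℕ} (hn : 0 < n) {K : Subalgebra F (Matrix (Fin n) (Fin n) F)}
    (hK : IsFieldSubalgebra r K) : r ∣ n := by
  haveI : Nonempty (Fin n) := ⟨⟨0, hn⟩⟩
  have hfield : IsField K :=
    { exists_pair_ne := ⟨0, 1, zero_ne_one⟩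
      mul_comm := fun a b => Subtype.ext (hK.comm _ a.2 _ b.2)
      mul_inv_cancel := fun {a} ha => by
        obtain ⟨y, hy, hxy⟩ := hK.inv _ a.2 (fun h => ha (Subtype.ext h))
        exact ⟨⟨y, hy⟩, Subtype.ext hxy⟩ }
  let f : K →ₐ[F] Module.End F (Fin n → F) :=
    (Matrix.toLinAlgEquiv' : Matrix (Fin n) (Fin n) F ≃ₐ[F] _).toAlgHom.comp K.val
  letI : Field K := hfield.toField
  have h := finrank_dvd_of_field_action (F := F) (L := K) f
  rw [hK.finrank_eq, Module.finrank_fin_fun] at h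
  exact h

/-! ### monomial groups -/

/-- a basis adapted to a decomposition into lines -/
theorem exists_monomial_basis {n : ℕ} {D : Fin n → Submodule F (Fin n → F)} (hD : IsMDecomposition 1 D) :
    ∃ B : GL (Fin n) F, ∀ g ∈ decompositionStabilizer D, ∃ (σ : Equiv.Perm (Fin n)) (c : Fin n → F),
      (∀ i, c i ≠ 0) ∧ (g : Matrix (Fin n) (Fin n) F) * (B : Matrix (Fin n) (Fin n) F) =
        (B : Matrix (Fin n) (Fin n) F) * Matrix.of fun j i => if j = σ i then c i else 0 := by
  have hb : ∀ i, ∃ b, b ∈ D i ∧ b ≠ 0 ∧ D i = Submodule.span F {b} := by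
    intro i
    obtain ⟨b, hb, hb0⟩ := Submodule.exists_mem_ne_zero_of_ne_bot (show D i ≠ ⊥ from fun h => by
      have := hD.finrank_eq i
      rw [h, finrank_bot] at this
      exact absurd this.symm one_ne_zero)
    refine ⟨b, hb, hb0, (Submodule.eq_of_le_of_finrank_eq ?_ ?_).symm⟩
    · rw [Submodule.span_le, Set.singleton_subset_iff]; exact hb
    · rw [finrank_span_singleton hb0, hD.finrank_eq]
  choose b hbm hb0 hbs using hb
  have hind : LinearIndependent F b := hD.indep.linearIndependent _ hbm hb0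
  let M : Matrix (Fin n) (Fin n) F := Matrix.of fun j i => b i j
  have hM : IsUnit M := by
    have h1 : IsUnit Mᵀ := Matrix.linearIndependent_rows_iff_isUnit.1 hind
    rw [Matrix.isUnit_iff_isUnit_det] at h1 ⊢
    rwa [Matrix.det_transpose] at h1
  obtain ⟨B, hB⟩ := hM
  refine ⟨B, fun g hg => ?_⟩
  obtain ⟨σ, hσ⟩ := hg
  have hc : ∀ i, ∃ c : F, c ≠ 0 ∧ (g : Matrix (Fin n) (Fin n) F) *ᵥ b i = c • b (σ i) := by
    intro i
    have : (g : Matrix (Fin n) (Fin n) F) *ᵥ b i ∈ D (σ i) := (hσ i).le ⟨b i, hbm i, rfl⟩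
    rw [hbs (σ i)] at this
    obtain ⟨c, hc⟩ := Submodule.mem_span_singleton.1 this
    refine ⟨c, ?_, hc.symm⟩
    rintro rfl
    rw [zero_smul] at hc
    refine hb0 i ?_
    have := congrArg ((((g⁻¹ : GL (Fin n) F)) : Matrix (Fin n) (Fin n) F) *ᵥ ·) hc.symm
    simpa [mulVec_mulVec, gl_inv_mul] using this
  choose c hc0 hc using hc
  refine ⟨σ, c, hc0, ?_⟩
  rw [hB]
  ext j i
  have h1 : ((g : Matrix (Fin n) (Fin n) F) * M) j i = ((g : Matrix (Fin n) (Fin n) F) *ᵥ b i) j := rfl
  rw [h1, hc, Matrix.mul_apply, Finset.sum_eq_single (σ i)]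
  · simp [M, mul_comm]
  · intro l _ hl; simp [hl]
  · simp

variable [Fintype F] {n : ℕ} {H : Subgroup (GL (Fin n) F)}

theorem exists_line_of_monomial_two (hq : Fintype.card F = 2) (hn : 2 ≤ n)
    {D : Fin n → Submodule F (Fin n → F)} (hD : IsMDecomposition 1 D) (h : H ≤ decompositionStabilizer D) :
    ∃ W : Submodule F (Fin n → F), W ≠ ⊥ ∧ W ≠ ⊤ ∧ H ≤ subspaceStabilizer W := by
  obtain ⟨B, hB⟩ := exists_monomial_basis hD
  set v := (B : Matrix (Fin n) (Fin n) F) *ᵥ (fun _ => (1 : F)) with hv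
  have hv0 : v ≠ 0 := fun h0 => by
    have := congrArg ((((B⁻¹ : GL (Fin n) F)) : Matrix (Fin n) (Fin n) F) *ᵥ ·) h0
    simp only [hv, mulVec_mulVec, gl_inv_mul, one_mulVec, mulVec_zero] at this
    exact one_ne_zero (congrFun this ⟨0, by omega⟩)
  refine ⟨Submodule.span F {v}, by simpa using hv0, fun h1 => ?_, subspaceStabilizer_mem fun g hg w hw => ?_⟩
  · have := finrank_span_singleton (K := F) hv0
    rw [h1, finrank_top, Module.finrank_fin_fun] at this
    omega
  · obtain ⟨a, rfl⟩ := Submodule.mem_span_singleton.1 hw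
    obtain ⟨σ, c, hc, hg'⟩ := hB g (h hg)
    rw [mulVec_smul]
    refine Submodule.smul_mem _ _ (Submodule.mem_span_singleton.2 ⟨1, ?_⟩)
    rw [one_smul, hv, mulVec_mulVec, hg', ← mulVec_mulVec]
    congr 1
    funext j
    simp only [mulVec, dotProduct, Matrix.of_apply, mul_one]
    rw [Finset.sum_eq_single (σ.symm j)]
    · rw [Equiv.apply_symm_apply, if_pos rfl]
      have h2 : c (σ.symm j) ^ (Fintype.card F - 1) = 1 := FiniteField.pow_card_sub_one_eq_one _ (hc _)
      simpa [hq] using h2.symm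
    · intro l _ hl
      rw [if_neg]
      rintro rfl
      exact hl (σ.symm_apply_apply l).symm
    · simp

/-- monomial matrices are similarities of the standard form when the squares of the entries agree -/
theorem monomial_gram {σ : F →+* F} {π : Equiv.Perm (Fin n)} {c : Fin n → F} {a : F}
    (hc : ∀ i, c i * σ (c i) = a) :
    (Matrix.of fun j i => if j = π i then c i else 0)ᵀ *
      (Matrix.of fun j i => if j = π i then c i else 0 : Matrix (Fin n) (Fin n) F).map σ = a • 1 := by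
  ext i k
  simp only [Matrix.mul_apply, Matrix.transpose_apply, Matrix.map_apply, Matrix.of_apply, Matrix.smul_apply,
    Matrix.one_apply, smul_eq_mul]
  rw [Finset.sum_eq_single (π i)]
  · by_cases hik : i = k
    · subst hik; simp [hc]
    · simp [hik]
  · intro l _ hl; simp [hl]
  · simp

theorem similarity_of_monomial {σ : F →+* F} {B : GL (Fin n) F} {g : GL (Fin n) F}
    {π : Equiv.Perm (Fin n)} {c : Fin n → F} {a : F} (ha : a ≠ 0) (hc : ∀ i, c i * σ (c i) = a)
    (hg : (g : Matrix (Fin n) (Fin n) F) * (B : Matrix (Fin n) (Fin n) F) =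
        (B : Matrix (Fin n) (Fin n) F) * Matrix.of fun j i => if j = π i then c i else 0) :
    g ∈ similarityGroup (gform σ (((B⁻¹ : GL (Fin n) F) : Matrix (Fin n) (Fin n) F)ᵀ *
      ((B⁻¹ : GL (Fin n) F) : Matrix (Fin n) (Fin n) F).map σ)) := by
  refine ⟨Units.mk0 a ha, fun u v => ?_⟩
  set M : Matrix (Fin n) (Fin n) F := Matrix.of fun j i => if j = π i then c i else 0
  set Bi := ((B⁻¹ : GL (Fin n) F) : Matrix (Fin n) (Fin n) F)
  have hBg : Bi * (g : Matrix (Fin n) (Fin n) F) = M * Bi := by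
    calc Bi * (g : Matrix (Fin n) (Fin n) F)
        = Bi * ((g : Matrix (Fin n) (Fin n) F) * (B : Matrix (Fin n) (Fin n) F)) * Bi := by
          rw [mul_assoc Bi, mul_assoc (g : Matrix (Fin n) (Fin n) F), gl_mul_inv, mul_one]
      _ = _ := by rw [hg, ← mul_assoc Bi, gl_inv_mul, one_mul]
  have key : (g : Matrix (Fin n) (Fin n) F)ᵀ * (Biᵀ * Bi.map σ) * (g : Matrix (Fin n) (Fin n) F).map σ =
      a • (Biᵀ * Bi.map σ) := by
    have : (g : Matrix (Fin n) (Fin n) F)ᵀ * (Biᵀ * Bi.map σ) * (g : Matrix (Fin n) (Fin n) F).map σ =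
        Biᵀ * (Mᵀ * M.map σ) * Bi.map σ := by
      calc _ = (Bi * (g : Matrix (Fin n) (Fin n) F))ᵀ * (Bi * (g : Matrix (Fin n) (Fin n) F)).map σ := by
            rw [Matrix.transpose_mul, Matrix.map_mul, mul_assoc, mul_assoc, mul_assoc]
        _ = _ := by rw [hBg, Matrix.transpose_mul, Matrix.map_mul, mul_assoc, mul_assoc, mul_assoc]
    rw [this, monomial_gram hc, mul_smul_comm, mul_one, smul_mul_assoc]
  rw [gform_mulVec, key]
  simp [gform, Matrix.smul_mulVec, dotProduct_smul]

theorem standard_gram_det_ne_zero {σ : F →+* F} (B : GL (Fin n) F) :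
    (((B⁻¹ : GL (Fin n) F) : Matrix (Fin n) (Fin n) F)ᵀ *
      ((B⁻¹ : GL (Fin n) F) : Matrix (Fin n) (Fin n) F).map σ).det ≠ 0 := by
  have h : (((B⁻¹ : GL (Fin n) F) : Matrix (Fin n) (Fin n) F)).det ≠ 0 :=
    ((Matrix.isUnit_iff_isUnit_det _).1 (Units.isUnit _)).ne_zero
  rw [Matrix.det_mul, Matrix.det_transpose, ← RingHom.mapMatrix_apply, ← RingHom.map_det]
  exact mul_ne_zero h ((map_ne_zero σ).2 h)

theorem exists_quad_of_monomial_three (hq : Fintype.card F = 3)
    {D : Fin n → Submodule F (Fin n → F)} (hD : IsMDecomposition 1 D) (h : H ≤ decompositionStabilizer D) :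
    ∃ Q : (Fin n → F) → F, IsNondegenerateQuadraticForm Q ∧ H ≤ quadSimilarityGroup Q := by
  obtain ⟨B, hB⟩ := exists_monomial_basis hD
  have hodd : Odd (Fintype.card F) := by rw [hq]; decide
  set Bi := ((B⁻¹ : GL (Fin n) F) : Matrix (Fin n) (Fin n) F)
  set G := Biᵀ * Bi.map (RingHom.id F) with hG
  set f := gform (RingHom.id F) G with hf
  have hGt : Gᵀ = G := by
    simp only [hG, RingHom.coe_id, Matrix.map_id, Matrix.transpose_mul, Matrix.transpose_transpose]
  have hsym : ∀ a b, f b a = f a b := fun a b => by rw [hf, gform_swap, hGt]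
  have hpol : QuadraticMap.polar (fun v => f v v) = fun a b => 2 * f a b := by
    funext a b
    simp only [QuadraticMap.polar, hf, gform_add_left, gform_add_right]
    rw [show gform (RingHom.id F) G b a = gform (RingHom.id F) G a b from hsym a b]
    ring
  refine ⟨fun v => f v v, ⟨fun a v => ?_, ?_, ?_⟩, fun g hg => ?_⟩
  · show f (a • v) (a • v) = a ^ 2 * f v v
    simp only [hf, gform_smul_left, gform_smul_right, RingHom.id_apply]; ring
  · rw [hpol]
    exact ⟨fun x y v => by simp only [hf, gform_add_left]; ring,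
      fun a x v => by simp only [hf, gform_smul_left]; ring,
      fun v x y => by simp only [hf, gform_add_right]; ring,
      fun a v x => by simp only [hf, gform_smul_right, RingHom.id_apply]; ring⟩
  · rw [hpol]
    intro v hv
    obtain ⟨⟨x, hx⟩, ⟨y, hy⟩⟩ := gform_nondegenerate (σ := RingHom.id F) (standard_gram_det_ne_zero B) v hv
    exact ⟨⟨x, mul_ne_zero (two_ne_zero_of_odd hodd) hx⟩, ⟨y, mul_ne_zero (two_ne_zero_of_odd hodd) hy⟩⟩
  · obtain ⟨π, c, hc, hg'⟩ := hB g (h hg)
    obtain ⟨a, ha⟩ := similarity_of_monomial (σ := RingHom.id F) one_ne_zero (fun i => by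
      have h2 : c i ^ (Fintype.card F - 1) = 1 := FiniteField.pow_card_sub_one_eq_one _ (hc _)
      simpa [hq, pow_two] using h2) hg'
    exact ⟨a, fun v => ha v v⟩

theorem exists_unitary_of_monomial_four (hq : Fintype.card F = 4)
    {D : Fin n → Submodule F (Fin n → F)} (hD : IsMDecomposition 1 D) (h : H ≤ decompositionStabilizer D) :
    ∃ (σ : F ≃+* F) (f : (Fin n → F) → (Fin n → F) → F), IsUnitaryForm σ f ∧ H ≤ similarityGroup f := by
  obtain ⟨B, hB⟩ := exists_monomial_basis hD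
  haveI : Fact (Nat.Prime 2) := ⟨Nat.prime_two⟩
  haveI : CharP F 2 := by
    obtain ⟨p, hp⟩ := CharP.exists F
    obtain ⟨e, hpp, he⟩ := FiniteField.card F p
    rw [hq] at he
    have : p ∣ 2 ^ 2 := by rw [show (2 : ℕ) ^ 2 = 4 from rfl, he]; exact dvd_pow_self p e.ne_zero
    have h2 := (Nat.prime_dvd_prime_iff_eq hpp Nat.prime_two).1 (hpp.dvd_of_dvd_pow this)
    exact h2 ▸ hp
  let σ : F ≃+* F := frobeniusEquiv F 2
  have hσ : ∀ x, σ x = x ^ 2 := fun x => frobeniusEquiv_def ..
  have hσ2 : ∀ x, σ (σ x) = x := fun x => by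
    rw [hσ, hσ, ← pow_mul, show 2 * 2 = Fintype.card F from hq.symm]; exact FiniteField.pow_card x
  have hne : σ ≠ RingEquiv.refl F := by
    intro h'
    obtain ⟨g, hg⟩ := IsCyclic.exists_ofOrder_eq_natCard (α := Fˣ)
    rw [Nat.card_units, Nat.card_eq_fintype_card, hq] at hg
    have h1 : (g : F) ^ 2 = g := by rw [← hσ, h']; rfl
    have h2 : g = 1 := mul_right_cancel (b := g) (by
      rw [one_mul, ← pow_two]; exact Units.ext (by rw [Units.val_pow_eq_pow_val]; exact h1))
    rw [h2, orderOf_one] at hg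
    omega
  set Bi := ((B⁻¹ : GL (Fin n) F) : Matrix (Fin n) (Fin n) F)
  set G := Biᵀ * Bi.map σ.toRingHom with hG
  refine ⟨σ, gform σ.toRingHom G, ⟨hne, hσ2, gform_add_left _ _, gform_smul_left _ _, ?_,
    gform_nondegenerate (standard_gram_det_ne_zero B)⟩, fun g hg => ?_⟩
  · intro v w
    have hherm : ∀ i j, σ.toRingHom (G j i) = G i j := by
      intro i j
      simp only [hG, Matrix.mul_apply, map_sum, map_mul, Matrix.transpose_apply, Matrix.map_apply,
        RingEquiv.toRingHom_eq_coe, RingHom.coe_coe, hσ2]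
      exact Finset.sum_congr rfl fun _ _ => mul_comm _ _
    show gform σ.toRingHom G v w = σ.toRingHom (gform σ.toRingHom G w v)
    simp only [gform, dotProduct, Matrix.mulVec, Function.comp_apply, Finset.mul_sum, map_sum, map_mul, hherm]
    simp only [RingEquiv.toRingHom_eq_coe, RingHom.coe_coe, hσ2]
    rw [Finset.sum_comm]
    exact Finset.sum_congr rfl fun i _ => Finset.sum_congr rfl fun j _ => by ring
  · obtain ⟨π, c, hc, hg'⟩ := hB g (h hg)
    exact similarity_of_monomial (σ := σ.toRingHom) one_ne_zero (fun i => by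
      have h2 : c i ^ (Fintype.card F - 1) = 1 := FiniteField.pow_card_sub_one_eq_one _ (hc _)
      rw [hq] at h2
      show c i * σ (c i) = 1
      rw [hσ, ← pow_succ']
      exact h2) hg'

/-! ### decompositions into planes -/

theorem exists_symplectic_of_planes (hn : 4 ≤ n) {t : ℕ} {D : Fin t → Submodule F (Fin n → F)}
    (hD : IsMDecomposition 2 D) (h : H ≤ decompositionStabilizer D)
    (hq : Fintype.card F = 2 ∨ (Fintype.card F = 3 ∧ t = 2 ∧ H ≤ specialLinear (Fin n) F)) :
    ∃ f : (Fin n → F) → (Fin n → F) → F, IsSymplecticForm f ∧ H ≤ similarityGroup f := by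
  -- an adapted basis
  let bs : (i : Fin t) → Module.Basis (Fin 2) F (D i) := fun i =>
    (Module.finBasisOfFinrankEq F (D i) (hD.finrank_eq i))
  have hint : DirectSum.IsInternal D :=
    DirectSum.isInternal_submodule_of_iSupIndep_of_iSup_eq_top hD.indep hD.iSup_eq_top
  let b := (hint.collectedBasis bs).reindex (Equiv.sigmaEquivProd (Fin t) (Fin 2))
  have hbmem : ∀ i j, b (i, j) ∈ D i := fun i j => by
    simp only [b, Module.Basis.reindex_apply, Equiv.sigmaEquivProd_symm_apply]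
    exact hint.collectedBasis_mem bs ⟨i, j⟩
  let e : Fin n ≃ Fin t × Fin 2 := (Pi.basisFun F (Fin n)).indexEquiv b
  let Pm : Matrix (Fin n) (Fin n) F := Matrix.of fun i k => b (e k) i
  have hPm : IsUnit Pm := by
    letI := (Pi.basisFun F (Fin n)).invertibleToMatrix (b.reindex e.symm)
    have : Pm = (Pi.basisFun F (Fin n)).toMatrix (b.reindex e.symm) := by
      ext i k
      simp [Pm, Module.Basis.toMatrix_apply]
    rw [this]
    exact isUnit_of_invertible _
  obtain ⟨P, hP⟩ := hPm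
  set J0 : Matrix (Fin t × Fin 2) (Fin t × Fin 2) F := (1 : Matrix (Fin t) (Fin t) F) ⊗ₖ J2 F with hJ0
  set Pi' := ((P⁻¹ : GL (Fin n) F) : Matrix (Fin n) (Fin n) F)
  set G := Pi'ᵀ * rx e J0 * Pi' with hG
  have hJJ : J0 * ((1 : Matrix (Fin t) (Fin t) F) ⊗ₖ (-(J2 F))) = 1 := by
    rw [hJ0, ← Matrix.mul_kronecker_mul, one_mul]
    have : J2 F * -(J2 F) = 1 := by ext a c; fin_cases a <;> fin_cases c <;> simp [J2]
    rw [this, Matrix.one_kronecker_one]
  have hdet : G.det ≠ 0 := by
    have h1 : IsUnit (rx e J0) := IsUnit.map _ ⟨⟨J0, _, hJJ, mul_eq_one_comm.1 hJJ⟩, rfl⟩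
    have h2 : IsUnit Pi' := Units.isUnit _
    have h3 : IsUnit Pi'ᵀ := by
      rw [Matrix.isUnit_iff_isUnit_det, Matrix.det_transpose, ← Matrix.isUnit_iff_isUnit_det]; exact h2
    exact ((Matrix.isUnit_iff_isUnit_det _).1 ((h3.mul h1).mul h2)).ne_zero
  have hJt : J0ᵀ = -J0 := by
    ext ⟨a, c⟩ ⟨a', c'⟩
    simp only [hJ0, Matrix.transpose_apply, Matrix.neg_apply, Matrix.kronecker_apply, Matrix.one_apply]
    fin_cases c <;> fin_cases c' <;> by_cases h' : a = a' <;> simp [J2, h', Ne.symm]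
  refine ⟨gform (RingHom.id F) G, ⟨gform_bilinear G, fun v w => ?_, fun v => ?_, gform_nondegenerate hdet⟩,
    fun g hg => ?_⟩
  · have hGt : Gᵀ = -G := by
      have hrt : (rx e J0)ᵀ = rx e J0ᵀ := rfl
      rw [hG, Matrix.transpose_mul, Matrix.transpose_mul, Matrix.transpose_transpose, hrt, hJt, map_neg,
        mul_assoc]
      simp
    rw [gform_swap, hGt]
    simp [gform, Matrix.neg_mulVec]
  · have hh : gform (RingHom.id F) G v v = gform (RingHom.id F) (rx e J0) (Pi' *ᵥ v) (Pi' *ᵥ v) := by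
      rw [gform_mulVec, hG]
      simp only [RingHom.coe_id, Matrix.map_id]
    rw [hh]
    refine gform_self_eq_zero ?_ (fun i => ?_) _
    · show rx e J0ᵀ = _
      rw [hJt, map_neg]
    · rw [rx_apply, hJ0, Matrix.kronecker_apply]
      generalize (e i).2 = z
      fin_cases z <;> simp [J2]
  -- the block matrix of `g`
  obtain ⟨σ, hσ⟩ := h hg
  have hblock : ∀ x : Fin t × Fin 2, ∃ A : Fin 2 → F,
      (g : Matrix (Fin n) (Fin n) F) *ᵥ b x = ∑ a, A a • b (σ x.1, a) := by
    intro x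
    have hm : (g : Matrix (Fin n) (Fin n) F) *ᵥ b x ∈ D (σ x.1) := (hσ x.1).le ⟨b x, hbmem x.1 x.2, rfl⟩
    refine ⟨fun a => (bs (σ x.1)).repr ⟨_, hm⟩ a, ?_⟩
    have h1 := congrArg Subtype.val ((bs (σ x.1)).sum_repr ⟨_, hm⟩)
    simp only [Submodule.coe_sum, Submodule.coe_smul] at h1
    refine h1.symm.trans (Finset.sum_congr rfl fun a _ => ?_)
    simp only [b, Module.Basis.reindex_apply, Equiv.sigmaEquivProd_symm_apply, DirectSum.IsInternal.collectedBasis_coe]
  choose A hA using hblock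
  let blk : Fin t → Matrix (Fin 2) (Fin 2) F := fun i => Matrix.of fun a j => A (i, j) a
  let M : Matrix (Fin t × Fin 2) (Fin t × Fin 2) F :=
    Matrix.of fun y x => if y.1 = σ x.1 then blk x.1 y.2 x.2 else 0
  have hgP : (g : Matrix (Fin n) (Fin n) F) * (P : Matrix (Fin n) (Fin n) F) =
      (P : Matrix (Fin n) (Fin n) F) * rx e M := by
    rw [hP]
    ext i k
    have h1 : ((g : Matrix (Fin n) (Fin n) F) * Pm) i k = ((g : Matrix (Fin n) (Fin n) F) *ᵥ b (e k)) i := rfl
    rw [h1, hA, Matrix.mul_apply]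
    simp only [rx_apply, Pm, Matrix.of_apply]
    rw [e.sum_comp (fun y => b y i * M y (e k)), Fintype.sum_prod_type, Finset.sum_eq_single (σ (e k).1)]
    · simp [M, blk, mul_comm]
    · intro l _ hl; simp [M, hl]
    · simp
  have hMM : Mᵀ * J0 * M = Matrix.of fun x y => if x.1 = y.1 then (blk x.1).det * J2 F x.2 y.2 else 0 := by
    ext ⟨i, a⟩ ⟨k, c⟩
    simp only [Matrix.mul_apply, Matrix.of_apply, Fintype.sum_prod_type, Matrix.transpose_apply, M, hJ0,
      Matrix.kronecker_apply, Matrix.one_apply]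
    have hJ : ∀ p q, ((blk i)ᵀ * J2 F * blk i) p q = (blk i).det * J2 F p q := fun p q => by
      rw [J2_congr]; rfl
    rw [Finset.sum_eq_single (σ k)]
    · by_cases hik : i = k
      · subst hik
        rw [if_pos rfl, ← hJ a c]
        simp only [Matrix.mul_apply, Matrix.transpose_apply, if_true]
        refine Finset.sum_congr rfl fun x _ => ?_
        congr 1
        rw [Finset.sum_eq_single (σ i)]
        · simp
        · intro l _ hl; simp [hl]
        · simp
      · rw [if_neg hik]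
        refine Finset.sum_eq_zero fun x _ => ?_
        rw [Finset.sum_eq_single (σ i)]
        · simp [σ.injective.ne hik]
        · intro l _ hl; simp [hl]
        · simp
    · intro l _ hl; simp [hl]
    · simp
  obtain ⟨c, hc⟩ : ∃ c : F, ∀ i, (blk i).det = c := by
    have hMdet : M.det ≠ 0 := by
      have h1 : ((g : Matrix (Fin n) (Fin n) F) * (P : Matrix (Fin n) (Fin n) F)).det ≠ 0 :=
        ((Matrix.isUnit_iff_isUnit_det _).1 (g * P).isUnit).ne_zero
      rw [hgP, Matrix.det_mul] at h1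
      have h2 : (rx e M).det = M.det := Matrix.det_reindex_self _ _
      rw [h2] at h1
      exact right_ne_zero_of_mul h1
    have hne : ∀ i, (blk i).det ≠ 0 := by
      intro i h0
      have hJM : (Mᵀ * J0 * M).det ≠ 0 := by
        have h1 : IsUnit J0 := ⟨⟨J0, _, hJJ, mul_eq_one_comm.1 hJJ⟩, rfl⟩
        rw [Matrix.det_mul, Matrix.det_mul, Matrix.det_transpose]
        exact mul_ne_zero (mul_ne_zero hMdet ((Matrix.isUnit_iff_isUnit_det _).1 h1).ne_zero) hMdet
      refine hJM (Matrix.det_eq_zero_of_row_eq_zero (i, 0) fun y => ?_)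
      rw [hMM, Matrix.of_apply]
      split_ifs <;> simp [h0]
    rcases hq with hq | ⟨hq, ht, hSL⟩
    · refine ⟨1, fun i => ?_⟩
      have h2 : (blk i).det ^ (Fintype.card F - 1) = 1 := FiniteField.pow_card_sub_one_eq_one _ (hne i)
      simpa [hq] using h2
    · subst ht
      have hd1 : M.det = 1 := by
        have h1 : ((g : Matrix (Fin n) (Fin n) F) * (P : Matrix (Fin n) (Fin n) F)).det =
            ((P : Matrix (Fin n) (Fin n) F) * rx e M).det := by rw [hgP]
        have h3 : (g : Matrix (Fin n) (Fin n) F).det = 1 := congrArg Units.val (hSL hg)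
        have h2 : (rx e M).det = M.det := Matrix.det_reindex_self _ _
        rw [Matrix.det_mul, Matrix.det_mul, h3, h2, one_mul] at h1
        exact (mul_left_cancel₀ ((Matrix.isUnit_iff_isUnit_det _).1 P.isUnit).ne_zero
          (h1.symm.trans (mul_one _).symm))
      have hd : M.det = (blk 0).det * (blk 1).det := by
        rw [← Matrix.det_reindex_self (finProdFinEquiv : Fin 2 × Fin 2 ≃ Fin 4)]
        have hperm : ∀ τ : Equiv.Perm (Fin 2), τ = 1 ∨ τ = Equiv.swap 0 1 := by decide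
        rcases hperm σ with hs | hs <;>
        · simp [Matrix.det_succ_row_zero, Fin.sum_univ_succ, Matrix.reindex_apply, Matrix.submatrix_apply, M,
            finProdFinEquiv, Fin.divNat, Fin.modNat, hs, Fin.succAbove, Matrix.det_fin_two]
          ring
      refine ⟨(blk 0).det, fun i => ?_⟩
      fin_cases i
      · rfl
      · have h2 : (blk 0).det ^ (Fintype.card F - 1) = 1 := FiniteField.pow_card_sub_one_eq_one _ (hne 0)
        rw [hq] at h2
        calc (blk 1).det = (blk 0).det ^ 2 * (blk 1).det := by rw [h2, one_mul]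
          _ = (blk 0).det * ((blk 0).det * (blk 1).det) := by ring
          _ = (blk 0).det := by rw [← hd, hd1, mul_one]
  have hc0 : c ≠ 0 := by
    intro h0
    have hi : 0 < t := by have := hD.two_le; omega
    have hM0 : Mᵀ * J0 * M = 0 := by
      rw [hMM]; ext x y; simp [hc, h0]
    have h1 : ((g : Matrix (Fin n) (Fin n) F) * (P : Matrix (Fin n) (Fin n) F)).det ≠ 0 :=
      ((Matrix.isUnit_iff_isUnit_det _).1 (g * P).isUnit).ne_zero
    rw [hgP, Matrix.det_mul, show (rx e M).det = M.det from Matrix.det_reindex_self _ _] at h1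
    have h2 := congrArg Matrix.det hM0
    haveI : Nonempty (Fin t × Fin 2) := ⟨(⟨0, hi⟩, 0)⟩
    rw [Matrix.det_zero, Matrix.det_mul, Matrix.det_mul, Matrix.det_transpose] at h2
    have hu : IsUnit J0 := ⟨⟨J0, _, hJJ, mul_eq_one_comm.1 hJJ⟩, rfl⟩
    rcases mul_eq_zero.1 h2 with h3 | h3
    · exact mul_ne_zero (right_ne_zero_of_mul h1) ((Matrix.isUnit_iff_isUnit_det _).1 hu).ne_zero h3
    · exact right_ne_zero_of_mul h1 h3
  refine ⟨Units.mk0 c hc0, fun u v => ?_⟩
  have hMc : Mᵀ * J0 * M = c • J0 := by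
    rw [hMM]
    ext ⟨i, a⟩ ⟨k, d⟩
    simp only [Matrix.of_apply, Matrix.smul_apply, hJ0, Matrix.kronecker_apply, Matrix.one_apply, hc, smul_eq_mul]
    by_cases hik : i = k <;> simp [hik]
  have hPg : Pi' * (g : Matrix (Fin n) (Fin n) F) = rx e M * Pi' := by
    calc Pi' * (g : Matrix (Fin n) (Fin n) F)
        = Pi' * ((g : Matrix (Fin n) (Fin n) F) * (P : Matrix (Fin n) (Fin n) F)) * Pi' := by
          rw [mul_assoc Pi', mul_assoc (g : Matrix (Fin n) (Fin n) F), gl_mul_inv, mul_one]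
      _ = _ := by rw [hgP, ← mul_assoc Pi', gl_inv_mul, one_mul]
  have key : (g : Matrix (Fin n) (Fin n) F)ᵀ * G * (g : Matrix (Fin n) (Fin n) F) = c • G := by
    have hrt : (rx e M)ᵀ = rx e Mᵀ := rfl
    calc (g : Matrix (Fin n) (Fin n) F)ᵀ * G * (g : Matrix (Fin n) (Fin n) F)
        = (Pi' * (g : Matrix (Fin n) (Fin n) F))ᵀ * rx e J0 * (Pi' * (g : Matrix (Fin n) (Fin n) F)) := by
          rw [hG, Matrix.transpose_mul]; simp only [mul_assoc]
      _ = Pi'ᵀ * ((rx e M)ᵀ * rx e J0 * rx e M) * Pi' := by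
          rw [hPg, Matrix.transpose_mul]; simp only [mul_assoc]
      _ = _ := by rw [hrt, ← map_mul, ← map_mul, hMc, map_smul, mul_smul_comm, smul_mul_assoc]
  rw [gform_mulVec, RingHom.coe_id, Matrix.map_id, key]
  simp [gform, Matrix.smul_mulVec, dotProduct_smul]

/-- the generator of the field of order four -/
def W2 (F : Type*) [Field F] : Matrix (Fin 2) (Fin 2) F := !![1, 1; 1, 0]

theorem conj_W2 (hq : Fintype.card F = 2) (A : GL (Fin 2) F) :
    ∃ c d : F, cj A (W2 F) = c • 1 + d • W2 F := by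
  have h01 : ∀ x : F, x = 0 ∨ x = 1 := by
    intro x
    rcases eq_or_ne x 0 with h0 | h0
    · exact Or.inl h0
    · right
      have := FiniteField.pow_card_sub_one_eq_one x h0
      simpa [hq] using this
  have h2 : (2 : F) = 0 := by
    have := FiniteField.cast_card_eq_zero F
    simpa [hq] using this
  have h11' : (1 : F) + 1 = 0 := one_add_one_eq_two.trans h2
  set M := (A : Matrix (Fin 2) (Fin 2) F) with hM
  have hdet : M.det ≠ 0 := ((Matrix.isUnit_iff_isUnit_det _).1 A.isUnit).ne_zero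
  obtain ⟨c, d, hcd⟩ : ∃ c d : F, M * W2 F = (c • 1 + d • W2 F) * M := by
    rw [Matrix.det_fin_two] at hdet
    rcases h01 (M 0 0) with h00 | h00 <;> rcases h01 (M 0 1) with h01' | h01' <;>
      rcases h01 (M 1 0) with h10 | h10 <;> rcases h01 (M 1 1) with h11 | h11 <;>
      simp only [h00, h01', h10, h11, mul_zero, mul_one, sub_zero, sub_self, ne_eq, not_true] at hdet <;>
      first
        | (refine ⟨0, 1, ?_⟩
           ext i j
           fin_cases i <;> fin_cases j <;>
             simp [W2, Matrix.mul_apply, Fin.sum_univ_two, h00, h01', h10, h11, h11']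
           done)
        | (refine ⟨1, 1, ?_⟩
           ext i j
           fin_cases i <;> fin_cases j <;>
             simp [W2, Matrix.mul_apply, Fin.sum_univ_two, h00, h01', h10, h11, h11']
           done)
  exact ⟨c, d, by rw [cj, ← hM, hcd, mul_assoc, hM, gl_mul_inv, mul_one]⟩

theorem cj_left_factor {n₂ : ℕ} (e : Fin n ≃ Fin 2 × Fin n₂) (P : GL (Fin n) F) (l : GL (Fin 2 × Fin n₂) F)
    (A : GL (Fin 2) F) (B : GL (Fin n₂) F)
    (hl : (l : Matrix (Fin 2 × Fin n₂) (Fin 2 × Fin n₂) F) =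
      (A : Matrix (Fin 2) (Fin 2) F) ⊗ₖ (B : Matrix (Fin n₂) (Fin n₂) F)) (X : Matrix (Fin 2) (Fin 2) F) :
    cj (P * glReindex e.symm l * P⁻¹) (cj P (rx e (X ⊗ₖ (1 : Matrix (Fin n₂) (Fin n₂) F)))) =
      cj P (rx e (cj A X ⊗ₖ (1 : Matrix (Fin n₂) (Fin n₂) F))) := by
  have hli : ((l⁻¹ : GL (Fin 2 × Fin n₂) F) : Matrix (Fin 2 × Fin n₂) (Fin 2 × Fin n₂) F) =
      ((A⁻¹ : GL (Fin 2) F) : Matrix (Fin 2) (Fin 2) F) ⊗ₖ ((B⁻¹ : GL (Fin n₂) F) : Matrix (Fin n₂) (Fin n₂) F) := by
    refine left_inv_eq_right_inv (gl_inv_mul l) ?_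
    rw [hl, ← Matrix.mul_kronecker_mul, gl_mul_inv, gl_mul_inv, Matrix.one_kronecker_one]
  rw [cj_cj, inv_mul_cancel_right, ← cj_cj,
    show glReindex e.symm l = Units.map (rx e).toAlgHom.toRingHom.toMonoidHom l from rfl, cj_rx]
  congr 2
  rw [cj, cj, hli, hl, ← Matrix.mul_kronecker_mul, ← Matrix.mul_kronecker_mul, mul_one, gl_mul_inv]

/-! ### `GL₂(2) ⊗ GL` normalises a field of order four -/

theorem exists_field_of_tensor_two (hq : Fintype.card F = 2) {n₂ : ℕ} (hn₂ : 0 < n₂) (e : Fin n ≃ Fin 2 × Fin n₂)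
    (P : GL (Fin n) F) (h : H ≤ tensorProductSubgroup 2 n₂ e P) :
    ∃ K : Subalgebra F (Matrix (Fin n) (Fin n) F), IsFieldSubalgebra 2 K ∧ H ≤ subalgebraNormalizer K := by
  haveI : Nonempty (Fin n) := ⟨e.symm (0, ⟨0, hn₂⟩)⟩
  have h01 : ∀ x : F, x = 0 ∨ x = 1 := by
    intro x
    rcases eq_or_ne x 0 with h0 | h0
    · exact Or.inl h0
    · right
      have := FiniteField.pow_card_sub_one_eq_one x h0
      simpa [hq] using this
  have h2 : (2 : F) = 0 := by
    have := FiniteField.cast_card_eq_zero F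
    simpa [hq] using this
  let W : Matrix (Fin 2) (Fin 2) F := W2 F
  let L : Matrix (Fin 2) (Fin 2) F →ₐ[F] Matrix (Fin n) (Fin n) F :=
    (cjAlg P).toAlgHom.comp ((rx e).toAlgHom.comp
      { toFun := fun A => A ⊗ₖ (1 : Matrix (Fin n₂) (Fin n₂) F)
        map_one' := Matrix.one_kronecker_one
        map_mul' := fun A B => by rw [← Matrix.mul_kronecker_mul, one_mul]
        map_zero' := Matrix.zero_kronecker _
        map_add' := fun A B => Matrix.add_kronecker _ _ _
        commutes' := fun c => by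
          rw [Algebra.algebraMap_eq_smul_one, Algebra.algebraMap_eq_smul_one, Matrix.smul_kronecker,
            Matrix.one_kronecker_one] })
  have hLi : Function.Injective L := fun A B hAB => by
    have h' : A ⊗ₖ (1 : Matrix (Fin n₂) (Fin n₂) F) = B ⊗ₖ 1 := (rx e).injective (cj_injective P hAB)
    ext i j
    have := congrFun (congrFun h' (i, ⟨0, hn₂⟩)) (j, ⟨0, hn₂⟩)
    simpa [Matrix.kronecker_apply] using this
  have hW : ∀ a b c d : F, (a • 1 + b • W) * (c • 1 + d • W) = (a * c + b * d) • 1 + (a * d + b * c + b * d) • W := by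
    intro a b c d
    ext i j
    fin_cases i <;> fin_cases j <;> simp [W, W2, Matrix.mul_apply, Fin.sum_univ_two] <;> ring_nf
  let S : Subalgebra F (Matrix (Fin 2) (Fin 2) F) :=
    { carrier := {A | ∃ a b : F, A = a • 1 + b • W}
      mul_mem' := by
        rintro _ _ ⟨a, b, rfl⟩ ⟨c, d, rfl⟩
        exact ⟨_, _, hW a b c d⟩
      add_mem' := by
        rintro _ _ ⟨a, b, rfl⟩ ⟨c, d, rfl⟩
        exact ⟨a + c, b + d, by rw [add_smul, add_smul]; abel⟩
      algebraMap_mem' := fun c => ⟨c, 0, by rw [Algebra.algebraMap_eq_smul_one, zero_smul, add_zero]⟩ }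
  refine ⟨S.map L, ⟨?_, ?_, ?_⟩, Normalises.le_normalizer fun g hg k hk => ?_⟩
  · rintro _ ⟨_, ⟨a, b, rfl⟩, rfl⟩ _ ⟨_, ⟨c, d, rfl⟩, rfl⟩
    rw [← map_mul, ← map_mul]
    congr 1
    rw [hW, hW]
    congr 2 <;> ring
  · rintro _ ⟨_, ⟨a, b, rfl⟩, rfl⟩ hne
    obtain ⟨c, d, hcd⟩ : ∃ c d : F, a * c + b * d = 1 ∧ a * d + b * c + b * d = 0 := by
      rcases h01 a with rfl | rfl <;> rcases h01 b with rfl | rfl
      · exact absurd (by simp) hne
      · exact ⟨1, 1, by ring, by linear_combination h2⟩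
      · exact ⟨1, 0, by ring, by ring⟩
      · exact ⟨0, 1, by ring, by linear_combination h2⟩
    exact ⟨_, ⟨_, ⟨c, d, rfl⟩, rfl⟩, by rw [← map_mul, hW, hcd.1, hcd.2, zero_smul, add_zero, one_smul, map_one]⟩
  · have hS : Subalgebra.toSubmodule S = Submodule.span F {(1 : Matrix (Fin 2) (Fin 2) F), W} := by
      ext A
      rw [Submodule.mem_span_pair]
      exact ⟨fun ⟨a, b, h⟩ => ⟨a, b, h.symm⟩, fun ⟨a, b, h⟩ => ⟨a, b, h.symm⟩⟩
    rw [← LinearEquiv.finrank_eq (S.equivMapOfInjective L hLi).toLinearEquiv, ← Subalgebra.finrank_toSubmodule, hS]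
    rw [show ({(1 : Matrix (Fin 2) (Fin 2) F), W} : Set _) = Set.range ![1, W] by simp [Set.pair_comm],
      finrank_span_eq_card]
    · simp
    · rw [LinearIndependent.pair_iff]
      intro s t hst
      have e1 := congrFun (congrFun hst 0) 1
      have e2 := congrFun (congrFun hst 1) 1
      simp [W, W2] at e1 e2
      exact ⟨e2, e1⟩
  · obtain ⟨x, hx, rfl⟩ := Subgroup.mem_map.1 (h hg)
    obtain ⟨l, ⟨A, B, hl⟩, rfl⟩ := Subgroup.mem_map.1 hx
    obtain ⟨_, ⟨a, b, rfl⟩, rfl⟩ := hk
    -- the conjugate of `W` is again in the field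
    obtain ⟨c, d, hcd⟩ := conj_W2 hq A
    refine ⟨a • 1 + b • (c • 1 + d • W), S.add_mem (S.smul_mem S.one_mem a) (S.smul_mem (⟨c, d, rfl⟩ : c • 1 + d • W ∈ S) b), ?_⟩
    have h1 : cj A (a • 1 + b • W) = a • 1 + b • (c • 1 + d • W) := by
      rw [cj_add, cj_smul, cj_smul, cj_one, hcd]
    have h3 := cj_left_factor e P l A B hl (a • 1 + b • W)
    rw [h1] at h3
    exact h3.symm

end CfsgLib.Perm.Asch
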