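import Cfsg.Agent.Lib.Perm.Asch.Small

/-!
# The normaliser of a Singer cycle of `SL₃(4)` and the monomial group of `SL₄(5)`
-/

set_option autoImplicit false
set_option linter.all false

namespace CfsgLib.Perm.Asch

open scoped Classical Matrix Kronecker
open Matrix Cfsg.Geo

variable {F : Type*} [Field F] [Fintype F]

/-- the determinant of an element of a field subalgebra of full degree is a norm -/
theorem det_eq_one_pow {L : Type*} [Field L] [Algebra F L] [Finite L] {n : ℕ}
    (ι' : L →ₐ[F] Matrix (Fin n) (Fin n) F) (e : L ≃ₗ[F] (Fin n → F)) (v : Fin n → F)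
    (he : ∀ k, e k = ι' k *ᵥ v) {k : L} (hk : (ι' k).det = 1) :
    k ^ ((Nat.card L - 1) / (Nat.card F - 1)) = 1 := by
  rw [← FiniteField.algebraMap_norm_eq_pow (K := F)]
  have h : Matrix.toLin' (ι' k) = (e.toLinearMap.comp (Algebra.lmul F L k)).comp e.symm.toLinearMap := by
    apply LinearMap.ext
    intro x
    obtain ⟨y, rfl⟩ := e.surjective x
    simp only [LinearMap.comp_apply, LinearEquiv.coe_coe, LinearEquiv.symm_apply_apply, Matrix.toLin'_apply]
    show ι' k *ᵥ e y = e (k * y)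
    rw [he, he, map_mul, mulVec_mulVec]
  have hd := congrArg LinearMap.det h
  rw [LinearMap.det_toLin', hk, LinearMap.comp_assoc, LinearMap.det_conj, ← Algebra.norm_apply] at hd
  rw [← hd, map_one]

variable {n : ℕ} {H : Subgroup (GL (Fin n) F)}

/-- over the field of four elements the normaliser of a Singer cycle is in a subfield group -/
theorem exists_subfield_of_singer (hq : Fintype.card F = 4) {H : Subgroup (GL (Fin 3) F)}
    (hSL : H ≤ specialLinear (Fin 3) F) {K : Subalgebra F (Matrix (Fin 3) (Fin 3) F)}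
    (hK : IsFieldSubalgebra 3 K) (h : H ≤ subalgebraNormalizer K) :
    ∃ (F₀ : Subfield F) (r : ℕ) (P : GL (Fin 3) F), r.Prime ∧ Fintype.card F = Nat.card F₀ ^ r ∧
      H ≤ subfieldSubgroup F₀ P := by
  haveI : CharP F 2 := by
    obtain ⟨p, hp⟩ := CharP.exists F
    obtain ⟨e, hpp, he⟩ := FiniteField.card F p
    rw [hq] at he
    have : p ∣ 2 ^ 2 := by rw [show (2 : ℕ) ^ 2 = 4 from rfl, he]; exact dvd_pow_self p e.ne_zero
    have h2 := (Nat.prime_dvd_prime_iff_eq hpp Nat.prime_two).1 (hpp.dvd_of_dvd_pow this)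
    exact h2 ▸ hp
  have h2 : (2 : F) = 0 := CharTwo.two_eq_zero
  have hx4 : ∀ x : F, x ^ 4 = x := fun x => by rw [← hq]; exact FiniteField.pow_card x
  have hfield : IsField K :=
    { exists_pair_ne := ⟨0, 1, zero_ne_one⟩
      mul_comm := fun a b => Subtype.ext (hK.comm _ a.2 _ b.2)
      mul_inv_cancel := fun {a} ha => by
        obtain ⟨y, hy, hxy⟩ := hK.inv _ a.2 (fun h => ha (Subtype.ext h))
        exact ⟨⟨y, hy⟩, Subtype.ext hxy⟩ }
  have hcardK : Nat.card K = 64 := by
    rw [Module.natCard_eq_pow_finrank (K := F), hK.finrank_eq, Nat.card_eq_fintype_card, hq]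
    norm_num
  letI : Field K := hfield.toField
  let inc : K →ₐ[F] Matrix (Fin 3) (Fin 3) F := K.val
  have hinc : Function.Injective inc := Subtype.val_injective
  -- an element of order seven
  obtain ⟨g0, hg0⟩ := IsCyclic.exists_ofOrder_eq_natCard (α := Kˣ)
  rw [Nat.card_units, hcardK] at hg0
  set γ : K := ((g0 ^ 9 : Kˣ) : K) with hγ
  have hγ7 : IsPrimitiveRoot γ 7 := by
    refine IsPrimitiveRoot.coe_units_iff.2 ?_
    rw [IsPrimitiveRoot.iff_orderOf, orderOf_pow' g0 (by norm_num), hg0]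
    norm_num
  have hγ1 : γ ≠ 1 := hγ7.ne_one (by norm_num)
  have hγp : ∀ i, γ ^ i = γ ^ (i % 7) := fun i => by
    conv_lhs => rw [← Nat.div_add_mod i 7, pow_add, pow_mul, hγ7.pow_eq_one, one_pow, one_mul]
  have hK2 : (2 : K) = 0 := by
    have := congrArg (algebraMap F K) h2
    rwa [map_ofNat, map_zero] at this
  -- the cubic
  obtain ⟨c0, c1, c2, hc, hcubic⟩ : ∃ c0 c1 c2 : F, (c0 * c0 = c0 ∧ c1 * c1 = c1 ∧ c2 * c2 = c2) ∧
      γ ^ 3 = c0 • (1 : K) + c1 • γ + c2 • γ ^ 2 := by
    have hS : (γ ^ 3 + γ + 1) * (γ ^ 3 + γ ^ 2 + 1) = 0 := by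
      have h7 := geom_sum_mul γ 7
      rw [hγ7.pow_eq_one, sub_self] at h7
      have hsum := (mul_eq_zero.1 h7).resolve_right (sub_ne_zero.2 hγ1)
      simp only [Finset.sum_range_succ, Finset.sum_range_zero, zero_add, pow_zero, pow_one] at hsum
      linear_combination hsum + γ ^ 3 * hK2
    rcases mul_eq_zero.1 hS with h0 | h0
    · exact ⟨1, 1, 0, by simp, by
        rw [one_smul, one_smul, zero_smul, add_zero]
        linear_combination h0 - (γ + 1) * hK2⟩
    · exact ⟨1, 0, 1, by simp, by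
        rw [one_smul, zero_smul, one_smul, add_zero]
        linear_combination h0 - (γ ^ 2 + 1) * hK2⟩
  -- independence
  have hindep : ∀ a0 a1 a2 : F, a0 • (1 : K) + a1 • γ + a2 • γ ^ 2 = 0 → a0 = 0 ∧ a1 = 0 ∧ a2 = 0 := by
    intro a0 a1 a2 ha
    simp only [Algebra.smul_def, mul_one] at ha
    set A0 := algebraMap F K a0 with hA0
    set A1 := algebraMap F K a1 with hA1
    set A2 := algebraMap F K a2 with hA2
    haveI : CharP K 2 := charP_of_injective_algebraMap (algebraMap F K).injective 2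
    have h44 : ∀ x y : K, (x + y) ^ 4 = x ^ 4 + y ^ 4 := fun x y => add_pow_char_pow x y 2 2
    have hA : ∀ a : F, algebraMap F K a ^ 4 = algebraMap F K a := fun a => by rw [← map_pow, hx4]
    have e4 : A0 + A1 * γ ^ 4 + A2 * (γ ^ 4) ^ 2 = 0 := by
      have := congrArg (· ^ 4) ha
      simp only [h44, mul_pow, hA0, hA1, hA2, hA, zero_pow (show 4 ≠ 0 by norm_num)] at this
      rw [hA0, hA1, hA2, ← pow_mul]
      rw [← pow_mul] at this
      exact this
    have e16 : A0 + A1 * γ ^ 2 + A2 * (γ ^ 2) ^ 2 = 0 := by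
      have := congrArg (· ^ 4) e4
      simp only [h44, mul_pow, hA0, hA1, hA2, hA, zero_pow (show 4 ≠ 0 by norm_num), ← pow_mul] at this
      rw [hγp (4 * 4), hγp (4 * (2 * 4))] at this
      norm_num at this
      rw [hA0, hA1, hA2, ← pow_mul]
      exact this
    have hne14 : γ - γ ^ 4 ≠ 0 := sub_ne_zero.2 fun h => by
      have := hγ7.pow_inj (show 1 < 7 by norm_num) (show 4 < 7 by norm_num) (by rwa [pow_one])
      omega
    have hne24 : γ ^ 4 - γ ^ 2 ≠ 0 := sub_ne_zero.2 fun h => by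
      have := hγ7.pow_inj (show 4 < 7 by norm_num) (show 2 < 7 by norm_num) h
      omega
    have hne12 : γ - γ ^ 2 ≠ 0 := sub_ne_zero.2 fun h => by
      have := hγ7.pow_inj (show 1 < 7 by norm_num) (show 2 < 7 by norm_num) (by rwa [pow_one])
      omega
    have f1 : A1 + A2 * (γ + γ ^ 4) = 0 :=
      (mul_eq_zero.1 (show (γ - γ ^ 4) * (A1 + A2 * (γ + γ ^ 4)) = 0 by linear_combination ha - e4)).resolve_left hne14
    have f2 : A1 + A2 * (γ ^ 4 + γ ^ 2) = 0 :=
      (mul_eq_zero.1 (show (γ ^ 4 - γ ^ 2) * (A1 + A2 * (γ ^ 4 + γ ^ 2)) = 0 by linear_combination e4 - e16)).resolve_left hne24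
    have z2 : A2 = 0 :=
      (mul_eq_zero.1 (show A2 * (γ - γ ^ 2) = 0 by linear_combination f1 - f2)).resolve_right hne12
    have z1 : A1 = 0 := by linear_combination f1 - (γ + γ ^ 4) * z2
    have z0 : A0 = 0 := by linear_combination ha - γ * z1 - γ ^ 2 * z2
    exact ⟨(map_eq_zero _).1 z0, (map_eq_zero _).1 z1, (map_eq_zero _).1 z2⟩
  let F₀ : Subfield F :=
    { carrier := {x | x * x = x}
      mul_mem' := fun {x y} (hx : x * x = x) (hy : y * y = y) => by
        show x * y * (x * y) = x * y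
        rw [mul_mul_mul_comm, hx, hy]
      one_mem' := mul_one _
      add_mem' := fun {x y} (hx : x * x = x) (hy : y * y = y) => by
        show (x + y) * (x + y) = x + y
        linear_combination hx + hy + x * y * h2
      zero_mem' := mul_zero _
      neg_mem' := fun {x} (hx : x * x = x) => by
        show -x * -x = -x
        linear_combination hx + x * h2
      inv_mem' := fun x (hx : x * x = x) => by show x⁻¹ * x⁻¹ = x⁻¹; rw [← mul_inv, hx] }
  have hF₀ : ∀ x ∈ F₀, x = 0 ∨ x = 1 := fun x hx => by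
    rcases eq_or_ne x 0 with h0 | h0
    · exact Or.inl h0
    · exact Or.inr (mul_right_cancel₀ h0 (hx.trans (one_mul x).symm))
  have hF₀c : Nat.card F₀ = 2 := by
    have : (F₀ : Set F) = {0, 1} := by
      ext x
      refine ⟨fun hx => hF₀ x hx, ?_⟩
      rintro (rfl | rfl)
      · exact F₀.zero_mem
      · exact F₀.one_mem
    rw [show Nat.card F₀ = (F₀ : Set F).ncard from Nat.card_coe_set_eq _, this]
    exact Set.ncard_pair zero_ne_one
  -- powers of `γ` in the `F₀`-span
  have hpow : ∀ j : ℕ, ∃ a : Fin 3 → F, (∀ i, a i ∈ F₀) ∧ γ ^ j = a 0 • (1 : K) + a 1 • γ + a 2 • γ ^ 2 := by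
    intro j
    induction j with
    | zero => exact ⟨![1, 0, 0], fun i => by fin_cases i <;> simp [F₀.one_mem, F₀.zero_mem], by simp⟩
    | succ j ih =>
      obtain ⟨a, ha, hj⟩ := ih
      refine ⟨![a 2 * c0, a 0 + a 2 * c1, a 1 + a 2 * c2], fun i => ?_, ?_⟩
      · fin_cases i
        · exact F₀.mul_mem (ha 2) hc.1
        · exact F₀.add_mem (ha 0) (F₀.mul_mem (ha 2) hc.2.1)
        · exact F₀.add_mem (ha 1) (F₀.mul_mem (ha 2) hc.2.2)
      · simp only [Algebra.smul_def, mul_one] at hcubic hj ⊢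
        simp only [Matrix.cons_val_zero, Matrix.cons_val_one, Matrix.cons_val_two, Matrix.head_cons, Matrix.tail_cons,
          map_mul, map_add]
        rw [pow_succ, hj]
        linear_combination algebraMap F K (a 2) * hcubic
  -- coordinates
  let v : Fin 3 → F := Pi.single 0 1
  have hv : v ≠ 0 := fun h => one_ne_zero (Pi.single_eq_zero_iff.1 h)
  let ev : K →ₗ[F] (Fin 3 → F) :=
    { toFun := fun k => inc k *ᵥ v
      map_add' := fun a b => by rw [map_add, add_mulVec]
      map_smul' := fun c a => by rw [map_smul, smul_mulVec]; rfl }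
  have hev : ∀ k, ev k = inc k *ᵥ v := fun k => rfl
  have hevi : Function.Injective ev := by
    intro a b hab
    rw [← sub_eq_zero]
    by_contra hne
    have h0 : inc (a - b) *ᵥ v = 0 := by rw [← hev, map_sub, hab, sub_self]
    refine hv ?_
    have := congrArg (inc (a - b)⁻¹ *ᵥ ·) h0
    rwa [mulVec_mulVec, ← map_mul, inv_mul_cancel₀ hne, map_one, one_mulVec, mulVec_zero] at this
  haveI : FiniteDimensional F K := FiniteDimensional.of_finrank_pos (by rw [hK.finrank_eq]; norm_num)
  have hdim : Module.finrank F K = Module.finrank F (Fin 3 → F) := by rw [hK.finrank_eq, Module.finrank_fin_fun]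
  let eL := LinearMap.linearEquivOfInjective ev hevi hdim
  let Pm : Matrix (Fin 3) (Fin 3) F := Matrix.of fun i j => ev (γ ^ (j : ℕ)) i
  have hPm : IsUnit Pm := by
    refine Matrix.linearIndependent_cols_iff_isUnit.1 ?_
    rw [Fintype.linearIndependent_iff]
    intro a ha
    have h0 : ev (a 0 • (1 : K) + a 1 • γ + a 2 • γ ^ 2) = 0 := by
      rw [map_add, map_add, map_smul, map_smul, map_smul]
      rw [Fin.sum_univ_three] at ha
      funext i
      have := congrFun ha i
      simpa [Pm, Matrix.col, Matrix.transpose_apply] using this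
    obtain ⟨z0, z1, z2⟩ := hindep _ _ _ (hevi (h0.trans (map_zero ev).symm))
    intro i
    fin_cases i <;> assumption
  obtain ⟨P, hP⟩ := hPm
  refine ⟨F₀, 2, P, Nat.prime_two, by rw [hF₀c, hq]; norm_num, fun g hg => ?_⟩
  have hgN := h hg
  -- the action on `γ` and on `v`
  let σγ : K := ⟨cj g (inc γ), (hgN _).1 γ.2⟩
  have hσ7 : σγ ^ 7 = 1 := hinc (by
    rw [map_pow, map_one]
    show cj g (inc γ) ^ 7 = 1
    rw [← cj_pow, ← map_pow, hγ7.pow_eq_one, map_one, cj_one])
  obtain ⟨l, -, hl⟩ := hγ7.eq_pow_of_pow_eq_one hσ7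
  obtain ⟨k0, hk0⟩ := eL.surjective ((g : Matrix (Fin 3) (Fin 3) F) *ᵥ v)
  have hk0v : (g : Matrix (Fin 3) (Fin 3) F) *ᵥ v = inc k0 *ᵥ v := hk0.symm
  have hgγ : ∀ j : ℕ, (g : Matrix (Fin 3) (Fin 3) F) *ᵥ ev (γ ^ j) = ev (k0 * γ ^ (l * j)) := by
    intro j
    have hcomm : (g : Matrix (Fin 3) (Fin 3) F) * inc (γ ^ j) = inc (γ ^ (l * j)) * (g : Matrix (Fin 3) (Fin 3) F) := by
      rw [pow_mul, hl, map_pow, map_pow]
      show _ = cj g (inc γ) ^ j * _
      rw [← cj_pow, cj, mul_assoc, gl_inv_mul, mul_one]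
    rw [hev, mulVec_mulVec, hcomm, ← mulVec_mulVec, hk0v, mulVec_mulVec, ← map_mul, mul_comm, hev]
  have hcol : ∀ (s : ℕ → ℕ) (k : K), ∃ M : Matrix (Fin 3) (Fin 3) F, (∀ i j, M i j ∈ F₀) ∧
      ∀ i j, (inc k * (P : Matrix (Fin 3) (Fin 3) F) * M) i j = ev (k * γ ^ s (j : ℕ)) i := by
    intro s k
    choose a ha haj using fun j : Fin 3 => hpow (s (j : ℕ))
    refine ⟨Matrix.of fun i j => a j i, fun i j => ha j i, fun i j => ?_⟩
    rw [haj j, mul_add, mul_add, mul_smul_comm, mul_smul_comm, mul_smul_comm, map_add, map_add, map_smul, map_smul, map_smul]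
    have hPi : ∀ r : Fin 3, (inc k * (P : Matrix (Fin 3) (Fin 3) F)) i r = ev (k * γ ^ (r : ℕ)) i := fun r => by
      rw [hP, hev, map_mul, ← mulVec_mulVec]
      rfl
    rw [Matrix.mul_apply, Fin.sum_univ_three, hPi, hPi, hPi]
    simp [mul_comm]
  obtain ⟨M, hM, hMP⟩ := hcol (fun j => l * j) k0
  have hgPM : (g : Matrix (Fin 3) (Fin 3) F) * (P : Matrix (Fin 3) (Fin 3) F) = inc k0 * (P : Matrix (Fin 3) (Fin 3) F) * M := by
    ext i j
    rw [hMP, ← hgγ (j : ℕ), hP]
    rfl
  have hdetg : (g : Matrix (Fin 3) (Fin 3) F).det = 1 := congrArg Units.val (hSL hg)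
  have hdetP : (P : Matrix (Fin 3) (Fin 3) F).det ≠ 0 := ((Matrix.isUnit_iff_isUnit_det _).1 P.isUnit).ne_zero
  have hdetk : (inc k0).det = 1 := by
    have hd := congrArg Matrix.det hgPM
    rw [Matrix.det_mul, Matrix.det_mul, Matrix.det_mul, hdetg, one_mul] at hd
    have hMmem : M.det ∈ F₀ := by
      rw [Matrix.det_apply]
      refine F₀.sum_mem fun π _ => ?_
      rw [Units.smul_def, zsmul_eq_mul]
      exact F₀.mul_mem (intCast_mem _ _) (F₀.prod_mem fun i _ => hM _ _)
    rcases hF₀ _ hMmem with h0 | h0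
    · rw [h0, mul_zero] at hd; exact absurd hd hdetP
    · rw [h0, mul_one] at hd
      exact mul_right_cancel₀ hdetP (hd.symm.trans (one_mul _).symm)
  haveI : Finite K := Nat.finite_of_card_ne_zero (by rw [hcardK]; norm_num)
  have hk21 : k0 ^ 21 = 1 := by
    have := det_eq_one_pow (F := F) inc eL v (fun k => rfl) hdetk
    rwa [hcardK, Nat.card_eq_fintype_card, hq] at this
  -- split `k0`
  obtain ⟨i, -, hi⟩ := hγ7.eq_pow_of_pow_eq_one (show (k0 ^ 15) ^ 7 = 1 by
    rw [← pow_mul, show 15 * 7 = 21 * 5 by norm_num, pow_mul, hk21, one_pow])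
  obtain ⟨c, hc3, hck⟩ : ∃ c : F, c ≠ 0 ∧ algebraMap F K c = k0 ^ 7 := by
    obtain ⟨ω, hω⟩ := IsCyclic.exists_ofOrder_eq_natCard (α := Fˣ)
    rw [Nat.card_units, Nat.card_eq_fintype_card, hq] at hω
    have hω3 : IsPrimitiveRoot (algebraMap F K (ω : F)) 3 :=
      (IsPrimitiveRoot.coe_units_iff.2 (IsPrimitiveRoot.iff_orderOf.2 hω)).map_of_injective (algebraMap F K).injective
    obtain ⟨a, -, ha⟩ := hω3.eq_pow_of_pow_eq_one (show (k0 ^ 7) ^ 3 = 1 by rw [← pow_mul, hk21])
    exact ⟨(ω : F) ^ a, pow_ne_zero _ ω.ne_zero, by rw [map_pow, ha]⟩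
  have hk0eq : k0 = c • γ ^ i := by
    rw [Algebra.smul_def, hi, hck, ← pow_add, show 7 + 15 = 21 + 1 by norm_num, pow_succ, hk21, one_mul]
  obtain ⟨M', hM', hMP'⟩ := hcol (fun j => i + l * j) 1
  have hgP : (g : Matrix (Fin 3) (Fin 3) F) * (P : Matrix (Fin 3) (Fin 3) F) = c • ((P : Matrix (Fin 3) (Fin 3) F) * M') := by
    ext r j
    have h1 := hMP' r j
    rw [map_one, one_mul, one_mul] at h1
    rw [Matrix.smul_apply, h1, hgPM, hMP]
    have : k0 * γ ^ (l * (j : ℕ)) = c • γ ^ (i + l * (j : ℕ)) := by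
      rw [hk0eq, smul_mul_assoc, ← pow_add]
    rw [this, map_smul]
    rfl
  let M₁ : Matrix (Fin 3) (Fin 3) F₀ := Matrix.of fun a b => ⟨M' a b, hM' a b⟩
  have hM₁ : M₁.map F₀.subtype = M' := rfl
  have hdet : IsUnit M₁ := by
    rw [Matrix.isUnit_iff_isUnit_det]
    refine Ne.isUnit fun h0 => ?_
    have h1 : M'.det = 0 := by rw [← hM₁, ← RingHom.mapMatrix_apply, ← RingHom.map_det, h0, map_zero]
    have hd := congrArg Matrix.det hgP
    rw [Matrix.det_mul, hdetg, one_mul, Matrix.det_smul, Matrix.det_mul, h1, mul_zero, mul_zero] at hd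
    exact hdetP hd
  obtain ⟨U, hU⟩ := hdet
  refine Subgroup.mem_map.2 ⟨Matrix.GeneralLinearGroup.map (F₀.subtype : F₀ →+* F) U * sch (Fin 3) F (Units.mk0 c hc3),
    Subgroup.mul_mem _ (Subgroup.mem_sup_left ⟨U, rfl⟩) (Subgroup.mem_sup_right (sch_mem _)), ?_⟩
  apply Units.ext
  have hval : ((Matrix.GeneralLinearGroup.map (F₀.subtype : F₀ →+* F) U : GL (Fin 3) F) : Matrix (Fin 3) (Fin 3) F) = M' := by
    rw [← hM₁, ← hU]; rfl
  show ((P * _ * P⁻¹ : GL (Fin 3) F) : Matrix (Fin 3) (Fin 3) F) = g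
  rw [Units.val_mul, Units.val_mul, Units.val_mul, hval, sch_coe, Units.val_mk0, mul_smul_comm, mul_one,
    mul_smul_comm, ← hgP, mul_assoc, gl_mul_inv, mul_one]

/-! ### the monomial group of `SL₄(5)` -/

/-- regular permutations of the Klein group -/
def InV (τ : Equiv.Perm (Fin 4)) : Prop := τ * τ = 1 ∧ (τ = 1 ∨ ∀ x, τ x ≠ x)

instance (τ : Equiv.Perm (Fin 4)) : Decidable (InV τ) := by unfold InV; infer_instance

/-- `τ` followed by a diagonal matrix -/
def mon (τ : Equiv.Perm (Fin 4)) (d : Fin 4 → F) : Matrix (Fin 4) (Fin 4) F :=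
  Matrix.of fun j i => if j = τ i then d i else 0

theorem mon_mul (τ π : Equiv.Perm (Fin 4)) (d c : Fin 4 → F) :
    mon τ d * mon π c = mon (τ * π) fun i => d (π i) * c i := by
  ext j i
  simp only [Matrix.mul_apply, mon, Matrix.of_apply]
  rw [Finset.sum_eq_single (π i)]
  · rw [if_pos rfl, ite_mul, zero_mul]
    rfl
  · intro l _ hl; simp [hl]
  · simp

/-- the diagonal parts of the normalised group -/
def GoodDiag (d : Fin 4 → F) : Prop := (∀ x, d x ^ 4 = 1) ∧ (∀ x, d x ^ 2 = d 0 ^ 2) ∧ ∏ x, d x = 1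

theorem GoodDiag.mul {d c : Fin 4 → F} (hd : GoodDiag d) (hc : GoodDiag c) (π : Equiv.Perm (Fin 4)) :
    GoodDiag fun i => d (π i) * c i :=
  ⟨fun x => by rw [mul_pow, hd.1, hc.1, one_mul],
   fun x => by rw [mul_pow, mul_pow, hd.2.1, hc.2.1, hd.2.1 (π 0)],
   by rw [Finset.prod_mul_distrib, hc.2.2, Equiv.prod_comp π d, hd.2.2, one_mul]⟩

theorem goodDiag_one : GoodDiag fun _ : Fin 4 => (1 : F) := ⟨by simp, by simp, by simp⟩

theorem mon_one : mon (1 : Equiv.Perm (Fin 4)) (fun _ => (1 : F)) = 1 := by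
  ext j i
  by_cases h : j = i <;> simp [mon, Matrix.one_apply, h]

theorem inV_cases : ∀ τ : Equiv.Perm (Fin 4), InV τ → τ = 1 ∨ τ = Equiv.swap 0 1 * Equiv.swap 2 3 ∨
    τ = Equiv.swap 0 2 * Equiv.swap 1 3 ∨ τ = Equiv.swap 0 3 * Equiv.swap 1 2 := by decide

theorem inV_mul (a b : Equiv.Perm (Fin 4)) (ha : InV a) (hb : InV b) : InV (a * b) := by
  rcases inV_cases a ha with rfl | rfl | rfl | rfl <;> rcases inV_cases b hb with rfl | rfl | rfl | rfl <;> decide

theorem inV_conj (π τ : Equiv.Perm (Fin 4)) (h : InV τ) : InV (π * τ * π⁻¹) := by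
  refine ⟨?_, ?_⟩
  · calc π * τ * π⁻¹ * (π * τ * π⁻¹) = π * (τ * τ) * π⁻¹ := by group
      _ = 1 := by rw [h.1]; group
  · rcases h.2 with h1 | h1
    · exact Or.inl (by rw [h1, mul_one, mul_inv_cancel])
    · refine Or.inr fun x hx => h1 (π⁻¹ x) ?_
      exact π.injective (by simpa using hx)

/-- the symplectic-type group of `GL₄(5)` in monomial form -/
def klein4 (B : GL (Fin 4) F) : Subgroup (GL (Fin 4) F) where
  carrier := {g | ∃ (τ : Equiv.Perm (Fin 4)) (d : Fin 4 → F), InV τ ∧ GoodDiag d ∧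
    (g : Matrix (Fin 4) (Fin 4) F) * (B : Matrix (Fin 4) (Fin 4) F) = (B : Matrix (Fin 4) (Fin 4) F) * mon τ d}
  mul_mem' := by
    rintro a b ⟨τ, d, hτ, hd, ha⟩ ⟨π, c, hπ, hc, hb⟩
    refine ⟨τ * π, _, inV_mul τ π hτ hπ, hd.mul hc π, ?_⟩
    rw [Units.val_mul, mul_assoc, hb, ← mul_assoc, ha, mul_assoc, mon_mul]
  one_mem' := ⟨1, _, ⟨one_mul 1, Or.inl rfl⟩, goodDiag_one, by rw [mon_one, Units.val_one, one_mul, mul_one]⟩
  inv_mem' := by
    rintro a ⟨τ, d, hτ, hd, ha⟩
    have hd0 : ∀ x, d x ≠ 0 := fun x h => by simpa [h] using hd.1 x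
    refine ⟨τ, fun i => (d (τ i))⁻¹, hτ,
      ⟨fun x => by rw [inv_pow, hd.1, inv_one], fun x => by rw [inv_pow, inv_pow, hd.2.1, hd.2.1 (τ 0)],
        by rw [Finset.prod_inv_distrib, Equiv.prod_comp τ d, hd.2.2, inv_one]⟩, ?_⟩
    have h1 : mon τ d * mon τ (fun i => (d (τ i))⁻¹) = 1 := by
      rw [mon_mul, hτ.1, show (fun i => d (τ i) * (d (τ i))⁻¹) = fun _ : Fin 4 => (1 : F) from
        funext fun i => mul_inv_cancel₀ (hd0 _), mon_one]
    calc ((a⁻¹ : GL (Fin 4) F) : Matrix (Fin 4) (Fin 4) F) * (B : Matrix (Fin 4) (Fin 4) F)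
        = ((a⁻¹ : GL (Fin 4) F) : Matrix (Fin 4) (Fin 4) F) * ((a : Matrix (Fin 4) (Fin 4) F) * (B : Matrix (Fin 4) (Fin 4) F)) *
          mon τ (fun i => (d (τ i))⁻¹) := by
          rw [ha, mul_assoc, mul_assoc (B : Matrix (Fin 4) (Fin 4) F), h1, mul_one]
      _ = _ := by rw [← mul_assoc, gl_inv_mul, one_mul]

theorem klein4_pow (B : GL (Fin 4) F) {g : GL (Fin 4) F} (hg : g ∈ klein4 B) : g ^ 8 = 1 := by
  obtain ⟨τ, d, hτ, hd, hgd⟩ := hg
  have h2 : ((g ^ 2 : GL (Fin 4) F) : Matrix (Fin 4) (Fin 4) F) * (B : Matrix (Fin 4) (Fin 4) F) =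
      (B : Matrix (Fin 4) (Fin 4) F) * Matrix.diagonal (fun i => d (τ i) * d i) := by
    have e : Matrix.diagonal (fun i => d (τ i) * d i) = mon τ d * mon τ d := by
      rw [mon_mul, hτ.1]
      ext j i
      by_cases h : j = i
      · subst h; simp [mon]
      · simp [mon, h]
    rw [e, pow_two, Units.val_mul, mul_assoc, hgd, ← mul_assoc, hgd, mul_assoc]
  have h8 : ∀ k : ℕ, (((g ^ 2) ^ k : GL (Fin 4) F) : Matrix (Fin 4) (Fin 4) F) * (B : Matrix (Fin 4) (Fin 4) F) =
      (B : Matrix (Fin 4) (Fin 4) F) * Matrix.diagonal (fun i => (d (τ i) * d i) ^ k) := by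
    intro k
    induction k with
    | zero => simp
    | succ k ih =>
      rw [pow_succ, Units.val_mul, mul_assoc, h2, ← mul_assoc, ih, mul_assoc, Matrix.diagonal_mul_diagonal]
      congr 2
      funext i
      rw [pow_succ]
  refine Units.ext ?_
  have := h8 4
  rw [← pow_mul] at this
  simp only [mul_pow, hd.1, one_mul, Matrix.diagonal_one, mul_one] at this
  calc ((g ^ 8 : GL (Fin 4) F) : Matrix (Fin 4) (Fin 4) F)
      = ((g ^ (2 * 4) : GL (Fin 4) F) : Matrix (Fin 4) (Fin 4) F) * (B : Matrix (Fin 4) (Fin 4) F) *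
        ((B⁻¹ : GL (Fin 4) F) : Matrix (Fin 4) (Fin 4) F) := by rw [mul_assoc, gl_mul_inv, mul_one]
    _ = _ := by rw [this, gl_mul_inv]; rfl

/-- monomial elements of determinant `±1` normalise the group -/
theorem mon_conj_klein (hq : Fintype.card F = 5) {π τ : Equiv.Perm (Fin 4)} {c d : Fin 4 → F}
    (hc : ∀ i, c i ≠ 0) (hdet : (∏ i, c i) ^ 2 = 1) (hτ : InV τ) (hd : GoodDiag d) :
    ∃ (τ' : Equiv.Perm (Fin 4)) (d' : Fin 4 → F), InV τ' ∧ GoodDiag d' ∧ mon π c * mon τ d = mon τ' d' * mon π c := by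
  have h4 : ∀ x : F, x ≠ 0 → x ^ 4 = 1 := fun x hx => by
    have := FiniteField.pow_card_sub_one_eq_one x hx
    simpa [hq] using this
  let d' : Fin 4 → F := fun j => c (τ (π.symm j)) * d (π.symm j) * (c (π.symm j))⁻¹
  refine ⟨π * τ * π⁻¹, d', inV_conj π τ hτ, ⟨fun x => ?_, fun x => ?_, ?_⟩, ?_⟩
  · refine h4 _ (mul_ne_zero (mul_ne_zero (hc _) fun h => ?_) (inv_ne_zero (hc _)))
    simpa [h] using hd.1 (π.symm x)
  · have key : ∀ a b : Fin 4, (c (τ a) * (c a)⁻¹) ^ 2 = (c (τ b) * (c b)⁻¹) ^ 2 := by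
      have h2 : ∀ i, c i ^ 4 = 1 := fun i => h4 _ (hc i)
      have hbase : ∀ a, (c (τ a) * (c a)⁻¹) ^ 2 = (c (τ 0) * (c 0)⁻¹) ^ 2 := by
        intro a
        have hinv : ∀ i, (c i)⁻¹ ^ 2 = c i ^ 2 := fun i => by
          rw [inv_pow, inv_eq_of_mul_eq_one_right]
          rw [← pow_add]; exact h2 i
        rw [mul_pow, hinv, mul_pow, hinv]
        have hsq : ∀ i, (c i ^ 2) * (c i ^ 2) = 1 := fun i => by rw [← pow_add]; exact h2 i
        rw [Fin.prod_univ_four] at hdet
        have hp : c 0 ^ 2 * c 1 ^ 2 * c 2 ^ 2 * c 3 ^ 2 = 1 := by rw [← hdet]; ring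
        rcases inV_cases τ hτ with rfl | rfl | rfl | rfl
        · show c a ^ 2 * c a ^ 2 = c 0 ^ 2 * c 0 ^ 2
          rw [hsq, hsq]
        all_goals
          have q0 := hsq 0
          have q1 := hsq 1
          have q2 := hsq 2
          have q3 := hsq 3
          fin_cases a <;> simp [Equiv.swap_apply_def] <;>
            grobner
      intro a b
      rw [hbase a, hbase b]
    show d' x ^ 2 = d' 0 ^ 2
    have hdd : ∀ j, d' j ^ 2 = (c (τ (π.symm j)) * (c (π.symm j))⁻¹) ^ 2 * d 0 ^ 2 := fun j => by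
      rw [← hd.2.1 (π.symm j)]; simp only [d']; ring
    rw [hdd, hdd, key]
  · simp only [d', Finset.prod_mul_distrib, Finset.prod_inv_distrib]
    rw [Equiv.prod_comp π.symm d, hd.2.2, mul_one, Equiv.prod_comp π.symm c,
      Equiv.prod_comp π.symm (fun j => c (τ j)), Equiv.prod_comp τ c,
      mul_inv_cancel₀ (Finset.prod_ne_zero_iff.2 fun i _ => hc i)]
  · rw [mon_mul, mon_mul, show π * τ * π⁻¹ * π = π * τ by group]
    congr 1
    funext i
    simp only [d', Equiv.symm_apply_apply]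
    field_simp [hc i]

/-- the monomial group of `SL₄(5)` is not maximal -/
theorem monomial_not_maximal (hq : Fintype.card F = 5) {H : Subgroup (GL (Fin 4) F)}
    (hH : IsMaximalIn (specialLinear (Fin 4) F) H) {D : Fin 4 → Submodule F (Fin 4 → F)}
    (hD : IsMDecomposition 1 D) (h : H ≤ decompositionStabilizer D) : False := by
  obtain ⟨B, hB⟩ := exists_monomial_basis hD
  obtain ⟨p, hp⟩ := CharP.exists F
  have hp5 : p = 5 := by
    obtain ⟨e, hpp, he⟩ := FiniteField.card F p
    rw [hq] at he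
    have : p ∣ 5 := he ▸ dvd_pow_self p e.ne_zero
    exact (Nat.prime_dvd_prime_iff_eq hpp (by norm_num)).1 this
  subst hp5
  haveI := hp
  haveI : Fact (Nat.Prime 5) := ⟨by norm_num⟩
  have h5 : (5 : F) = 0 := CharP.cast_eq_zero F 5
  set N := subgroupNormalizer (klein4 B)
  have hBdet : (B : Matrix (Fin 4) (Fin 4) F).det ≠ 0 := ((Matrix.isUnit_iff_isUnit_det _).1 B.isUnit).ne_zero
  -- conjugation in coordinates
  have hconj : ∀ (g : GL (Fin 4) F) (G : Matrix (Fin 4) (Fin 4) F),
      (g : Matrix (Fin 4) (Fin 4) F) * (B : Matrix (Fin 4) (Fin 4) F) = (B : Matrix (Fin 4) (Fin 4) F) * G →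
      (∀ τ d, InV τ → GoodDiag d → ∃ τ' d', InV τ' ∧ GoodDiag d' ∧ G * mon τ d = mon τ' d' * G) →
      g ∈ N := by
    intro g G hgG hG x
    have hfwd : ∀ x ∈ klein4 B, g * x * g⁻¹ ∈ klein4 B := by
      rintro x ⟨τ, d, hτ, hd, hx⟩
      obtain ⟨τ', d', hτ', hd', e⟩ := hG τ d hτ hd
      refine ⟨τ', d', hτ', hd', ?_⟩
      set Bm := (B : Matrix (Fin 4) (Fin 4) F)
      set Bi := ((B⁻¹ : GL (Fin 4) F) : Matrix (Fin 4) (Fin 4) F)
      have hk1 : ((g * x : GL (Fin 4) F) : Matrix (Fin 4) (Fin 4) F) * Bm = Bm * mon τ' d' * G := by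
        rw [Units.val_mul, mul_assoc, hx, ← mul_assoc, hgG, mul_assoc, e, ← mul_assoc]
      have hk2 : G * Bi = Bi * (g : Matrix (Fin 4) (Fin 4) F) := by
        calc G * Bi = Bi * (Bm * G) * Bi := by rw [← mul_assoc Bi, gl_inv_mul, one_mul]
          _ = _ := by rw [← hgG, mul_assoc, mul_assoc (g : Matrix (Fin 4) (Fin 4) F), gl_mul_inv, mul_one]
      calc ((g * x * g⁻¹ : GL (Fin 4) F) : Matrix (Fin 4) (Fin 4) F) * Bm
          = (((g * x : GL (Fin 4) F) : Matrix (Fin 4) (Fin 4) F) * Bm) * Bi * ((g⁻¹ : GL (Fin 4) F) : Matrix (Fin 4) (Fin 4) F) * Bm := by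
            rw [Units.val_mul, mul_assoc _ Bm Bi, gl_mul_inv, mul_one]
        _ = Bm * mon τ' d' * (G * Bi) * ((g⁻¹ : GL (Fin 4) F) : Matrix (Fin 4) (Fin 4) F) * Bm := by
            rw [hk1, mul_assoc _ G Bi]
        _ = Bm * mon τ' d' := by
            rw [hk2, ← mul_assoc, mul_assoc _ (g : Matrix (Fin 4) (Fin 4) F), gl_mul_inv, mul_one, mul_assoc _ Bi,
              gl_inv_mul, mul_one]
    constructor
    · exact hfwd x
    · intro hx
      -- `klein4 B` is finite
      have himg : (klein4 B).map (MulAut.conj g).toMonoidHom = klein4 B := by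
        refine SetLike.coe_injective (Set.eq_of_subset_of_ncard_le ?_ ?_ (Set.toFinite _))
        · rintro _ ⟨y, hy, rfl⟩; exact hfwd y hy
        · rw [Subgroup.coe_map]
          exact (Set.ncard_image_of_injective _ (MulAut.conj g).injective).ge
      rw [← himg] at hx
      obtain ⟨y, hy, hyx⟩ := hx
      have : y = x := (MulAut.conj g).injective hyx
      exact this ▸ hy
  have hHN : H ≤ N := by
    intro g hg
    obtain ⟨π, c, hc, hgc⟩ := hB g (h hg)
    refine hconj g (mon π c) hgc fun τ d hτ hd => mon_conj_klein hq hc ?_ hτ hd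
    have hd' := congrArg Matrix.det hgc
    rw [Matrix.det_mul, Matrix.det_mul, show (g : Matrix (Fin 4) (Fin 4) F).det = 1 from congrArg Units.val (hH.1.le hg),
      one_mul] at hd'
    have hm : (Matrix.of fun j i => if j = π i then c i else 0 : Matrix (Fin 4) (Fin 4) F).det =
        (Equiv.Perm.sign π : ℤ) * ∏ i, c i := by
      rw [show (Matrix.of fun j i => if j = π i then c i else 0 : Matrix (Fin 4) (Fin 4) F) =
          (Matrix.diagonal c).submatrix π.symm id from by
        ext j i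
        simp only [Matrix.of_apply, Matrix.submatrix_apply, id, Matrix.diagonal_apply]
        by_cases hji : j = π i
        · simp [hji]
        · rw [if_neg hji, if_neg]
          intro h; exact hji (by rw [← h, Equiv.apply_symm_apply]),
        Matrix.det_permute, Matrix.det_diagonal]
      simp
    rw [hm] at hd'
    have h1 := mul_left_cancel₀ hBdet (hd'.symm.trans (mul_one _).symm)
    have h2 : (((Equiv.Perm.sign π : ℤ)) : F) ^ 2 = 1 := by
      rcases Int.units_eq_one_or (Equiv.Perm.sign π) with h | h <;> simp [h]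
    calc (∏ i, c i) ^ 2 = (((Equiv.Perm.sign π : ℤ)) : F) ^ 2 * (∏ i, c i) ^ 2 := by rw [h2, one_mul]
      _ = 1 := by rw [← mul_pow, h1, one_pow]
  -- an element outside the monomial group
  let G0 : Matrix (Fin 4) (Fin 4) F := !![1, 0, 1, 0; 0, 1, 0, 1; 1, 0, -1, 0; 0, 1, 0, -1]
  let G1 : Matrix (Fin 4) (Fin 4) F := G0 * mon (Equiv.swap 0 1) (fun _ => 1)
  have hG1 : G1 = !![0, 1, 1, 0; 1, 0, 0, 1; 0, 1, -1, 0; 1, 0, 0, -1] := by
    ext i j
    fin_cases i <;> fin_cases j <;> simp [G1, G0, mon, Matrix.mul_apply, Fin.sum_univ_four, Equiv.swap_apply_def, Matrix.vecHead, Matrix.vecTail]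
  have hG1det : G1.det = 1 := by
    rw [hG1]
    simp [Matrix.det_succ_row_zero, Fin.sum_univ_succ, Fin.succAbove, Matrix.det_fin_two]
    linear_combination (-1 : F) * h5
  let gM : GL (Fin 4) F := Matrix.GeneralLinearGroup.mkOfDetNeZero G1 (by rw [hG1det]; exact one_ne_zero)
  let g : GL (Fin 4) F := B * gM * B⁻¹
  have hgB : (g : Matrix (Fin 4) (Fin 4) F) * (B : Matrix (Fin 4) (Fin 4) F) = (B : Matrix (Fin 4) (Fin 4) F) * G1 := by
    simp only [g, Units.val_mul, mul_assoc, gl_inv_mul, mul_one]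
    rfl
  have hgSL : g ∈ specialLinear (Fin 4) F := by
    refine Units.ext ?_
    have := congrArg Matrix.det hgB
    rw [Matrix.det_mul, Matrix.det_mul, hG1det, mul_one] at this
    exact mul_right_cancel₀ hBdet (this.trans (one_mul _).symm)
  have hgN : g ∈ N := by
    refine hconj g G1 hgB fun τ d hτ hd => ?_
    -- first move the permutation across
    obtain ⟨τ1, d1, hτ1, hd1, e1⟩ := mon_conj_klein hq (π := Equiv.swap 0 1) (c := fun _ => (1 : F))
      (fun _ => one_ne_zero) (by simp) hτ hd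
    have h0 : ∀ τ (d : Fin 4 → F), InV τ → GoodDiag d → ∃ τ' d', InV τ' ∧ GoodDiag d' ∧ G0 * mon τ d = mon τ' d' * G0 := by
      intro τ d hτ hd
      have hd0 : d 0 ≠ 0 := fun h => by simpa [h] using hd.1 0
      have hpm : ∀ x, d x = d 0 ∨ d x = -d 0 := fun x => sq_eq_sq_iff_eq_or_eq_neg.1 (hd.2.1 x)
      have hp := hd.2.2
      rw [Fin.prod_univ_four] at hp
      have hsq : d 0 * d 0 * (d 0 * d 0) = 1 := by rw [← hd.1 0]; ring
      have hne : (2 : F) ≠ 0 := fun h => one_ne_zero (α := F) (by linear_combination h5 - 2 * h)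
      obtain ⟨s1, s2, hs1, hs2, e1, e2, e3⟩ : ∃ s1 s2 : F, s1 * s1 = 1 ∧ s2 * s2 = 1 ∧
          d 1 = s1 * d 0 ∧ d 2 = s2 * d 0 ∧ d 3 = s1 * s2 * d 0 := by
        refine ⟨d 1 / d 0, d 2 / d 0, ?_, ?_, by field_simp, by field_simp, ?_⟩
        · rcases hpm 1 with h | h <;> rw [h] <;> field_simp
        · rcases hpm 2 with h | h <;> rw [h] <;> field_simp
        · rcases hpm 1 with h | h <;> rcases hpm 2 with h' | h' <;> rw [h, h'] at hp ⊢ <;> field_simp <;>
            first
              | linear_combination d 0 * hp - d 3 * hsq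
              | linear_combination (-d 0) * hp - d 3 * hsq
      have hd04 := hd.1 0
      have mk : ∀ u t2 : F, u * u = 1 → t2 * t2 = 1 → ∀ w : F, w ^ 4 = 1 →
          GoodDiag ![w, u * w, t2 * w, u * t2 * w] := by
        intro u t2 hu ht2 w hw
        refine ⟨fun x => ?_, fun x => ?_, ?_⟩
        · fin_cases x <;> simp <;> grobner
        · fin_cases x <;> simp <;> grobner
        · rw [Fin.prod_univ_four]; simp; grobner
      rcases inV_cases τ hτ with rfl | rfl | rfl | rfl
      all_goals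
        rcases mul_self_eq_one_iff.1 hs2 with rfl | rfl
        all_goals
          first
            | (refine ⟨1, ![d 0, s1 * d 0, 1 * d 0, s1 * 1 * d 0], by decide, mk s1 1 hs1 (one_mul 1) _ hd04, ?_⟩
               ext i j
               fin_cases i <;> fin_cases j <;>
                 simp [G0, mon, Matrix.mul_apply, Fin.sum_univ_four, Equiv.swap_apply_def, e1, e2, e3]
               done)
            | (refine ⟨1, ![d 0, s1 * d 0, -1 * d 0, s1 * -1 * d 0], by decide, mk s1 (-1) hs1 (by ring) _ hd04, ?_⟩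
               ext i j
               fin_cases i <;> fin_cases j <;>
                 simp [G0, mon, Matrix.mul_apply, Fin.sum_univ_four, Equiv.swap_apply_def, e1, e2, e3]
               done)
            | (refine ⟨Equiv.swap 0 1 * Equiv.swap 2 3, ![d 0, s1 * d 0, 1 * d 0, s1 * 1 * d 0], by decide,
                 mk s1 1 hs1 (one_mul 1) _ hd04, ?_⟩
               ext i j
               fin_cases i <;> fin_cases j <;>
                 simp [G0, mon, Matrix.mul_apply, Fin.sum_univ_four, Equiv.swap_apply_def, e1, e2, e3]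
               done)
            | (refine ⟨Equiv.swap 0 1 * Equiv.swap 2 3, ![d 0, s1 * d 0, -1 * d 0, s1 * -1 * d 0], by decide,
                 mk s1 (-1) hs1 (by ring) _ hd04, ?_⟩
               ext i j
               fin_cases i <;> fin_cases j <;>
                 simp [G0, mon, Matrix.mul_apply, Fin.sum_univ_four, Equiv.swap_apply_def, e1, e2, e3]
               done)
            | (refine ⟨Equiv.swap 0 2 * Equiv.swap 1 3, ![d 0, s1 * d 0, 1 * d 0, s1 * 1 * d 0], by decide,
                 mk s1 1 hs1 (one_mul 1) _ hd04, ?_⟩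
               ext i j
               fin_cases i <;> fin_cases j <;>
                 simp [G0, mon, Matrix.mul_apply, Fin.sum_univ_four, Equiv.swap_apply_def, e1, e2, e3]
               done)
            | (refine ⟨Equiv.swap 0 2 * Equiv.swap 1 3, ![d 0, s1 * d 0, -1 * d 0, s1 * -1 * d 0], by decide,
                 mk s1 (-1) hs1 (by ring) _ hd04, ?_⟩
               ext i j
               fin_cases i <;> fin_cases j <;>
                 simp [G0, mon, Matrix.mul_apply, Fin.sum_univ_four, Equiv.swap_apply_def, e1, e2, e3]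
               done)
            | (refine ⟨Equiv.swap 0 2 * Equiv.swap 1 3, ![-d 0, s1 * -d 0, -1 * -d 0, s1 * -1 * -d 0], by decide,
                 mk s1 (-1) hs1 (by ring) _ (by rw [← hd04]; ring), ?_⟩
               ext i j
               fin_cases i <;> fin_cases j <;>
                 simp [G0, mon, Matrix.mul_apply, Fin.sum_univ_four, Equiv.swap_apply_def, e1, e2, e3]
               done)
            | (refine ⟨Equiv.swap 0 3 * Equiv.swap 1 2, ![d 0, s1 * d 0, 1 * d 0, s1 * 1 * d 0], by decide,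
                 mk s1 1 hs1 (one_mul 1) _ hd04, ?_⟩
               ext i j
               fin_cases i <;> fin_cases j <;>
                 simp [G0, mon, Matrix.mul_apply, Fin.sum_univ_four, Equiv.swap_apply_def, e1, e2, e3]
               done)
            | (refine ⟨Equiv.swap 0 3 * Equiv.swap 1 2, ![d 0, s1 * d 0, -1 * d 0, s1 * -1 * d 0], by decide,
                 mk s1 (-1) hs1 (by ring) _ hd04, ?_⟩
               ext i j
               fin_cases i <;> fin_cases j <;>
                 simp [G0, mon, Matrix.mul_apply, Fin.sum_univ_four, Equiv.swap_apply_def, e1, e2, e3]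
               done)
            | (refine ⟨Equiv.swap 0 3 * Equiv.swap 1 2, ![-d 0, s1 * -d 0, -1 * -d 0, s1 * -1 * -d 0], by decide,
                 mk s1 (-1) hs1 (by ring) _ (by rw [← hd04]; ring), ?_⟩
               ext i j
               fin_cases i <;> fin_cases j <;>
                 simp [G0, mon, Matrix.mul_apply, Fin.sum_univ_four, Equiv.swap_apply_def, e1, e2, e3]
               done)
    obtain ⟨τ2, d2, hτ2, hd2, e2⟩ := h0 τ1 d1 hτ1 hd1
    refine ⟨τ2, d2, hτ2, hd2, ?_⟩
    simp only [G1]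
    rw [mul_assoc, e1, ← mul_assoc, e2, mul_assoc]
  have hgH : g ∉ H := by
    intro hgH
    obtain ⟨π, c, hc, hgc⟩ := hB g (h hgH)
    have hG : G1 = Matrix.of fun j i => if j = π i then c i else 0 := by
      have := congrArg ((((B⁻¹ : GL (Fin 4) F)) : Matrix (Fin 4) (Fin 4) F) * ·) (hgB.symm.trans hgc)
      simpa only [← mul_assoc, gl_inv_mul, one_mul] using this
    have ea := congrFun (congrFun hG 1) 0
    have eb := congrFun (congrFun hG 3) 0
    rw [hG1] at ea eb
    simp at ea eb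
    split_ifs at ea eb with ha hb
    · exact absurd (ha.trans hb.symm) (by decide)
    all_goals first | exact one_ne_zero ea | exact one_ne_zero eb
  rcases hH.2 (N ⊓ specialLinear (Fin 4) F) (le_inf hHN hH.1.le) inf_le_right with h1 | h1
  · exact hgH (h1 ▸ ⟨hgN, hgSL⟩)
  · refine not_le_subgroupNormalizer (p := 5) (by norm_num) Nat.prime_two (by norm_num) (R := klein4 B)
      (fun x => ⟨3, Subtype.ext (klein4_pow B x.2)⟩) ?_ (inf_eq_right.1 h1)
    -- `klein4 B` is irreducible
    intro W hW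
    set Bm := (B : Matrix (Fin 4) (Fin 4) F)
    set Bi := ((B⁻¹ : GL (Fin 4) F) : Matrix (Fin 4) (Fin 4) F)
    let U : Submodule F (Fin 4 → F) := W.comap (Matrix.toLin' Bm)
    have hU : ∀ τ d, InV τ → GoodDiag d → ∀ u ∈ U, mon τ d *ᵥ u ∈ U := by
      intro τ d hτ hd u hu
      have hdet : (mon τ d).det ≠ 0 := by
        intro h0
        have := congrArg Matrix.det (mon_mul τ τ d d)
        rw [Matrix.det_mul, h0, zero_mul, hτ.1] at this
        have e : mon (1 : Equiv.Perm (Fin 4)) (fun i => d (τ i) * d i) = Matrix.diagonal fun i => d (τ i) * d i := by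
          ext j i
          by_cases h : j = i
          · subst h; simp [mon]
          · simp [mon, h]
        rw [e, Matrix.det_diagonal, Finset.prod_mul_distrib, Equiv.prod_comp τ d, hd.2.2, one_mul] at this
        exact zero_ne_one this
      let x : GL (Fin 4) F := B * Matrix.GeneralLinearGroup.mkOfDetNeZero (mon τ d) hdet * B⁻¹
      have hx : (x : Matrix (Fin 4) (Fin 4) F) * Bm = Bm * mon τ d := by
        simp only [x, Bm, Units.val_mul, mul_assoc, gl_inv_mul, mul_one]
        rfl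
      show Matrix.toLin' Bm _ ∈ W
      rw [Matrix.toLin'_apply, mulVec_mulVec, ← hx, ← mulVec_mulVec]
      exact hW _ ⟨x, ⟨τ, d, hτ, hd, hx⟩, rfl⟩ ⟨_, hu, rfl⟩
    by_cases hbot : U = ⊥
    · left
      rw [Submodule.eq_bot_iff]
      intro w hw
      have : Bi *ᵥ w ∈ U := by
        show Matrix.toLin' Bm _ ∈ W
        rw [Matrix.toLin'_apply, mulVec_mulVec, gl_mul_inv, one_mulVec]; exact hw
      rw [hbot, Submodule.mem_bot] at this
      have := congrArg (Bm *ᵥ ·) this
      simpa [Bm, Bi, mulVec_mulVec, gl_mul_inv] using this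
    · right
      obtain ⟨u, hu, hu0⟩ := Submodule.exists_mem_ne_zero_of_ne_bot hbot
      have h4' : (4 : F) ≠ 0 := fun h => one_ne_zero (α := F) (by linear_combination h5 - h)
      -- projection to the first coordinate after moving a non-zero coordinate there
      have hproj : ∀ τ, InV τ → Pi.single (0 : Fin 4) (4 * (mon τ (fun _ => (1 : F)) *ᵥ u) 0) ∈ U := by
        intro τ hτ
        set y := mon τ (fun _ => (1 : F)) *ᵥ u
        have hy : y ∈ U := hU τ _ hτ goodDiag_one u hu
        have hs : ∀ d : Fin 4 → F, GoodDiag d → (fun i => d i * y i) ∈ U := fun d hd => by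
          have := hU 1 d ⟨one_mul 1, Or.inl rfl⟩ hd y hy
          convert this using 1
          funext i
          show d i * y i = ∑ l, mon 1 d i l * y l
          rw [Finset.sum_eq_single i]
          · simp [mon]
          · intro l _ hl; simp [mon, Ne.symm hl]
          · simp
        have := U.add_mem (U.add_mem hy (hs ![1, 1, -1, -1] ⟨fun x => by fin_cases x <;> simp <;> ring,
            fun x => by fin_cases x <;> simp, by simp [Fin.prod_univ_four]⟩))
          (U.add_mem (hs ![1, -1, 1, -1] ⟨fun x => by fin_cases x <;> simp <;> ring,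
            fun x => by fin_cases x <;> simp, by simp [Fin.prod_univ_four]⟩)
          (hs ![1, -1, -1, 1] ⟨fun x => by fin_cases x <;> simp <;> ring,
            fun x => by fin_cases x <;> simp, by simp [Fin.prod_univ_four]⟩))
        convert this using 1
        funext i
        fin_cases i <;> simp <;> ring
      have hreg : ∀ j : Fin 4, ∃ τ : Equiv.Perm (Fin 4), InV τ ∧ τ j = 0 := by decide
      obtain ⟨j, hj⟩ := Function.ne_iff.1 hu0
      obtain ⟨τ, hτ, hτj⟩ := hreg j
      have hval : (mon τ (fun _ => (1 : F)) *ᵥ u) 0 = u j := by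
        simp only [mulVec, dotProduct, mon, Matrix.of_apply, ite_mul, one_mul, zero_mul]
        rw [Finset.sum_eq_single j]
        · rw [if_pos hτj.symm]
        · intro l _ hl
          rw [if_neg]
          intro h'
          exact hl (τ.injective (h'.symm.trans hτj.symm))
        · simp
      have he0 : Pi.single (0 : Fin 4) (1 : F) ∈ U := by
        have h1 := U.smul_mem (4 * u j)⁻¹ (hproj τ hτ)
        rw [hval, ← Pi.single_smul', smul_eq_mul, inv_mul_cancel₀ (mul_ne_zero h4' hj)] at h1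
        exact h1
      have hall : ∀ i : Fin 4, Pi.single i (1 : F) ∈ U := by
        intro i
        obtain ⟨π, hπ, hπi⟩ := hreg i
        have := hU π _ hπ goodDiag_one _ he0
        convert this using 1
        funext l
        rw [mulVec_single_one]
        simp only [Matrix.col_apply, mon, Matrix.of_apply, Pi.single_apply]
        have hinv : π 0 = i := by
          have := congrArg (fun e : Equiv.Perm (Fin 4) => e i) hπ.1
          simpa [hπi] using this
        simp [hinv]
      rw [Submodule.eq_top_iff']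
      intro w
      have hBw : Bi *ᵥ w ∈ U := by
        rw [pi_eq_sum_univ' (Bi *ᵥ w)]
        exact U.sum_mem fun i _ => U.smul_mem _ (hall i)
      have : Matrix.toLin' Bm (Bi *ᵥ w) ∈ W := hBw
      rwa [Matrix.toLin'_apply, mulVec_mulVec, gl_mul_inv, one_mulVec] at this

end CfsgLib.Perm.Asch
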