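import Cfsg.Agent.Lib.Perm.Asch.Clifford

/-!
# Groups with a normal subgroup that is abelian modulo scalars
-/

set_option autoImplicit false
set_option linter.all false

namespace CfsgLib.Perm.Asch

open scoped Classical Matrix
open Matrix Cfsg.Geo

variable {ι : Type} [Fintype ι] [DecidableEq ι] {F : Type*} [Field F]

/-- simultaneous eigenvectors with distinct eigenvalue functions are independent -/
theorem indep_of_eigen {V : Type*} [AddCommGroup V] [Module F V] {J X : Type*} (v : J → V) (hv : ∀ j, v j ≠ 0)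
    (T : X → V →ₗ[F] V) (l : X → J → F) (he : ∀ x j, T x (v j) = l x j • v j)
    (hsep : ∀ j k, j ≠ k → ∃ x, l x j ≠ l x k) : LinearIndependent F v := by
  rw [linearIndependent_iff']
  intro s
  induction s using Finset.induction_on with
  | empty => simp
  | insert k s hk ih =>
    intro g hg
    have hzero : ∀ j ∈ s, g j = 0 := by
      intro j hj
      obtain ⟨x, hx⟩ := hsep j k (fun h => hk (h ▸ hj))
      have h1 : ∑ i ∈ s, (g i * (l x i - l x k)) • v i = 0 := by
        have h2 := congrArg (T x) hg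
        rw [map_sum, map_zero] at h2
        simp only [map_smul, he, smul_smul] at h2
        have h3 := congrArg (l x k • ·) hg
        simp only [smul_zero, Finset.smul_sum, smul_smul] at h3
        rw [Finset.sum_insert hk] at h2 h3
        simp only [mul_sub, sub_smul, Finset.sum_sub_distrib, mul_comm (g _) (l x k)] at h2 ⊢
        have h4 : ∑ i ∈ s, (g i * l x i) • v i = - ((l x k * g k) • v k) := eq_neg_of_add_eq_zero_right h2
        have h5 : ∑ i ∈ s, (l x k * g i) • v i = - ((l x k * g k) • v k) := eq_neg_of_add_eq_zero_right h3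
        rw [h4, h5, sub_self]
      exact (mul_eq_zero.1 (ih _ h1 j hj)).resolve_right (sub_ne_zero.2 hx)
    intro i hi
    rcases Finset.mem_insert.1 hi with rfl | hi
    · rw [Finset.sum_insert hk, Finset.sum_eq_zero (fun j hj => by rw [hzero j hj, zero_smul]), add_zero] at hg
      exact (smul_eq_zero.1 hg).resolve_right (hv _)
    · exact hzero i hi

/-- scalar matrices as invertible matrices -/
def sch (ι : Type) [Fintype ι] [DecidableEq ι] (F : Type*) [Field F] : Fˣ →* GL ι F :=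
  Units.map (Matrix.scalar ι : F →+* Matrix ι ι F).toMonoidHom

theorem sch_coe (c : Fˣ) : ((sch ι F c : GL ι F) : Matrix ι ι F) = (c : F) • (1 : Matrix ι ι F) := by
  simp [sch, Matrix.smul_one_eq_diagonal]

theorem sch_mem (c : Fˣ) : sch ι F c ∈ scalars ι F := ⟨c, rfl⟩

theorem mem_scalars_sch {g : GL ι F} : g ∈ scalars ι F ↔ ∃ c, sch ι F c = g := Iff.rfl

theorem sch_injective [Nonempty ι] : Function.Injective (sch ι F) := by
  intro a b h
  have := congrArg (fun g : GL ι F => (g : Matrix ι ι F) (Classical.arbitrary ι) (Classical.arbitrary ι)) h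
  simp only [sch_coe] at this
  exact Units.ext (by simpa using this)

theorem sch_central (c : Fˣ) (g : GL ι F) : sch ι F c * g = g * sch ι F c := scalar_central (sch_mem c) g

theorem AbsIrr.transfer [Fintype F] {R M : Subgroup (GL ι F)} (hM : AbsIrr M) (hle : M ≤ R ⊔ scalars ι F) : AbsIrr R := by
  have hsplit : ∀ m ∈ M, ∃ g ∈ R, ∃ c : F, (m : Matrix ι ι F) = c • (g : Matrix ι ι F) := by
    intro m hm
    obtain ⟨g, hg, z, hz, rfl⟩ := Subgroup.mem_sup_of_normal_right.1 (hle hm)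
    obtain ⟨c, hc⟩ := mem_scalars.1 hz
    exact ⟨g, hg, c, by rw [Units.val_mul, hc, mul_smul_comm, mul_one]⟩
  refine ⟨fun W hW => hM.1 W ?_, fun A hA => hM.2 A ?_⟩
  · rintro _ ⟨m, hm, rfl⟩
    obtain ⟨g, hg, c, hc⟩ := hsplit m hm
    rintro _ ⟨w, hw, rfl⟩
    have := W.smul_mem c (hW _ (mem_matrixSet hg) ⟨w, hw, rfl⟩)
    simp only [hc, map_smul, LinearMap.smul_apply]
    exact this
  · rintro _ ⟨m, hm, rfl⟩
    obtain ⟨g, hg, c, hc⟩ := hsplit m hm
    simp only [hc, mul_smul_comm, smul_mul_assoc]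
    rw [hA _ (mem_matrixSet hg)]

theorem pow_mul_swap {G : Type*} [Group G] {g h z : G} (hzc : ∀ y, z * y = y * z) (hgh : h * g = z * (g * h))
    (k : ℕ) : h ^ k * g = z ^ k * (g * h ^ k) := by
  induction k with
  | zero => simp
  | succ k ih =>
    have hzk : Commute h (z ^ k) := (Commute.pow_right (hzc h).symm k)
    calc h ^ (k + 1) * g = h * (h ^ k * g) := by rw [pow_succ', mul_assoc]
      _ = z ^ k * ((h * g) * h ^ k) := by rw [ih, ← mul_assoc, hzk.eq]; group
      _ = z ^ (k + 1) * (g * h ^ (k + 1)) := by rw [hgh, pow_succ z, pow_succ' h]; group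

theorem mul_pow_of_comm_central {G : Type*} [Group G] {g h z : G} (hzc : ∀ y, z * y = y * z)
    (hgh : h * g = z * (g * h)) (k : ℕ) : (g * h) ^ k = z ^ (k.choose 2) * (g ^ k * h ^ k) := by
  induction k with
  | zero => simp
  | succ k ih =>
    have hzk : ∀ y, z ^ k * y = y * z ^ k := fun y => (Commute.pow_left (hzc y) k).eq
    calc (g * h) ^ (k + 1) = z ^ (k.choose 2) * g ^ k * (h ^ k * g) * h := by rw [pow_succ, ih]; group
      _ = z ^ (k.choose 2) * g ^ k * z ^ k * (g * h ^ k) * h := by rw [pow_mul_swap hzc hgh]; group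
      _ = z ^ (k.choose 2) * (g ^ k * z ^ k) * (g * h ^ k) * h := by group
      _ = z ^ (k.choose 2) * (z ^ k * g ^ k) * (g * h ^ k) * h := by rw [hzk]
      _ = z ^ ((k + 1).choose 2) * (g ^ (k + 1) * h ^ (k + 1)) := by
        rw [Nat.choose_succ_succ' k 1, Nat.choose_one_right, add_comm k (k.choose 2), pow_add z, pow_succ g, pow_succ h]
        group

theorem exists_eigen [Fintype F] {E : ℕ} (hE : 0 < E) {ω : F} (hω : IsPrimitiveRoot ω E) (hEF : (E : F) ≠ 0)
    (s : Finset (GL ι F)) (hs : ∀ a ∈ s, a ^ E = 1)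
    (hc : ∀ a ∈ s, ∀ b ∈ s, a * b = b * a) [Nonempty ι] :
    ∃ v : ι → F, v ≠ 0 ∧ ∀ a ∈ s, ∃ k : ℕ, (a : Matrix ι ι F) *ᵥ v = ω ^ k • v := by
  induction s using Finset.induction_on with
  | empty =>
    refine ⟨fun _ => 1, fun h => one_ne_zero (congrFun h (Classical.arbitrary ι)), fun a ha => by simp at ha⟩
  | insert a s ha ih =>
    obtain ⟨v, hv, hve⟩ := ih (fun b hb => hs b (Finset.mem_insert_of_mem hb))
      (fun b hb c hc' => hc b (Finset.mem_insert_of_mem hb) c (Finset.mem_insert_of_mem hc'))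
    set A : Matrix ι ι F := (a : Matrix ι ι F)
    have hAE : A ^ E = 1 := by
      rw [← Units.val_pow_eq_pow_val, hs a (Finset.mem_insert_self _ _), Units.val_one]
    -- the projections onto the eigenspaces
    let u : ℕ → ι → F := fun k => ∑ i ∈ Finset.range E, (ω ^ k) ^ i • (A ^ i *ᵥ v)
    have hω0 : ω ≠ 0 := hω.ne_zero hE.ne'
    have hu : ∀ k, ω ^ k • (A *ᵥ u k) = u k := by
      intro k
      let f : ℕ → ι → F := fun i => (ω ^ k) ^ i • (A ^ i *ᵥ v)
      have hfE : f E = f 0 := by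
        simp only [f, hAE, pow_zero, one_mulVec, one_smul]
        rw [← pow_mul, mul_comm k E, pow_mul, hω.pow_eq_one, one_pow, one_smul]
      have h1 : ω ^ k • (A *ᵥ u k) = ∑ i ∈ Finset.range E, f (i + 1) := by
        rw [Matrix.mulVec_sum, Finset.smul_sum]
        refine Finset.sum_congr rfl fun i _ => ?_
        simp only [f, mulVec_smul, smul_smul, mulVec_mulVec, ← pow_succ']
      rw [h1]
      show _ = ∑ i ∈ Finset.range E, f i
      obtain ⟨E', rfl⟩ := Nat.exists_eq_succ_of_ne_zero hE.ne'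
      conv_rhs => rw [Finset.sum_range_succ']
      rw [Finset.sum_range_succ, hfE]
    obtain ⟨k, hk⟩ : ∃ k, u k ≠ 0 := by
      by_contra hcon
      push Not at hcon
      have htot : ∑ k ∈ Finset.range E, u k = 0 := Finset.sum_eq_zero fun k _ => hcon k
      simp only [u] at htot
      rw [Finset.sum_comm] at htot
      simp only [← Finset.sum_smul] at htot
      rw [Finset.sum_eq_single 0] at htot
      · simp only [pow_zero, Finset.sum_const, Finset.card_range, nsmul_one, one_mulVec] at htot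
        exact hv ((smul_eq_zero.1 htot).resolve_left hEF)
      · intro i hi hi0
        have hne : ω ^ i ≠ 1 := hω.pow_ne_one_of_pos_of_lt hi0 (Finset.mem_range.1 hi)
        have : ∑ k ∈ Finset.range E, (ω ^ k) ^ i = 0 := by
          have h1 : ∀ k, (ω ^ k) ^ i = (ω ^ i) ^ k := fun k => by rw [← pow_mul, ← pow_mul, mul_comm]
          simp only [h1]
          have h2 := geom_sum_mul (ω ^ i) E
          rw [← pow_mul, mul_comm i E, pow_mul, hω.pow_eq_one, one_pow, sub_self] at h2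
          exact (mul_eq_zero.1 h2).resolve_right (sub_ne_zero.2 hne)
        rw [this, zero_smul]
      · intro h; exact absurd (Finset.mem_range.2 hE) h
    refine ⟨u k, hk, fun b hb => ?_⟩
    rcases Finset.mem_insert.1 hb with rfl | hb'
    · refine ⟨(E - 1) * k, ?_⟩
      have h1 : (ω ^ ((E - 1) * k)) * ω ^ k = 1 := by
        rw [← pow_add, ← Nat.succ_mul, Nat.succ_eq_add_one, Nat.sub_add_cancel hE, pow_mul, hω.pow_eq_one, one_pow]
      calc A *ᵥ u k = (ω ^ ((E - 1) * k) * ω ^ k) • (A *ᵥ u k) := by rw [h1, one_smul]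
        _ = _ := by rw [← smul_smul, hu]
    · obtain ⟨l, hl⟩ := hve b hb'
      refine ⟨l, ?_⟩
      have hcomm : ∀ i, (b : Matrix ι ι F) * A ^ i = A ^ i * (b : Matrix ι ι F) := fun i => by
        refine (Commute.pow_right ?_ i).eq
        show (b : Matrix ι ι F) * A = A * b
        rw [← Units.val_mul, ← Units.val_mul, hc b hb a (Finset.mem_insert_self _ _)]
      simp only [u, Matrix.mulVec_sum, Finset.smul_sum]
      refine Finset.sum_congr rfl fun i _ => ?_
      rw [mulVec_smul, mulVec_mulVec, hcomm, ← mulVec_mulVec, hl, mulVec_smul, smul_smul, smul_smul, mul_comm]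

/-- An absolutely irreducible group, abelian modulo scalars, is monomial over the roots of unity. -/
theorem realisable_monomial [Fintype F] [Nonempty ι] {R : Subgroup (GL ι F)} (hR : AbsIrr R)
    (hcomm : ∀ a ∈ R, ∀ b ∈ R, a * b * a⁻¹ * b⁻¹ ∈ scalars ι F)
    {E : ℕ} (hE : 0 < E) (hRE : ∀ a ∈ R, a ^ E = 1) {ω : F} (hω : IsPrimitiveRoot ω E) (hEF : (E : F) ≠ 0)
    (F₀ : Subfield F) (hF₀ : ω ∈ F₀) : RealisableOver F₀ (matrixSet R) := by
  obtain ⟨S, ⟨hSR, hScomm⟩, hSmax⟩ := Set.Finite.exists_maximal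
    (s := {S : Set (GL ι F) | S ⊆ R ∧ ∀ a ∈ S, ∀ b ∈ S, a * b = b * a}) (Set.toFinite _)
    ⟨∅, Set.empty_subset _, fun a ha => absurd ha (Set.notMem_empty a)⟩
  obtain ⟨v, hv, hve⟩ := exists_eigen hE hω hEF S.toFinset (fun a ha => hRE a (hSR (Set.mem_toFinset.1 ha)))
    (fun a ha b hb => hScomm a (Set.mem_toFinset.1 ha) b (Set.mem_toFinset.1 hb))
  choose χ hχ using fun a : S => hve a.1 (Set.mem_toFinset.2 a.2)
  choose ζ hζ using fun (a : S) (t : R) => mem_scalars.1 (hcomm a.1 (hSR a.2) t.1 t.2)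
  let L : R → S → F := fun t a => (ζ a t : F) * ω ^ χ a
  have hL : ∀ (t : R) (a : S), ((a : GL ι F) : Matrix ι ι F) *ᵥ (((t : GL ι F) : Matrix ι ι F) *ᵥ v) =
      L t a • (((t : GL ι F) : Matrix ι ι F) *ᵥ v) := by
    intro t a
    have : ((a : GL ι F) : Matrix ι ι F) * ((t : GL ι F) : Matrix ι ι F) =
        (ζ a t : F) • (((t : GL ι F) : Matrix ι ι F) * ((a : GL ι F) : Matrix ι ι F)) := by
      rw [← one_mul (((t : GL ι F) : Matrix ι ι F) * ((a : GL ι F) : Matrix ι ι F)), ← smul_mul_assoc, ← hζ,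
        ← Units.val_mul, ← Units.val_mul, ← Units.val_mul]
      congr 1
      group
    rw [mulVec_mulVec, this, smul_mulVec, ← mulVec_mulVec, hχ, mulVec_smul, smul_smul]
  have hw : ∀ t : R, ((t : GL ι F) : Matrix ι ι F) *ᵥ v ≠ 0 := fun t h => hv (by
    have := congrArg ((((t : GL ι F)⁻¹ : GL ι F) : Matrix ι ι F) *ᵥ ·) h
    simpa [mulVec_mulVec, gl_inv_mul] using this)
  choose rep hrep using fun j : Set.range L => j.2
  let w : Set.range L → ι → F := fun j => ((rep j : GL ι F) : Matrix ι ι F) *ᵥ v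
  have hindep : LinearIndependent F w :=
    indep_of_eigen w (fun j => hw _) (fun a : S => Matrix.toLin' ((a : GL ι F) : Matrix ι ι F))
      (fun a j => L (rep j) a) (fun a j => hL (rep j) a) (fun j k hjk => by
        by_contra hcon
        push Not at hcon
        exact hjk (Subtype.ext (by rw [← hrep j, ← hrep k]; exact funext hcon)))
  -- every translate of `v` is a root of unity times a member of the basis
  have hall : ∀ t : R, ∃ j, ∃ k : ℕ, ((t : GL ι F) : Matrix ι ι F) *ᵥ v = ω ^ k • w j := by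
    intro t
    let j : Set.range L := ⟨L t, t, rfl⟩
    set s := rep j with hs
    have hst : L s = L t := hrep j
    let d : GL ι F := (s : GL ι F)⁻¹ * t
    have hdR : d ∈ R := R.mul_mem (R.inv_mem s.2) t.2
    have hdS : d ∈ S := by
      have hcd : ∀ a ∈ S, d * a = a * d := by
        intro a ha
        have e : ∀ t' : R, a * (t' : GL ι F) = (sch ι F (ζ ⟨a, ha⟩ t')) * ((t' : GL ι F) * a) := by
          intro t'
          have h1 : a * (t' : GL ι F) * a⁻¹ * (t' : GL ι F)⁻¹ = sch ι F (ζ ⟨a, ha⟩ t') :=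
            Units.ext (by rw [sch_coe, hζ ⟨a, ha⟩ t'])
          rw [← h1]; group
        have hζeq : ζ ⟨a, ha⟩ s = ζ ⟨a, ha⟩ t := by
          have := congrFun hst ⟨a, ha⟩
          exact Units.ext (mul_right_cancel₀ (pow_ne_zero _ (hω.ne_zero hE.ne')) this)
        set c := sch ι F (ζ ⟨a, ha⟩ t)
        have es : a * (s : GL ι F) = c * ((s : GL ι F) * a) := by rw [e s, hζeq]
        have et : a * (t : GL ι F) = c * ((t : GL ι F) * a) := e t
        calc d * a = (s : GL ι F)⁻¹ * c⁻¹ * (c * ((t : GL ι F) * a)) := by simp only [d]; group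
          _ = ((s : GL ι F)⁻¹ * c⁻¹ * a) * t := by rw [← et]; group
          _ = (c * s)⁻¹ * a * t := by rw [_root_.mul_inv_rev]
          _ = a * d := by
            have h2 : (c * (s : GL ι F))⁻¹ * a = a * (s : GL ι F)⁻¹ := by
              rw [inv_mul_eq_iff_eq_mul, ← mul_assoc, eq_mul_inv_iff_mul_eq, mul_assoc]
              exact es
            rw [h2]; simp only [d]; group
      refine hSmax (y := insert d S) ⟨Set.insert_subset hdR hSR, ?_⟩ (Set.subset_insert _ _) (Set.mem_insert _ _)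
      rintro a (rfl | ha) b (rfl | hb)
      · rfl
      · exact hcd b hb
      · exact (hcd a ha).symm
      · exact hScomm a ha b hb
    refine ⟨j, χ ⟨d, hdS⟩, ?_⟩
    calc ((t : GL ι F) : Matrix ι ι F) *ᵥ v = ((s : GL ι F) : Matrix ι ι F) *ᵥ ((d : Matrix ι ι F) *ᵥ v) := by
          rw [mulVec_mulVec, ← Units.val_mul]; simp [d]
      _ = _ := by rw [hχ ⟨d, hdS⟩, mulVec_smul]
  have hspan : ⊤ ≤ Submodule.span F (Set.range w) := by
    rcases hR.irred.eq_bot_or_top (Submodule.span F (Set.range w)) (fun g hg x hx => by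
      induction hx using Submodule.span_induction with
      | mem y hy =>
        obtain ⟨j, rfl⟩ := hy
        obtain ⟨j', k, hk⟩ := hall (⟨g, hg⟩ * rep j)
        show (g : Matrix ι ι F) *ᵥ (((rep j : GL ι F) : Matrix ι ι F) *ᵥ v) ∈ _
        rw [mulVec_mulVec, ← Units.val_mul]
        rw [show (g * (rep j : GL ι F) : GL ι F) = ((⟨g, hg⟩ * rep j : R) : GL ι F) from rfl, hk]
        exact Submodule.smul_mem _ _ (Submodule.subset_span ⟨j', rfl⟩)
      | zero => simp
      | add y z _ _ hy hz => rw [mulVec_add]; exact Submodule.add_mem _ hy hz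
      | smul c y _ hy => rw [mulVec_smul]; exact Submodule.smul_mem _ _ hy) with h | h
    · exfalso
      obtain ⟨j, k, hk⟩ := hall 1
      have : w j ∈ Submodule.span F (Set.range w) := Submodule.subset_span ⟨j, rfl⟩
      rw [h, Submodule.mem_bot] at this
      exact hw _ this
    · exact h.ge
  haveI : Fintype (Set.range L) := Fintype.ofFinite _
  let b := Module.Basis.mk hindep hspan
  let ε : ι ≃ Set.range L := (Pi.basisFun F ι).indexEquiv b
  let Pm : Matrix ι ι F := Matrix.of fun i k => w (ε k) i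
  have hPm : IsUnit Pm := by
    letI := (Pi.basisFun F ι).invertibleToMatrix (b.reindex ε.symm)
    have : Pm = (Pi.basisFun F ι).toMatrix (b.reindex ε.symm) := by
      ext i k
      simp [Pm, b, Module.Basis.toMatrix_apply]
    rw [this]
    exact isUnit_of_invertible _
  obtain ⟨P, hP⟩ := hPm
  refine ⟨P⁻¹, ?_⟩
  rintro _ ⟨g, hg, rfl⟩ i k
  choose jf kf hjk using fun k : ι => hall (⟨g, hg⟩ * rep (ε k))
  let Q : Matrix ι ι F := Matrix.of fun l k => if l = ε.symm (jf k) then ω ^ kf k else 0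
  have hgP : (g : Matrix ι ι F) * (P : Matrix ι ι F) = (P : Matrix ι ι F) * Q := by
    rw [hP]
    ext i k
    have h1 : ((g : Matrix ι ι F) * Pm) i k = ((g : Matrix ι ι F) *ᵥ w (ε k)) i := rfl
    have h2 : (g : Matrix ι ι F) *ᵥ w (ε k) = ω ^ kf k • w (jf k) := by
      rw [← hjk k]
      show _ *ᵥ (_ *ᵥ v) = _
      rw [mulVec_mulVec]; rfl
    rw [h1, h2, Matrix.mul_apply, Finset.sum_eq_single (ε.symm (jf k))]
    · simp [Pm, Q, mul_comm]
    · intro l _ hl; simp [Q, hl]
    · simp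
  show (((P⁻¹ : GL ι F) : Matrix ι ι F) * (g : Matrix ι ι F) * (((P⁻¹)⁻¹ : GL ι F) : Matrix ι ι F)) i k ∈ F₀
  rw [inv_inv, mul_assoc, hgP, ← mul_assoc, gl_inv_mul, one_mul]
  simp only [Q, Matrix.of_apply]
  split_ifs
  · exact pow_mem hF₀ _
  · exact F₀.zero_mem

/-- averaging gives a non-zero invariant sesquilinear form -/
theorem exists_invForm_of_indep [Fintype F] [Nonempty ι] {R : Subgroup (GL ι F)}
    (hindep : LinearIndependent F (fun j : R ⧸ (scalars ι F).subgroupOf R => (((j.out : R) : GL ι F) : Matrix ι ι F)))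
    (hz : (Nat.card ((scalars ι F).subgroupOf R) : F) ≠ 0) (σ : F →+* F)
    (hσ : ∀ c : Fˣ, sch ι F c ∈ R → σ c * (c : F) = 1) :
    ∃ G : Matrix ι ι F, InvForm R σ G ∧ G ≠ 0 := by
  haveI : Fintype R := Fintype.ofFinite _
  let av : Matrix ι ι F → Matrix ι ι F := fun X =>
    ∑ g : R, ((g : GL ι F) : Matrix ι ι F)ᵀ * X * ((g : GL ι F) : Matrix ι ι F).map σ
  have hinv : ∀ X, InvForm R σ (av X) := by
    intro X p hp
    show _ * (∑ g : R, _) * _ = ∑ g : R, _
    rw [Finset.mul_sum, Finset.sum_mul]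
    refine Fintype.sum_equiv (Equiv.mulRight (⟨p, hp⟩ : R)) _ _ fun g => ?_
    simp only [Equiv.coe_mulRight, Subgroup.coe_mul, Units.val_mul, Matrix.transpose_mul, Matrix.map_mul, mul_assoc]
  by_contra hcon
  push Not at hcon
  have h0 : ∀ X, av X = 0 := fun X => hcon _ (hinv X)
  set S := (scalars ι F).subgroupOf R
  haveI : Fintype (R ⧸ S) := Fintype.ofFinite _
  let m : R ⧸ S → Matrix ι ι F := fun j => (((j.out : R) : GL ι F) : Matrix ι ι F)
  have hsum : ∀ l j : ι, ∑ q : R ⧸ S, (Nat.card S : F) • (σ (m q l j) • m q) = 0 := by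
    intro l j
    have h1 : ∑ g : R, σ (((g : GL ι F) : Matrix ι ι F) l j) • ((g : GL ι F) : Matrix ι ι F) = 0 := by
      ext k i
      have := congrFun (congrFun (h0 (Matrix.single k l 1)) i) j
      simp only [av, Matrix.sum_apply, Matrix.zero_apply] at this
      rw [Matrix.sum_apply, Matrix.zero_apply, ← this]
      refine Finset.sum_congr rfl fun g _ => ?_
      rw [Matrix.smul_apply, smul_eq_mul, Matrix.mul_apply, Finset.sum_eq_single l]
      · rw [Matrix.mul_single_apply_same, Matrix.transpose_apply, Matrix.map_apply]; ring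
      · intro x _ hx
        rw [Matrix.mul_single_apply_of_ne _ _ _ _ _ hx, zero_mul]
      · simp
    have h2 : ∀ g : R, σ (((g : GL ι F) : Matrix ι ι F) l j) • ((g : GL ι F) : Matrix ι ι F) =
        σ (m (g : R ⧸ S) l j) • m (g : R ⧸ S) := by
      intro g
      obtain ⟨s, hs⟩ := QuotientGroup.mk_out_eq_mul S g
      obtain ⟨c, hc⟩ := mem_scalars_sch.1 (Subgroup.mem_subgroupOf.1 s.2)
      have hcR : sch ι F c ∈ R := by rw [hc]; exact (s.1 : R).2
      have hm : m (g : R ⧸ S) = (c : F) • ((g : GL ι F) : Matrix ι ι F) := by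
        simp only [m, hs]
        rw [Subgroup.coe_mul, Units.val_mul, ← hc, sch_coe, mul_smul_comm, mul_one]
      rw [hm, Matrix.smul_apply, smul_eq_mul, map_mul, smul_smul]
      congr 1
      rw [mul_comm (σ _) (σ _), mul_assoc, hσ c hcR, mul_one]
    rw [← h1]
    simp only [h2]
    rw [← Finset.sum_fiberwise Finset.univ (fun g : R => (g : R ⧸ S))]
    refine Finset.sum_congr rfl fun q _ => ?_
    rw [Finset.sum_congr rfl (fun g hg => by rw [(Finset.mem_filter.1 hg).2]), Finset.sum_const, ← Nat.cast_smul_eq_nsmul F]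
    congr 2
    norm_cast
    -- the fibres are cosets
    induction q using QuotientGroup.induction_on with
    | _ g =>
      rw [← Nat.card_eq_finsetCard]
      refine Nat.card_congr (Equiv.ofBijective (fun s : S => ⟨g * s, by
        simp only [Finset.mem_filter, Finset.mem_univ, true_and]
        exact QuotientGroup.mk_mul_of_mem g s.2⟩) ⟨?_, ?_⟩)
      · intro a b hab
        exact Subtype.ext (mul_left_cancel (congrArg Subtype.val hab))
      · rintro ⟨x, hx⟩
        simp only [Finset.mem_filter, Finset.mem_univ, true_and] at hx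
        exact ⟨⟨g⁻¹ * x, QuotientGroup.eq.1 hx.symm⟩, Subtype.ext (mul_inv_cancel_left _ _)⟩
  obtain ⟨q⟩ : Nonempty (R ⧸ S) := ⟨((1 : R) : R ⧸ S)⟩
  refine ((q.out : R) : GL ι F).ne_zero (Matrix.ext fun l j => ?_)
  have := Fintype.linearIndependent_iff.1 hindep (fun q => (Nat.card S : F) * σ (m q l j))
    (by rw [← hsum l j]; simp only [smul_smul]; rfl) q
  exact σ.injective ((mul_eq_zero.1 this).resolve_left hz |>.trans (map_zero σ).symm)

/-! ### the symplectic type case -/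

variable [Fintype F] {n : ℕ}

theorem inClass_of_symType (hn : 3 ≤ n) {H : Subgroup (GL (Fin n) F)} {M : Subgroup (GL (Fin n) F)}
    (hM : NormG H M) (hMs : ¬ M ≤ scalars (Fin n) F)
    (hmin : ∀ N ≤ M, NormG H N → ¬ N ≤ scalars (Fin n) F → N = M)
    (hcom : ∀ a ∈ M, ∀ b ∈ M, a * b * a⁻¹ * b⁻¹ ∈ scalars (Fin n) F) : InClass n F H := by
  by_contra hH
  haveI : Nonempty (Fin n) := ⟨⟨0, by omega⟩⟩
  set Z := scalars (Fin n) F
  have hMA := absIrr_of_normal hn hH hM hMs
  have hab : ∀ A : Subgroup (GL (Fin n) F), NormG H A → (∀ a ∈ A, ∀ b ∈ A, a * b = b * a) → A ≤ Z := by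
    intro A hA hAc
    by_contra hAs
    exact hAs fun a ha => (absIrr_of_normal hn hH hA hAs).mem_scalars_of_commute fun x hx => hAc a ha x hx
  have hZc : ∀ z ∈ Z, ∀ y, z * y = y * z := fun z hz y => scalar_central hz y
  -- the prime
  obtain ⟨r, hr, hMr⟩ : ∃ r : ℕ, r.Prime ∧ ∀ x ∈ M, x ^ r ∈ Z := by
    obtain ⟨x, hxM, hxZ⟩ := Set.not_subset.1 hMs
    have hex : ∃ k, 0 < k ∧ x ^ k ∈ Z := ⟨orderOf x, orderOf_pos x, by rw [pow_orderOf_eq_one]; exact one_mem _⟩
    set j := Nat.find hex with hj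
    obtain ⟨hj0, hjZ⟩ := Nat.find_spec hex
    have hj1 : j ≠ 1 := fun h => hxZ (by rw [← pow_one x, ← h]; exact hjZ)
    obtain ⟨r, hr, k, hk⟩ := Nat.exists_prime_and_dvd hj1
    refine ⟨r, hr, ?_⟩
    let T : Subgroup (GL (Fin n) F) :=
      { carrier := {y | y ∈ M ∧ y ^ r ∈ Z}
        mul_mem' := fun {a b} ha hb => by
          refine ⟨M.mul_mem ha.1 hb.1, ?_⟩
          have hz := hcom b hb.1 a ha.1
          rw [mul_pow_of_comm_central (hZc _ hz) (show b * a = (b * a * b⁻¹ * a⁻¹) * (a * b) by group) r]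
          exact Z.mul_mem (Z.pow_mem hz _) (Z.mul_mem ha.2 hb.2)
        one_mem' := ⟨one_mem _, by rw [one_pow]; exact one_mem _⟩
        inv_mem' := fun {a} ha => ⟨M.inv_mem ha.1, by rw [inv_pow]; exact Z.inv_mem ha.2⟩ }
    have hT : T = M := by
      refine hmin T (fun y hy => hy.1) (fun g hg y hy => ⟨hM g hg y hy.1, ?_⟩) fun hTZ => ?_
      · rw [conj_pow]; exact (scalars_normal.conj_mem _ hy.2 g)
      · have hk0 : 0 < k := Nat.pos_of_ne_zero fun h => by rw [h, mul_zero] at hk; omega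
        have hlt : k < j := hk ▸ lt_mul_of_one_lt_left hk0 hr.one_lt
        refine Nat.find_min hex hlt ⟨hk0, hTZ ⟨M.pow_mem hxM k, ?_⟩⟩
        rw [← pow_mul, mul_comm, ← hk]
        exact hjZ
    intro y hy
    exact (hT.ge hy).2
  -- scalar commutators
  obtain ⟨p, e, hp, hcard⟩ : ∃ p e, CharP F p ∧ p.Prime ∧ Fintype.card F = p ^ e := by
    obtain ⟨p, hcp⟩ := CharP.exists F
    obtain ⟨e, hp, he⟩ := FiniteField.card F p
    exact ⟨p, e, hcp, hp, he⟩
  obtain ⟨hpp, hcard⟩ := hcard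
  haveI := hp
  haveI : Fact p.Prime := ⟨hpp⟩
  have hMnc : ∃ a ∈ M, ∃ b ∈ M, a * b ≠ b * a := by
    by_contra hcon
    push Not at hcon
    exact hMs (hab M hM hcon)
  have hcomr : ∀ a ∈ M, ∀ b ∈ M, (a * b * a⁻¹ * b⁻¹) ^ r = 1 := by
    intro a ha b hb
    set z := a * b * a⁻¹ * b⁻¹ with hz
    have h1 := pow_mul_swap (hZc _ (hcom a ha b hb)) (show a * b = z * (b * a) by rw [hz]; group) r
    rw [hZc _ (hMr a ha)] at h1
    have : z ^ r * (b * a ^ r) = 1 * (b * a ^ r) := by rw [one_mul, ← h1]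
    exact mul_right_cancel this
  obtain ⟨a₀, ha₀, b₀, hb₀, hne₀⟩ := hMnc
  obtain ⟨ζ₀, hζ₀⟩ := mem_scalars_sch.1 (hcom a₀ ha₀ b₀ hb₀)
  have hζ₀r : ζ₀ ^ r = 1 := sch_injective (by rw [map_pow, hζ₀, hcomr a₀ ha₀ b₀ hb₀, map_one])
  have hζ₀1 : ζ₀ ≠ 1 := fun h => hne₀ (by
    rw [h, map_one] at hζ₀
    calc a₀ * b₀ = (a₀ * b₀ * a₀⁻¹ * b₀⁻¹) * (b₀ * a₀) := by group
      _ = b₀ * a₀ := by rw [← hζ₀, one_mul])
  have hrp : r ≠ p := by
    rintro rfl
    refine hζ₀1 (Units.ext ?_)
    have h1 : (ζ₀ : F) ^ r = 1 := by rw [← Units.val_pow_eq_pow_val, hζ₀r, Units.val_one]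
    have h2 : ((ζ₀ : F) - 1) ^ r = 0 := by rw [sub_pow_char, h1, one_pow, sub_self]
    rw [Units.val_one]
    exact sub_eq_zero.1 (eq_zero_of_pow_eq_zero h2)
  have hcu : Nat.card Fˣ = Fintype.card F - 1 := by rw [Nat.card_units, Nat.card_eq_fintype_card]
  have hrq : r ∣ Fintype.card F - 1 := by
    have ho := orderOf_eq_prime (hp := ⟨hr⟩) hζ₀r hζ₀1
    rw [← ho, ← hcu]
    exact orderOf_dvd_natCard _
  -- the group of exponent `E`
  set E := r * Nat.gcd 2 r with hE
  have hEcases : (Odd r ∧ E = r) ∨ (r = 2 ∧ E = 4) := by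
    rcases hr.eq_two_or_odd' with rfl | hodd
    · exact Or.inr ⟨rfl, by simp [hE]⟩
    · refine Or.inl ⟨hodd, ?_⟩
      rw [hE, (Nat.coprime_two_left.2 hodd).gcd_eq_one, mul_one]
  have hE0 : 0 < E := by rcases hEcases with ⟨-, h⟩ | ⟨-, h⟩ <;> rw [h] <;> [exact hr.pos; norm_num]
  have hrE : r ∣ E := Dvd.intro _ rfl
  have hrch : r ∣ E.choose 2 := by
    rcases hEcases with ⟨hodd, h⟩ | ⟨h2, h⟩
    · rw [h]
      refine hr.dvd_choose_self two_ne_zero ?_
      have := hr.two_le
      rcases hodd with ⟨k, rfl⟩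
      omega
    · rw [h, h2]; decide
  set K := M ⊔ Z with hK
  have hKmem : ∀ g ∈ K, ∃ m ∈ M, ∃ z ∈ Z, m * z = g := fun g hg => Subgroup.mem_sup_of_normal_right.1 hg
  have hKn : NormG H K := by
    intro h hh g hg
    obtain ⟨m, hm, z, hz, rfl⟩ := hKmem g hg
    rw [← conj_mul]
    exact K.mul_mem (Subgroup.mem_sup_left (hM h hh m hm)) (Subgroup.mem_sup_right (scalars_normal.conj_mem _ hz h))
  have hKcom : ∀ g ∈ K, ∀ h ∈ K, g * h * g⁻¹ * h⁻¹ ∈ Z ∧ (g * h * g⁻¹ * h⁻¹) ^ r = 1 := by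
    intro g hg h hh
    obtain ⟨a, ha, z, hz, rfl⟩ := hKmem g hg
    obtain ⟨b, hb, w, hw, rfl⟩ := hKmem h hh
    have : a * z * (b * w) * (a * z)⁻¹ * (b * w)⁻¹ = a * b * a⁻¹ * b⁻¹ := by
      calc a * z * (b * w) * (a * z)⁻¹ * (b * w)⁻¹ = a * (z * b) * (w * z⁻¹) * a⁻¹ * w⁻¹ * b⁻¹ := by group
        _ = a * (b * z) * (z⁻¹ * w) * a⁻¹ * w⁻¹ * b⁻¹ := by rw [hZc z hz b, hZc w hw z⁻¹]
        _ = a * b * (w * a⁻¹) * w⁻¹ * b⁻¹ := by group
        _ = a * b * (a⁻¹ * w) * w⁻¹ * b⁻¹ := by rw [hZc w hw a⁻¹]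
        _ = a * b * a⁻¹ * b⁻¹ := by group
    rw [this]
    exact ⟨hcom a ha b hb, hcomr a ha b hb⟩
  have hpowE : ∀ g ∈ K, ∀ h ∈ K, (g * h) ^ E = g ^ E * h ^ E := by
    intro g hg h hh
    obtain ⟨hz, hzr⟩ := hKcom h hh g hg
    rw [mul_pow_of_comm_central (hZc _ hz) (show h * g = (h * g * h⁻¹ * g⁻¹) * (g * h) by group) E]
    obtain ⟨k, hk⟩ := hrch
    rw [hk, pow_mul, hzr, one_pow, one_mul]
  let R : Subgroup (GL (Fin n) F) :=
    { carrier := {g | g ∈ K ∧ g ^ E = 1}
      mul_mem' := fun {a b} ha hb => ⟨K.mul_mem ha.1 hb.1, by rw [hpowE a ha.1 b hb.1, ha.2, hb.2, one_mul]⟩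
      one_mem' := ⟨one_mem _, one_pow _⟩
      inv_mem' := fun {a} ha => ⟨K.inv_mem ha.1, by rw [inv_pow, ha.2, inv_one]⟩ }
  have hRn : NormG H R := fun h hh g hg => ⟨hKn h hh g hg.1, by rw [conj_pow, hg.2, mul_one, mul_inv_cancel]⟩
  have hRcom : ∀ a ∈ R, ∀ b ∈ R, a * b * a⁻¹ * b⁻¹ ∈ Z := fun a ha b hb => (hKcom a ha.1 b hb.1).1
  have hlift : ∀ g ∈ K, ∀ d : Fˣ, g ^ E = sch (Fin n) F (d ^ E) → g ∈ R ⊔ Z := by
    intro g hg d hd
    have : g * sch (Fin n) F d⁻¹ ∈ R := by
      refine ⟨K.mul_mem hg (Subgroup.mem_sup_right (sch_mem _)), ?_⟩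
      rw [hpowE g hg _ (Subgroup.mem_sup_right (sch_mem _)), hd, ← map_pow, ← map_mul, inv_pow, mul_inv_cancel, map_one]
    have h2 : g = g * sch (Fin n) F d⁻¹ * sch (Fin n) F d := by rw [mul_assoc, ← map_mul, inv_mul_cancel, map_one, mul_one]
    rw [h2]
    exact (R ⊔ Z).mul_mem (Subgroup.mem_sup_left this) (Subgroup.mem_sup_right (sch_mem _))
  have hMRZ : M ≤ R ⊔ Z := by
    have hT : (R ⊔ Z) ⊓ M = M := by
      refine hmin _ inf_le_right ?_ ?_
      · intro h hh g hg
        obtain ⟨a, ha, z, hz, rfl⟩ := Subgroup.mem_sup_of_normal_right.1 hg.1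
        refine ⟨?_, hM h hh _ hg.2⟩
        rw [← conj_mul]
        exact (R ⊔ Z).mul_mem (Subgroup.mem_sup_left (hRn h hh a ha))
          (Subgroup.mem_sup_right (scalars_normal.conj_mem _ hz h))
      · intro hTZ
        obtain ⟨g, hg⟩ := IsCyclic.exists_generator (α := Fˣ)
        have hex : ∀ x ∈ M, ∃ k : ℕ, x ^ r = sch (Fin n) F (g ^ k) := by
          intro x hx
          obtain ⟨c, hc⟩ := mem_scalars_sch.1 (hMr x hx)
          obtain ⟨k, hk⟩ := (Submonoid.mem_powers_iff _ _).1 (mem_powers_iff_mem_zpowers.2 (hg c))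
          exact ⟨k, by rw [hk, hc]⟩
        obtain ⟨α, hα⟩ := hex a₀ ha₀
        obtain ⟨β, hβ⟩ := hex b₀ hb₀
        have hnot : ∀ x ∈ M, x ∉ Z → x ∉ R ⊔ Z := fun x hx hxZ hxR => hxZ (hTZ ⟨hxR, hx⟩)
        have hkey : ∀ x ∈ M, ∀ k : ℕ, x ^ E = sch (Fin n) F (g ^ k) ^ (Nat.gcd 2 r) → r ∣ k → x ∈ R ⊔ Z := by
          intro x hx k hk hrk
          obtain ⟨l, rfl⟩ := hrk
          refine hlift x (Subgroup.mem_sup_left hx) (g ^ l) ?_
          rw [hk, ← map_pow, ← pow_mul, ← pow_mul, hE]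
          congr 2
          ring
        have ha₀Z : a₀ ∉ Z := fun h => hne₀ (hZc _ h _)
        have hαr : ¬ r ∣ α := fun h => hnot a₀ ha₀ ha₀Z (hkey a₀ ha₀ α (by rw [hE, pow_mul, hα]) h)
        obtain ⟨i, hi⟩ : ∃ i : ℕ, r ∣ α * i + β := by
          haveI : Fact r.Prime := ⟨hr⟩
          refine ⟨((-(β : ZMod r)) / (α : ZMod r)).val, ?_⟩
          rw [← ZMod.natCast_eq_zero_iff, Nat.cast_add, Nat.cast_mul, ZMod.natCast_val, ZMod.cast_id', id,
            mul_div_cancel₀ _ (by rwa [ne_eq, ZMod.natCast_eq_zero_iff])]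
          ring
        have hxy : a₀ ^ i * b₀ ∉ Z := fun h => by
          have h1 := hZc _ h a₀
          have h2 : a₀ ^ i * (b₀ * a₀) = a₀ ^ i * (a₀ * b₀) := by
            rw [← mul_assoc, h1, ← mul_assoc, ← mul_assoc, (Commute.self_pow a₀ i).eq]
          exact hne₀ (mul_left_cancel h2).symm
        refine hnot _ (M.mul_mem (M.pow_mem ha₀ i) hb₀) hxy (hkey _ (M.mul_mem (M.pow_mem ha₀ i) hb₀) _ ?_ hi)
        rw [hpowE _ (Subgroup.mem_sup_left (M.pow_mem ha₀ i)) _ (Subgroup.mem_sup_left hb₀), ← pow_mul a₀,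
          mul_comm i E, pow_mul, hE, pow_mul, hα, pow_mul b₀, hβ, ← map_pow, ← map_pow, ← map_pow, ← map_pow,
          ← map_mul]
        congr 1
        simp only [← pow_mul, ← pow_add]
        congr 1
        ring
    exact le_of_eq_of_le hT.symm inf_le_left
  have hRA : AbsIrr R := hMA.transfer hMRZ
  have hRZ : ¬ R ≤ Z := fun h => hMs (hMRZ.trans (sup_le h le_rfl))
  have hRnc : ¬ ∀ a ∈ R, ∀ b ∈ R, a * b = b * a := fun h => hRZ (hab R hRn h)
  -- the centre
  set ZR := Z.subgroupOf R with hZR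
  have hcenter : Subgroup.center R = ZR := by
    ext x
    rw [Subgroup.mem_center_iff, hZR, Subgroup.mem_subgroupOf]
    exact ⟨fun h => hRA.mem_scalars_of_commute fun y hy => congrArg Subtype.val (h ⟨y, hy⟩).symm,
      fun h y => Subtype.ext (hZc _ h _).symm⟩
  haveI : ZR.Normal := scalars_normal.comap R.subtype
  have hzR : ∀ c : Fˣ, sch (Fin n) F c ∈ R ↔ c ^ E = 1 := fun c =>
    ⟨fun h => sch_injective (by rw [map_pow, h.2, map_one]),
      fun h => ⟨Subgroup.mem_sup_right (sch_mem c), by rw [← map_pow, h, map_one]⟩⟩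
  have hz : Nat.card ZR = Nat.gcd (Fintype.card F - 1) E := by
    rw [← hcu, ← IsCyclic.card_powMonoidHom_ker Fˣ E]
    refine (Nat.card_congr (Equiv.ofBijective
      (fun c : (powMonoidHom E : Fˣ →* Fˣ).ker =>
        (⟨⟨sch (Fin n) F c, (hzR c).2 c.2⟩, by rw [hZR, Subgroup.mem_subgroupOf]; exact sch_mem _⟩ : ZR)) ⟨?_, ?_⟩)).symm
    · intro a b hab
      exact Subtype.ext (sch_injective (congrArg (fun x : ZR => ((x : R) : GL (Fin n) F)) hab))
    · rintro ⟨⟨x, hx⟩, hxZ⟩
      rw [hZR, Subgroup.mem_subgroupOf] at hxZ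
      obtain ⟨c, rfl⟩ := mem_scalars_sch.1 hxZ
      exact ⟨⟨c, (hzR c).1 hx⟩, rfl⟩
  -- independence and span
  let m : R ⧸ ZR → Matrix (Fin n) (Fin n) F := fun j => (((j.out : R) : GL (Fin n) F) : Matrix (Fin n) (Fin n) F)
  choose ζ hζ using fun (x : R) (j : R ⧸ ZR) => mem_scalars.1 (hRcom x.1 x.2 j.out.1 j.out.2)
  have hindep : LinearIndependent F m :=
    indep_of_eigen m (fun j => Units.ne_zero _) (fun x : R => (cjAlg (x : GL (Fin n) F)).toLinearMap)
      (fun x j => (ζ x j : F))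
      (fun x j => by
        show cj (x : GL (Fin n) F) (m j) = _
        rw [← one_mul (m j), ← smul_mul_assoc, ← hζ, one_mul, cj_coe, ← Units.val_mul]
        congr 1
        group)
      (fun j k hjk => by
        by_contra hcon
        push Not at hcon
        refine hjk ?_
        rw [← QuotientGroup.out_eq' j, ← QuotientGroup.out_eq' k, QuotientGroup.eq]
        apply Subgroup.mem_subgroupOf.2
        refine hRA.mem_scalars_of_commute fun x hx => ?_
        have e1 : ∀ i : R ⧸ ZR, x * (i.out : GL (Fin n) F) = sch (Fin n) F (ζ ⟨x, hx⟩ i) * ((i.out : GL (Fin n) F) * x) := by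
          intro i
          have h1 : x * (i.out : GL (Fin n) F) * x⁻¹ * (i.out : GL (Fin n) F)⁻¹ = sch (Fin n) F (ζ ⟨x, hx⟩ i) :=
            Units.ext (by rw [sch_coe, ← hζ ⟨x, hx⟩ i])
          rw [← h1]; group
        set c := sch (Fin n) F (ζ ⟨x, hx⟩ k) with hc
        have ej : x * (j.out : GL (Fin n) F) = c * ((j.out : GL (Fin n) F) * x) := by
          rw [e1 j, show ζ ⟨x, hx⟩ j = ζ ⟨x, hx⟩ k from Units.ext (hcon ⟨x, hx⟩)]
        have ek : x * (k.out : GL (Fin n) F) = c * ((k.out : GL (Fin n) F) * x) := e1 k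
        show ((j.out : GL (Fin n) F)⁻¹ * k.out) * x = x * ((j.out : GL (Fin n) F)⁻¹ * k.out)
        have h2 : (c * (j.out : GL (Fin n) F))⁻¹ * x = x * (j.out : GL (Fin n) F)⁻¹ := by
          rw [inv_mul_eq_iff_eq_mul, ← mul_assoc, eq_mul_inv_iff_mul_eq, mul_assoc]
          exact ej
        calc ((j.out : GL (Fin n) F)⁻¹ * k.out) * x
            = (j.out : GL (Fin n) F)⁻¹ * c⁻¹ * (c * ((k.out : GL (Fin n) F) * x)) := by group
          _ = (c * (j.out : GL (Fin n) F))⁻¹ * x * k.out := by rw [← ek, _root_.mul_inv_rev]; group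
          _ = _ := by rw [h2]; group)
  have hspan : ⊤ ≤ Submodule.span F (Set.range m) := by
    have h1 : Submodule.span F (matrixSet R) = ⊤ := by
      have h2 := congrArg Subalgebra.toSubmodule hRA.adjoin_eq_top
      rw [Algebra.top_toSubmodule, Algebra.adjoin_eq_span] at h2
      have h3 : matrixSet R = (R.toSubmonoid.map (Units.coeHom (Matrix (Fin n) (Fin n) F)) : Set (Matrix (Fin n) (Fin n) F)) := rfl
      rwa [h3, Submonoid.closure_eq, ← h3] at h2
    rw [← h1, Submodule.span_le]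
    rintro _ ⟨g, hg, rfl⟩
    obtain ⟨s, hs⟩ := QuotientGroup.mk_out_eq_mul ZR (⟨g, hg⟩ : R)
    obtain ⟨c, hc⟩ := mem_scalars_sch.1 (Subgroup.mem_subgroupOf.1 s.2)
    have hm : m ((⟨g, hg⟩ : R) : R ⧸ ZR) = (c : F) • (g : Matrix (Fin n) (Fin n) F) := by
      simp only [m, hs]
      rw [Subgroup.coe_mul, Units.val_mul, ← hc, sch_coe, mul_smul_comm, mul_one]
    show (g : Matrix (Fin n) (Fin n) F) ∈ Submodule.span F (Set.range m)
    have := Submodule.smul_mem (Submodule.span F (Set.range m)) ((c⁻¹ : Fˣ) : F)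
      (Submodule.subset_span ⟨((⟨g, hg⟩ : R) : R ⧸ ZR), rfl⟩)
    rwa [hm, smul_smul, ← Units.val_mul, inv_mul_cancel, Units.val_one, one_smul] at this
  haveI : Fintype (R ⧸ ZR) := Fintype.ofFinite _
  have hcardQ : Nat.card (R ⧸ ZR) = n * n := by
    rw [Nat.card_eq_fintype_card, ← Module.finrank_eq_card_basis (Module.Basis.mk hindep hspan), Module.finrank_matrix]
    simp
  have hRp : IsPGroup r R := fun g => by
    rcases hEcases with ⟨-, h⟩ | ⟨h2, h⟩
    · exact ⟨1, Subtype.ext (by rw [pow_one, SubmonoidClass.coe_pow, ← h]; exact g.2.2)⟩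
    · exact ⟨2, Subtype.ext (by rw [SubmonoidClass.coe_pow, h2, show (2 : ℕ) ^ 2 = E from h.symm]; exact g.2.2)⟩
  obtain ⟨mm, hnm⟩ : ∃ mm, n = r ^ mm := by
    haveI : Fact r.Prime := ⟨hr⟩
    obtain ⟨k, hk⟩ := IsPGroup.iff_card.1 (hRp.to_quotient ZR)
    rw [hcardQ] at hk
    obtain ⟨i, -, hi⟩ := (Nat.dvd_prime_pow hr).1 (show n ∣ r ^ k from hk ▸ dvd_mul_left n n)
    exact ⟨i, hi⟩
  have hmm : 1 ≤ mm := Nat.one_le_iff_ne_zero.2 fun h => by rw [h, pow_zero] at hnm; omega
  have hcardR : Nat.card R = n * n * Nat.card ZR := by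
    rw [Subgroup.card_eq_card_quotient_mul_card_subgroup ZR, hcardQ]
  have hRexp : Monoid.exponent R = E := by
    have hdvd : Monoid.exponent R ∣ E := Monoid.exponent_dvd_of_forall_pow_eq_one fun g =>
      Subtype.ext (by rw [SubmonoidClass.coe_pow]; exact g.2.2)
    have hne1 : Monoid.exponent R ≠ 1 := fun h => hRnc fun a ha b hb => by
      have ha1 := Monoid.pow_exponent_eq_one (⟨a, ha⟩ : R)
      rw [h, pow_one] at ha1
      rw [show a = 1 from congrArg Subtype.val ha1, one_mul, mul_one]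
    rcases hEcases with ⟨-, h⟩ | ⟨h2, h⟩
    · rw [h] at hdvd ⊢
      exact ((Nat.dvd_prime hr).1 hdvd).resolve_left hne1
    · rw [h] at hdvd ⊢
      obtain ⟨i, hi, hie⟩ := (Nat.dvd_prime_pow Nat.prime_two (m := 2)).1 (by simpa using hdvd)
      rcases (show i = 0 ∨ i = 1 ∨ i = 2 by omega) with rfl | rfl | rfl
      · exact absurd hie hne1
      · exfalso
        refine hRnc fun a ha b hb => ?_
        have hsq : ∀ x : R, x * x = 1 := fun x => by
          have := Monoid.pow_exponent_eq_one x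
          rwa [hie, pow_one, pow_two] at this
        have hinv : ∀ x : R, x⁻¹ = x := fun x => inv_eq_of_mul_eq_one_right (hsq x)
        have := hinv (⟨a, ha⟩ * ⟨b, hb⟩)
        rw [_root_.mul_inv_rev, hinv, hinv] at this
        exact (congrArg Subtype.val this).symm
      · exact hie
  have hsymp : IsSymplecticTypeGroup r R := by
    refine ⟨hr, hRp, fun A hA hAc => ?_, hRexp⟩
    have hAZ : A.map R.subtype ≤ Z := by
      refine hab _ (fun h hh x hx => ?_) ?_
      · obtain ⟨y, hy, rfl⟩ := Subgroup.mem_map.1 hx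
        let φ : R ≃* R :=
          { toFun := fun x => ⟨h * x * h⁻¹, hRn h hh x x.2⟩
            invFun := fun x => ⟨h⁻¹ * x * h, by simpa using hRn h⁻¹ (H.inv_mem hh) x x.2⟩
            left_inv := fun x => Subtype.ext (by simp only []; group)
            right_inv := fun x => Subtype.ext (by simp only []; group)
            map_mul' := fun x z => Subtype.ext (by simp only [Subgroup.coe_mul]; group) }
        exact ⟨φ y, (Subgroup.characteristic_iff_map_eq.1 hA φ) ▸ Subgroup.mem_map_of_mem φ.toMonoidHom hy, rfl⟩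
      · rintro x hx y hy
        obtain ⟨a', ha', rfl⟩ := Subgroup.mem_map.1 hx
        obtain ⟨b', hb', rfl⟩ := Subgroup.mem_map.1 hy
        have := congrArg (fun x : A => ((x : R) : GL (Fin n) F)) (mul_comm' (⟨a', ha'⟩ : A) ⟨b', hb'⟩)
        exact this
    haveI : IsCyclic Z := isCyclic_of_surjective (sch (Fin n) F).rangeRestrict (MonoidHom.rangeRestrict_surjective _)
    exact isCyclic_of_injective ((R.subtype.comp A.subtype).codRestrict Z fun a => hAZ ⟨a, a.2, rfl⟩)
      fun a b h => by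
        have := congrArg Subtype.val h
        exact Subtype.ext (Subtype.ext this)
  have hzF : (Nat.card ZR : F) ≠ 0 := by
    intro h
    have hdvd : p ∣ Nat.card ZR := (CharP.cast_eq_zero_iff F p _).1 h
    rw [hz] at hdvd
    have := hdvd.trans (Nat.gcd_dvd_right _ _)
    rcases hEcases with ⟨-, h⟩ | ⟨h2, h⟩
    · rw [h] at this; exact hrp ((Nat.prime_dvd_prime_iff_eq hpp hr).1 this).symm
    · rw [h, show (4 : ℕ) = 2 ^ 2 from rfl] at this
      exact hrp (h2 ▸ ((Nat.prime_dvd_prime_iff_eq hpp Nat.prime_two).1 (hpp.dvd_of_dvd_pow this)).symm)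
  by_cases hEq : E ∣ Fintype.card F - 1
  swap
  · -- centre of order two: an invariant bilinear form
    obtain ⟨G, hG, hG0⟩ := exists_invForm_of_indep hindep hzF (RingHom.id F) (fun c hc => by
      have hcE := (hzR c).1 hc
      have hcq : c ^ (Fintype.card F - 1) = 1 := by rw [← hcu]; exact pow_card_eq_one'
      have h2 : c ^ 2 = 1 := by
        have := pow_gcd_eq_one.2 ⟨hcq, hcE⟩
        rcases hEcases with ⟨-, h⟩ | ⟨h2, h⟩
        · exact absurd (h ▸ hrq) hEq
        · rw [h] at this hEq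
          have : Nat.gcd (Fintype.card F - 1) 4 = 2 := by
            have h4 : Nat.gcd (Fintype.card F - 1) 4 ∣ 4 := Nat.gcd_dvd_right _ _
            have h2' : 2 ∣ Nat.gcd (Fintype.card F - 1) 4 := Nat.dvd_gcd (h2 ▸ hrq) (by norm_num)
            have hne : Nat.gcd (Fintype.card F - 1) 4 ≠ 4 := fun h4' => hEq (h4' ▸ Nat.gcd_dvd_left _ _)
            have hle := Nat.le_of_dvd (by norm_num) h4
            interval_cases hd : Nat.gcd (Fintype.card F - 1) 4 <;> omega
          rw [← this]; assumption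
      rw [RingHom.id_apply, ← pow_two, ← Units.val_pow_eq_pow_val, h2, Units.val_one])
    exact hH (InClass.of_invForm hn hRn hRA hG hG0)
  have hzE : Nat.card ZR = E := by rw [hz, Nat.gcd_eq_right hEq]
  obtain ⟨ω, hω⟩ : ∃ ω : F, IsPrimitiveRoot ω E := by
    obtain ⟨g, hg⟩ := IsCyclic.exists_ofOrder_eq_natCard (α := Fˣ)
    rw [hcu] at hg
    obtain ⟨k, hk⟩ := hEq
    have hq1 : 0 < Fintype.card F - 1 := Nat.sub_pos_of_lt Fintype.one_lt_card
    have hk0 : k ≠ 0 := fun h => by rw [h, mul_zero] at hk; omega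
    refine ⟨((g ^ k : Fˣ) : F), IsPrimitiveRoot.coe_units_iff.2 ?_⟩
    rw [IsPrimitiveRoot.iff_orderOf, orderOf_pow' g hk0, hg, hk, Nat.gcd_eq_right (dvd_mul_left k E),
      Nat.mul_div_cancel _ (Nat.pos_of_ne_zero hk0)]
  have hEF : (E : F) ≠ 0 := hzE ▸ hzF
  have he0 : e ≠ 0 := fun h => by
    rw [h, pow_zero] at hcard
    exact absurd hcard Fintype.one_lt_card.ne'
  have hminimal : ∀ d, 0 < d → d < e → ¬ E ∣ p ^ d - 1 := by
    intro d hd0 hde hdvd
    let F₀ : Subfield F :=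
      { carrier := {x | x ^ (p ^ d) = x}
        mul_mem' := fun {x y} hx hy => by show (x * y) ^ _ = _; rw [mul_pow, hx, hy]
        one_mem' := one_pow _
        add_mem' := fun {x y} hx hy => by show (x + y) ^ _ = _; rw [add_pow_char_pow, hx, hy]
        zero_mem' := zero_pow (pow_ne_zero _ hpp.ne_zero)
        neg_mem' := fun {x} hx => by
          show (-x) ^ _ = _
          rw [neg_pow, hx, neg_one_pow_char_pow, neg_one_mul]
        inv_mem' := fun x hx => by show x⁻¹ ^ _ = _; rw [inv_pow, hx] }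
    have hωF : ω ∈ F₀ := by
      show ω ^ (p ^ d) = ω
      obtain ⟨k, hk⟩ := hdvd
      have : p ^ d = E * k + 1 := by have := Nat.one_le_pow d p hpp.pos; omega
      rw [this, pow_succ, pow_mul, hω.pow_eq_one, one_pow, one_mul]
    have hF₀ : F₀ ≠ ⊤ := by
      intro htop
      obtain ⟨g, hg⟩ := IsCyclic.exists_ofOrder_eq_natCard (α := Fˣ)
      have hgp : (g : F) ^ (p ^ d) = (g : F) := (htop ▸ Subfield.mem_top _ : (g : F) ∈ F₀)
      have h1 : g ^ (p ^ d - 1) = 1 := by
        refine mul_right_cancel (b := g) ?_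
        rw [← pow_succ, one_mul, Nat.sub_add_cancel (Nat.one_le_pow d p hpp.pos)]
        exact Units.ext (by rw [Units.val_pow_eq_pow_val]; exact hgp)
      have h2 := orderOf_dvd_of_pow_eq_one h1
      rw [hg, hcu, hcard] at h2
      have h3 : p ^ d < p ^ e := Nat.pow_lt_pow_right hpp.one_lt hde
      have h4 : 1 < p ^ d := Nat.one_lt_pow hd0.ne' hpp.one_lt
      have := Nat.le_of_dvd (by omega) h2
      omega
    obtain ⟨F₁, r', P', hr', hc', hle⟩ := class5_of_realisable hRn hRA hF₀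
      (realisable_monomial hRA hRcom hE0 (fun a ha => ha.2) hω hEF F₀ hωF)
    exact hH (InClass.c5 hr' hc' hle)
  rcases Nat.even_or_odd e with ⟨e', he'⟩ | heodd
  · -- a unitary form
    set Q := p ^ e' with hQ
    have hQQ : p ^ e = Q * Q := by rw [he', pow_add]
    have he'0 : 0 < e' := by omega
    have hnQ : ¬ E ∣ Q - 1 := hminimal e' he'0 (by omega)
    have hQ1 : 1 ≤ Q := Nat.one_le_pow _ _ hpp.pos
    have hQE : E ∣ Q + 1 := by
      have hprod : E ∣ (Q - 1) * (Q + 1) := by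
        rw [mul_comm, ← Nat.sq_sub_sq, one_pow, pow_two, ← hQQ, ← hcard]
        exact hEq
      rcases hEcases with ⟨-, h⟩ | ⟨h2, h⟩
      · rw [h] at hprod hnQ ⊢
        exact (hr.dvd_mul.1 hprod).resolve_left hnQ
      · rw [h] at hprod hnQ ⊢
        have hpodd : Odd p := hpp.odd_of_ne_two fun hp2 => hrp (h2.trans hp2.symm)
        have hQodd : Odd Q := hpodd.pow
        rcases hQodd with ⟨k, hk⟩
        rw [hk] at hnQ ⊢
        omega
    let σ : F ≃+* F := iterateFrobeniusEquiv F p e'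
    have hσ : ∀ x, σ x = x ^ Q := fun x => iterateFrobeniusEquiv_def ..
    have hσ2 : ∀ a, σ (σ a) = a := fun a => by
      rw [hσ, hσ, ← pow_mul, ← hQQ, ← hcard]; exact FiniteField.pow_card a
    have hσne : σ ≠ RingEquiv.refl F := by
      intro h
      have := congrArg (fun τ : F ≃+* F => τ ω) h
      simp only [hσ, RingEquiv.refl_apply] at this
      refine hnQ ((hω.pow_eq_one_iff_dvd _).1 ?_)
      refine mul_right_cancel₀ (hω.ne_zero hE0.ne') ?_
      rw [← pow_succ, Nat.sub_add_cancel hQ1, one_mul, this]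
    obtain ⟨G, hG, hG0⟩ := exists_invForm_of_indep hindep hzF σ.toRingHom (fun c hc => by
      show σ c * (c : F) = 1
      obtain ⟨k, hk⟩ := hQE
      rw [hσ, ← pow_succ, hk, pow_mul, ← Units.val_pow_eq_pow_val, (hzR c).1 hc, Units.val_one, one_pow])
    obtain ⟨f, hf, hle⟩ := class8_of_invHerm hRn hRA σ hσ2 hσne hG hG0
    exact hH (InClass.c8unit hf hn hle)
  · -- symplectic type
    have hmf : IsMinimalFieldFor (Nat.card (Subgroup.center R)) p e F :=
      ⟨hpp, hp, hcard, by rw [hcenter, hzE, ← hcard]; exact hEq, by rw [hcenter, hzE]; exact hminimal⟩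
    have hcardR' : Nat.card R = r ^ (2 * mm) * E := by rw [hcardR, hzE, hnm, ← pow_add, two_mul]
    refine hH (InClass.c6 (r := r) (m := mm) (R := R) ⟨hsymp, hRA, p, e, hrp, hmf, ?_⟩ hnm ?_)
    · rcases hEcases with ⟨hodd, h⟩ | ⟨h2, h⟩
      · exact Or.inl ⟨hodd, heodd, by rw [hcenter, hzE, h], mm, hmm, by rw [hcardR', h, ← pow_succ]; congr 1; ring⟩
      · refine Or.inr (Or.inl ⟨h2, ?_, by rw [hcenter, hzE, h], ?_, mm, ?_⟩)
        · by_contra he1
          obtain ⟨k, hk⟩ := heodd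
          have hpodd : Odd p := hpp.odd_of_ne_two fun hp2 => hrp (h2.trans hp2.symm)
          refine hminimal 2 (by norm_num) (by omega) ?_
          rw [h]
          obtain ⟨a, rfl⟩ := hpodd
          exact ⟨a * a + a, by rw [show (2 * a + 1) ^ 2 = 4 * (a * a + a) + 1 by ring]; rfl⟩
        · rw [Fintype.card_fin, hnm, h2]
          rw [hnm, h2] at hn
          have : 2 ≤ mm := by
            by_contra hlt
            rw [show mm = 1 by omega] at hn
            norm_num at hn
          calc 4 = 2 ^ 2 := rfl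
            _ ≤ 2 ^ mm := Nat.pow_le_pow_right (by norm_num) this
        · rw [hcardR', h, h2, show (4 : ℕ) = 2 ^ 2 from rfl, ← pow_add]
          congr 1
          ring
    · intro h hh x
      refine ⟨fun hx => hRn h hh x hx, fun hx => ?_⟩
      have := hRn h⁻¹ (H.inv_mem hh) _ hx
      simpa [mul_assoc] using this

end CfsgLib.Perm.Asch
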