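import Cfsg.Agent.Lib.Perm.Asch.Commutative

/-!
# Matrix units and tensor decompositions
-/

set_option autoImplicit false
set_option linter.all false

namespace CfsgLib.Perm.Asch

open scoped Classical Matrix Kronecker
open Matrix

variable {ι : Type} [Fintype ι] [DecidableEq ι] {F : Type*} [Field F]
variable {κ : Type} [Fintype κ] [DecidableEq κ]

/-- a system of matrix units inside `Matrix ι ι F` -/
structure MatUnits (u : κ → κ → Matrix ι ι F) : Prop where
  mul : ∀ a b c d, u a b * u c d = if b = c then u a d else 0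
  sum_one : ∑ a, u a a = 1

/-- transport of matrices along a bijection of index sets -/
def rx {μ : Type} [Fintype μ] [DecidableEq μ] (e : ι ≃ μ) : Matrix μ μ F ≃ₐ[F] Matrix ι ι F :=
  Matrix.reindexAlgEquiv F F e.symm

@[simp] theorem rx_apply {μ : Type} [Fintype μ] [DecidableEq μ] (e : ι ≃ μ) (X : Matrix μ μ F) (i j : ι) :
    rx e X i j = X (e i) (e j) := rfl

/-- the matrix units of the left tensor factor -/
def lu (m : ℕ) (a b : κ) : Matrix (κ × Fin m) (κ × Fin m) F :=
  (Matrix.single a b (1 : F)) ⊗ₖ (1 : Matrix (Fin m) (Fin m) F)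

theorem lu_apply (m : ℕ) (a b : κ) (r c : κ × Fin m) :
    lu (F := F) m a b r c = if a = r.1 ∧ b = c.1 ∧ r.2 = c.2 then 1 else 0 := by
  obtain ⟨r1, r2⟩ := r
  obtain ⟨c1, c2⟩ := c
  simp only [lu, Matrix.kronecker_apply, Matrix.single_apply, Matrix.one_apply]
  split_ifs <;> simp_all

/-- Matrix units come from a tensor decomposition of the space. -/
theorem MatUnits.exists_basis [Nonempty κ] {u : κ → κ → Matrix ι ι F} (hu : MatUnits u) :
    ∃ m : ℕ, Nonempty (ι ≃ κ × Fin m) ∧ ∀ e : ι ≃ κ × Fin m, ∃ P : GL ι F,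
      ∀ a b, u a b = cj P (rx e (lu m a b)) := by
  let a0 : κ := Classical.arbitrary κ
  let W : Submodule F (ι → F) := LinearMap.range (Matrix.toLin' (u a0 a0))
  let m := Module.finrank F W
  let w : Module.Basis (Fin m) F W := Module.finBasis F W
  have hWfix : ∀ x : W, u a0 a0 *ᵥ (x : ι → F) = x := by
    rintro ⟨_, v, rfl⟩
    simp [hu.mul]
  let Φ : (κ → W) →ₗ[F] (ι → F) :=
    { toFun := fun x => ∑ a, u a a0 *ᵥ (x a : ι → F)
      map_add' := fun x y => by simp [mulVec_add, Finset.sum_add_distrib]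
      map_smul' := fun c x => by simp [mulVec_smul, Finset.smul_sum] }
  have hΦ : ∀ (x : κ → W) (c : κ), u a0 c *ᵥ Φ x = (x c : ι → F) := by
    intro x c
    show u a0 c *ᵥ (∑ a, u a a0 *ᵥ (x a : ι → F)) = _
    rw [Matrix.mulVec_sum, Finset.sum_eq_single c]
    · rw [mulVec_mulVec, hu.mul, if_pos rfl, hWfix]
    · intro a _ hac
      rw [mulVec_mulVec, hu.mul, if_neg (Ne.symm hac), zero_mulVec]
    · simp
  have hΦb : Function.Bijective Φ := by
    constructor
    · intro x y h
      funext c
      apply Subtype.ext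
      rw [← hΦ x c, ← hΦ y c, h]
    · intro v
      refine ⟨fun a => ⟨u a0 a *ᵥ v, u a0 a *ᵥ v, ?_⟩, ?_⟩
      · simp [hu.mul]
      · show ∑ a, u a a0 *ᵥ (u a0 a *ᵥ v) = v
        simp [mulVec_mulVec, hu.mul, ← Matrix.sum_mulVec, hu.sum_one]
  let bas : Module.Basis (Σ _ : κ, Fin m) F (κ → W) := Pi.basis fun _ => w
  let b : Module.Basis (κ × Fin m) F (ι → F) :=
    (bas.map (LinearEquiv.ofBijective Φ hΦb)).reindex (Equiv.sigmaEquivProd κ (Fin m))
  have hb : ∀ a j, b (a, j) = u a a0 *ᵥ (w j : ι → F) := by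
    intro a j
    have e1 : b (a, j) = Φ (bas ⟨a, j⟩) := by simp [b]
    rw [e1]
    show ∑ c, u c a0 *ᵥ ((bas ⟨a, j⟩ c : W) : ι → F) = _
    rw [Finset.sum_eq_single a]
    · simp [bas, Pi.basis_apply]
    · intro c _ hc
      simp [bas, Pi.basis_apply, Pi.single_eq_of_ne hc]
    · simp
  refine ⟨m, ?_, ?_⟩
  · exact ⟨((Pi.basisFun F ι).indexEquiv b)⟩
  intro e
  let M : Matrix ι ι F := fun i k => b (e k) i
  have hM : IsUnit M := by
    letI := (Pi.basisFun F ι).invertibleToMatrix (b.reindex e.symm)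
    have : M = (Pi.basisFun F ι).toMatrix (b.reindex e.symm) := by
      ext i k
      simp [M, Module.Basis.toMatrix_apply]
    rw [this]
    exact isUnit_of_invertible _
  obtain ⟨P, hP⟩ := hM
  refine ⟨P, fun a c => ?_⟩
  have key : u a c * (P : Matrix ι ι F) = (P : Matrix ι ι F) * rx e (lu m a c) := by
    rw [hP]
    ext i k
    rw [Matrix.mul_apply, Matrix.mul_apply]
    have h1 : ∑ l, u a c i l * M l k = (u a c *ᵥ b (e k)) i := rfl
    rw [h1]
    obtain ⟨d, j, hk⟩ : ∃ d j, e k = (d, j) := ⟨(e k).1, (e k).2, rfl⟩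
    rw [hk, hb, mulVec_mulVec, hu.mul]
    simp only [rx_apply, hk, lu_apply]
    by_cases hcd : c = d
    · subst hcd
      rw [if_pos rfl, Finset.sum_eq_single (e.symm (a, j)), ← hb]
      · simp [M]
      · intro l _ hl
        have : ¬ (a = (e l).1 ∧ (e l).2 = j) := fun h => hl (by
          apply e.injective; rw [e.apply_symm_apply]; exact Prod.ext h.1.symm h.2)
        simp only [true_and, this, if_false, mul_zero]
      · simp
    · simp [if_neg hcd, hcd]
  rw [cj, ← key, mul_assoc, gl_mul_inv, mul_one]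

/-- what commutes with the left units is a right tensor -/
theorem exists_right {m : ℕ} [Nonempty κ] (X : Matrix (κ × Fin m) (κ × Fin m) F)
    (h : ∀ a b, lu m a b * X = X * lu m a b) :
    ∃ B : Matrix (Fin m) (Fin m) F, X = (1 : Matrix κ κ F) ⊗ₖ B := by
  let a0 : κ := Classical.arbitrary κ
  refine ⟨Matrix.of fun j j' => X (a0, j) (a0, j'), ?_⟩
  have key : ∀ a b c d j j', (if c = a then X (b, j) (d, j') else 0) = (if b = d then X (c, j) (a, j') else 0) := by
    intro a b c d j j'
    have := congrFun (congrFun (h a b) (c, j)) (d, j')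
    rw [Matrix.mul_apply, Matrix.mul_apply] at this
    have l : ∑ x, lu (F := F) m a b (c, j) x * X x (d, j') = if c = a then X (b, j) (d, j') else 0 := by
      rw [Finset.sum_eq_single (b, j)]
      · by_cases hca : c = a
        · subst hca; simp [lu_apply]
        · simp [lu_apply, hca, Ne.symm hca]
      · rintro ⟨x1, x2⟩ _ hx
        rw [lu_apply, if_neg, zero_mul]
        rintro ⟨-, h2, h3⟩
        exact hx (Prod.ext h2.symm h3.symm)
      · simp
    have r : ∑ x, X (c, j) x * lu (F := F) m a b x (d, j') = if b = d then X (c, j) (a, j') else 0 := by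
      rw [Finset.sum_eq_single (a, j')]
      · by_cases hbd : b = d
        · subst hbd; simp [lu_apply]
        · simp [lu_apply, hbd]
      · rintro ⟨x1, x2⟩ _ hx
        rw [lu_apply, if_neg, mul_zero]
        rintro ⟨h1, -, h3⟩
        exact hx (Prod.ext h1.symm h3)
      · simp
    rw [l, r] at this
    exact this
  ext ⟨c, j⟩ ⟨d, j'⟩
  rw [Matrix.kronecker_apply, Matrix.one_apply, Matrix.of_apply]
  by_cases hcd : c = d
  · subst hcd
    have := key c a0 c a0 j j'
    simp only [if_true] at this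
    simp [this]
  · have := key c c c d j j'
    simp only [if_true, if_neg hcd] at this
    simp [hcd, this]

/-- Skolem–Noether for matrix algebras. -/
theorem skolem_noether [Nonempty κ] (φ : Matrix κ κ F →ₐ[F] Matrix κ κ F) :
    ∃ a : GL κ F, ∀ X, φ X = cj a X := by
  have hu : MatUnits (fun a b : κ => φ (Matrix.single a b 1)) :=
    ⟨fun a b c d => by
      rw [← map_mul]
      split_ifs with h
      · subst h; simp
      · simp [Matrix.single_mul_single_of_ne, h],
     by rw [← map_sum, Matrix.sum_single_one, map_one]⟩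
  obtain ⟨m, ⟨e0⟩, he⟩ := hu.exists_basis
  obtain rfl : m = 1 := by
    have := Fintype.card_congr e0
    rw [Fintype.card_prod, Fintype.card_fin] at this
    exact (Nat.eq_of_mul_eq_mul_left Fintype.card_pos ((mul_one _).trans this)).symm
  obtain ⟨a, ha⟩ := he (Equiv.prodUnique κ (Fin 1)).symm
  refine ⟨a, fun X => ?_⟩
  have hlu : ∀ i j : κ, rx (F := F) (Equiv.prodUnique κ (Fin 1)).symm (lu 1 i j) = Matrix.single i j 1 := by
    intro i j
    ext r c
    simp [lu_apply, Matrix.single_apply]
  conv_lhs => rw [Matrix.matrix_eq_sum_single X]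
  conv_rhs => rw [Matrix.matrix_eq_sum_single X]
  rw [map_sum, ← cjAlg_apply, map_sum]
  refine Finset.sum_congr rfl fun i _ => ?_
  rw [map_sum, map_sum]
  refine Finset.sum_congr rfl fun j _ => ?_
  rw [show Matrix.single i j (X i j) = X i j • Matrix.single i j (1 : F) by simp, map_smul, map_smul,
    ha, hlu, cjAlg_apply]

section Finite
variable [Fintype F]

/-- A subalgebra normalised by an irreducible group whose centre is the scalars is a full matrix
algebra, given by matrix units. -/
theorem exists_matUnits [Nonempty ι] {H : Subgroup (GL ι F)} (hH : Irred H)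
    {A : Subalgebra F (Matrix ι ι F)} (hn : Normalises H A)
    (hZ : ∀ z ∈ A, (∀ a ∈ A, z * a = a * z) → ∃ c : F, z = c • (1 : Matrix ι ι F)) :
    ∃ (d : ℕ) (u : Fin d → Fin d → Matrix ι ι F), 0 < d ∧ MatUnits u ∧ (∀ i j, u i j ∈ A) ∧
      ∀ a ∈ A, ∃ X : Matrix (Fin d) (Fin d) F, a = ∑ i, ∑ j, X i j • u i j := by
  haveI : IsArtinianRing A := IsArtinianRing.of_finite F A
  haveI hJ : IsSemisimpleRing A := by
    rw [IsArtinianRing.isSemisimpleRing_iff_jacobson]
    by_contra hne
    set J := Ring.jacobson A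
    obtain ⟨k0, hk0⟩ := IsSemiprimaryRing.isNilpotent (R := A)
    have hex : ∃ k, J ^ k = ⊥ := ⟨k0, hk0⟩
    have hS : NormalisesSet H ((fun j : A => (j : Matrix ι ι F)) '' (J : Set A)) := by
      rintro g hg _ ⟨j, hj, rfl⟩
      let f : A →+* A :=
        { toFun := fun a => ⟨cj g a, hn g hg a a.2⟩
          map_one' := Subtype.ext (cj_one g)
          map_mul' := fun a b => Subtype.ext (cj_mul g a b)
          map_zero' := Subtype.ext (by simp [cj])
          map_add' := fun a b => Subtype.ext (cj_add g a b) }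
      haveI : RingHomSurjective f := ⟨fun a =>
        ⟨⟨cj g⁻¹ a, hn _ (H.inv_mem hg) a a.2⟩, Subtype.ext (cj_cj_inv g a)⟩⟩
      exact ⟨f j, Ring.le_comap_jacobson f hj, rfl⟩
    set k := Nat.find hex with hk
    have hk1 : J ^ k = ⊥ := Nat.find_spec hex
    have hk2 : 1 < k := by
      by_contra h
      rcases (show k = 0 ∨ k = 1 by omega) with h | h <;> rw [h] at hk1
      · rw [Submodule.pow_zero, Ideal.one_eq_top] at hk1
        exact hne (le_bot_iff.1 (hk1 ▸ le_top))
      · rw [Submodule.pow_one] at hk1; exact hne hk1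
    obtain ⟨x, hx, hx0⟩ := Submodule.exists_mem_ne_zero_of_ne_bot
      (Nat.find_min hex (show k - 1 < k by omega))
    have hxv : ∃ v, (x : Matrix ι ι F) *ᵥ v ≠ 0 := by
      by_contra h
      push Not at h
      exact hx0 (Subtype.ext (Matrix.toLin'.injective (by rw [ZeroMemClass.coe_zero, map_zero]; exact LinearMap.ext h)))
    obtain ⟨v, hv⟩ := hxv
    have hkill : killed ((fun j : A => (j : Matrix ι ι F)) '' (J : Set A)) ≠ ⊥ := by
      intro h
      refine hv ((Submodule.eq_bot_iff _).1 h _ ?_)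
      rintro _ ⟨j, hj, rfl⟩
      have : j * x ∈ J ^ k := by
        rw [show k = 1 + (k - 1) by omega, Submodule.pow_add _ (by omega), Submodule.pow_one]
        exact Ideal.mul_mem_mul hj hx
      rw [hk1] at this
      rw [mulVec_mulVec, ← Subalgebra.coe_mul, (Submodule.mem_bot _).1 this]
      simp
    refine hne ((Submodule.eq_bot_iff _).2 fun j hj => Subtype.ext ?_)
    exact hH.eq_zero_of_killed hS hkill _ ⟨j, hj, rfl⟩
  obtain ⟨n, D, d, _, _, _, hd, ⟨Φ⟩⟩ := IsSemisimpleRing.exists_algEquiv_pi_matrix_divisionRing_finite F A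
  have hZ' : ∀ Y : (i : Fin n) → Matrix (Fin (d i)) (Fin (d i)) (D i), (∀ Y', Y * Y' = Y' * Y) →
      ∃ c : F, Y = c • 1 := by
    intro Y hY
    have hmem : ∀ a ∈ A, ((Φ.symm Y : A) : Matrix ι ι F) * a = a * (Φ.symm Y : A) := by
      intro a ha
      have : Φ.symm Y * ⟨a, ha⟩ = ⟨a, ha⟩ * Φ.symm Y := by
        apply Φ.injective; rw [map_mul, map_mul, Φ.apply_symm_apply]; exact hY _
      exact congrArg Subtype.val this
    obtain ⟨c, hc⟩ := hZ _ (Φ.symm Y).2 hmem
    refine ⟨c, ?_⟩
    have : Φ.symm Y = c • (1 : A) := Subtype.ext (by simpa using hc)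
    rw [← Φ.apply_symm_apply Y, this, map_smul, map_one]
  -- only one factor
  have hn1 : n = 1 := by
    by_contra hne
    rcases Nat.eq_zero_or_pos n with h0 | h0
    · subst h0
      have h10 : (1 : A) = 0 := Φ.injective (funext fun i => Fin.elim0 i)
      have : (1 : Matrix ι ι F) = 0 := congrArg Subtype.val h10
      exact one_ne_zero this
    · let i0 : Fin n := ⟨0, h0⟩
      let i1 : Fin n := ⟨1, by omega⟩
      have hi01 : i1 ≠ i0 := by simp [i0, i1]
      haveI := fun i => hd i
      let Y : (i : Fin n) → Matrix (Fin (d i)) (Fin (d i)) (D i) := Pi.single i0 1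
      obtain ⟨c, hc⟩ := hZ' Y (fun Y' => by
        funext i
        rcases eq_or_ne i i0 with rfl | h
        · simp [Y]
        · simp [Y, Pi.single_eq_of_ne h])
      have h0' := congrFun hc i0
      have h1' := congrFun hc i1
      simp [Y, Pi.single_eq_of_ne hi01] at h1'
      have hc0 : c = 0 := by
        by_contra hc0
        have := congrArg (fun M => c⁻¹ • M) h1'
        simp [smul_smul, hc0] at this
      subst hc0
      simp [Y] at h0'
  subst hn1
  haveI := hd 0
  haveI hfinD : Finite (D 0) := Module.finite_of_finite F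
  -- the division ring is `F`
  have hD : ∀ x : D 0, ∃ c : F, x = c • (1 : D 0) := by
    intro x
    have hcomm : ∀ y : D 0, x * y = y * x := fun y => (littleWedderburn (D 0)).mul_comm x y
    let Y : (i : Fin 1) → Matrix (Fin (d i)) (Fin (d i)) (D i) := fun i =>
      (Fin.fin_one_eq_zero i) ▸ Matrix.scalar (Fin (d 0)) x
    obtain ⟨c, hc⟩ := hZ' Y (fun Y' => by
      funext i
      obtain rfl := Fin.fin_one_eq_zero i
      exact (Matrix.scalar_commute x (fun y => hcomm y) (Y' 0)).eq)
    refine ⟨c, ?_⟩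
    have := congrFun (congrFun (congrFun hc 0) ⟨0, Nat.pos_of_ne_zero (NeZero.ne _)⟩) ⟨0, Nat.pos_of_ne_zero (NeZero.ne _)⟩
    simpa [Y] using this
  let E : Fin (d 0) → Fin (d 0) → (i : Fin 1) → Matrix (Fin (d i)) (Fin (d i)) (D i) :=
    fun a b => Pi.single 0 (Matrix.single a b 1)
  have hEmul : ∀ a b c e, E a b * E c e = if b = c then E a e else 0 := by
    intro a b c e
    funext i
    obtain rfl := Fin.fin_one_eq_zero i
    by_cases h : b = c
    · subst h; simp [E]
    · simp [E, h, Matrix.single_mul_single_of_ne, h]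
  have hEsum : ∑ a, E a a = 1 := by
    funext i
    obtain rfl := Fin.fin_one_eq_zero i
    simp [E, Matrix.sum_single_one]
  refine ⟨d 0, fun a b => ((Φ.symm (E a b) : A) : Matrix ι ι F), Nat.pos_of_ne_zero (NeZero.ne _),
    ⟨fun a b c e => ?_, ?_⟩, fun a b => (Φ.symm _).2, ?_⟩
  · rw [← Subalgebra.coe_mul, ← map_mul, hEmul]
    split_ifs
    · rfl
    · rw [map_zero]; rfl
  · rw [← AddSubmonoidClass.coe_finset_sum, ← map_sum, hEsum, map_one]; rfl
  · intro a ha
    choose X hX using fun r s => hD (Φ ⟨a, ha⟩ 0 r s)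
    refine ⟨X, ?_⟩
    have h1 : Φ ⟨a, ha⟩ = ∑ r, ∑ s, X r s • E r s := by
      funext i
      obtain rfl := Fin.fin_one_eq_zero i
      conv_lhs => rw [Matrix.matrix_eq_sum_single (Φ ⟨a, ha⟩ 0)]
      simp only [Finset.sum_apply, Pi.smul_apply]
      refine Finset.sum_congr rfl fun r _ => Finset.sum_congr rfl fun s _ => ?_
      simp [E, hX r s]
    have h2 : (⟨a, ha⟩ : A) = ∑ r, ∑ s, X r s • Φ.symm (E r s) := by
      apply Φ.injective
      rw [h1]
      simp [map_sum, map_smul]
    have h3 := congrArg Subtype.val h2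
    simpa using h3

end Finite

end CfsgLib.Perm.Asch
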